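import Groth.Agent.ParaFLib.TensorPow
import Mathlib.AlgebraicGeometry.Morphisms.Affine

/-! The locus `CohB1.genLocus` where a global section generates an invertible module. -/

set_option autoImplicit false
universe u

open CategoryTheory AlgebraicGeometry TopologicalSpace Opposite
open Groth.Agent.ParaFLib Groth.Agent.PullbackMod

noncomputable section

namespace Groth.Agent.AmpleLib

variable {X : Scheme.{u}} {L : X.Modules}

/-- The global section attached to a map `O_X ⟶ L`. -/
def sec (s : Coh.structureModule X ⟶ L) : Γ(L, ⊤) := s.app ⊤ (1 : Γ(X, ⊤))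

/-- The restriction of a global section to an open. -/
abbrev resT (σ : Γ(L, ⊤)) (O : X.Opens) : Γ(L, O) := L.presheaf.map (homOfLE (le_top : O ≤ ⊤)).op σ

theorem app_eq (s : Coh.structureModule X ⟶ L) (O : X.Opens) (r : Γ(X, O)) :
    s.app O r = r • resT (sec s) O := by
  have h1 : s.app O r = s.app O (r • (1 : Γ(X, O))) := congrArg (s.app O) (mul_one r).symm
  refine h1.trans ((Scheme.Modules.Hom.app_smul s r (1 : Γ(X, O))).trans ?_)
  exact congrArg (fun v : Γ(L, O) => r • v) (DCohLib.app_one_natural s (le_top : O ≤ ⊤)).symm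

theorem sec_secHom (σ : Γ(L, ⊤)) : sec (DCohLib.secHom L σ) = σ :=
  (DCohLib.secHom_app_one L σ ⊤).trans (res_self _ σ)

theorem secHom_sec (s : Coh.structureModule X ⟶ L) : DCohLib.secHom L (sec s) = s :=
  DCohLib.hom_unit_ext (sec_secHom (sec s))

theorem isIso_restrict_iff (s : Coh.structureModule X ⟶ L) (U : X.Opens) :
    IsIso ((Scheme.Modules.restrictFunctor U.ι).map s) ↔ Gen U (resT (sec s) U) := by
  rw [Scheme.Modules.Hom.isIso_iff_isIso_app]
  constructor
  · intro h O hO
    obtain ⟨a, rfl⟩ : ∃ a : (U : Scheme.{u}).Opens, U.ι ''ᵁ a = O :=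
      ⟨U.ι ⁻¹ᵁ O, by rw [Scheme.Hom.image_preimage_eq_opensRange_inf, Scheme.Opens.opensRange_ι, inf_eq_right.2 hO]⟩
    have hb : Function.Bijective (fun r : Γ(X, U.ι ''ᵁ a) => s.app (U.ι ''ᵁ a) r) :=
      (haveI := h a; ConcreteCategory.bijective_of_isIso (((Scheme.Modules.restrictFunctor U.ι).map s).app a) :)
    rw [funext fun r => app_eq s (U.ι ''ᵁ a) r] at hb
    simpa only [resT, res_res] using hb
  · intro h a
    rw [ConcreteCategory.isIso_iff_bijective]
    have := h (U.ι ''ᵁ a) ((U.ι.image_mono le_top).trans U.ι_image_top.le)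
    simp only [resT, res_res] at this
    show Function.Bijective (fun r : Γ(X, U.ι ''ᵁ a) => s.app (U.ι ''ᵁ a) r)
    rw [funext fun r => app_eq s (U.ι ''ᵁ a) r]
    exact this

theorem mem_genLocus_iff' {s : Coh.structureModule X ⟶ L} {x : X} :
    x ∈ CohB1.genLocus L s ↔ ∃ U : X.Opens, x ∈ U ∧ Gen U (resT (sec s) U) := by
  rw [CohB1.genLocus, Opens.mem_sSup]
  constructor
  · rintro ⟨U, hU, hx⟩
    exact ⟨U, hx, (isIso_restrict_iff s U).1 hU⟩
  · rintro ⟨U, hx, hU⟩
    exact ⟨U, (isIso_restrict_iff s U).2 hU, hx⟩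

/-- If `s = a • e` with `e` a basis on `W`, then `X_s ∩ W` is the non-vanishing locus of `a`. -/
theorem genLocus_inf_eq_basicOpen (s : Coh.structureModule X ⟶ L) {W : X.Opens} {e : Γ(L, W)}
    (he : Gen W e) {a : Γ(X, W)} (ha : a • e = resT (sec s) W) :
    CohB1.genLocus L s ⊓ W = X.basicOpen a := by
  refine le_antisymm ?_ (fun x hx => ⟨?_, X.basicOpen_le a hx⟩)
  · rintro x ⟨hs, hxW⟩
    obtain ⟨U, hxU, hU⟩ := mem_genLocus_iff'.1 hs
    rw [X.mem_basicOpen a x hxW]
    obtain ⟨b, hb⟩ := (hU.bijective_germ x hxU).2 (L.presheaf.germ W x hxW e)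
    change b • L.presheaf.germ U x hxU (resT (sec s) U) = _ at hb
    refine IsUnit.of_mul_eq_one b ?_
    apply (he.bijective_germ x hxW).1
    show (_ * b) • _ = (1 : X.presheaf.stalk x) • _
    rw [one_smul]
    have h1 : L.presheaf.germ U x hxU (resT (sec s) U) =
        X.presheaf.germ W x hxW a • L.presheaf.germ W x hxW e := by
      rw [← germ_smul', ha, TopCat.Presheaf.germ_res_apply, TopCat.Presheaf.germ_res_apply]
    rw [h1, ← mul_smul, mul_comm] at hb
    exact hb
  · refine mem_genLocus_iff'.2 ⟨X.basicOpen a, hx, ?_⟩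
    have hle : X.basicOpen a ≤ W := X.basicOpen_le a
    have h2 : resT (sec s) (X.basicOpen a) =
        X.presheaf.map (homOfLE hle).op a • L.presheaf.map (homOfLE hle).op e := by
      rw [← L.map_smul, ha, resT, res_res]
    rw [h2]
    exact (he.res hle).smul (RingedSpace.isUnit_res_basicOpen _ a)

theorem mem_genLocus_iff (hL : PicF.IsInvertible L) {s : Coh.structureModule X ⟶ L} {x : X} :
    x ∈ CohB1.genLocus L s ↔
      Function.Bijective fun r : X.presheaf.stalk x => r • L.presheaf.germ ⊤ x trivial (sec s) := by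
  constructor
  · intro h
    obtain ⟨U, hxU, hU⟩ := mem_genLocus_iff'.1 h
    have := hU.bijective_germ x hxU
    simpa only [resT, TopCat.Presheaf.germ_res_apply] using this
  · intro h
    obtain ⟨W, e, hxW, he⟩ := exists_gen_nhd hL x
    obtain ⟨a, ha⟩ := (he W le_rfl).2 (resT (sec s) W)
    simp only [res_self] at ha
    refine ((genLocus_inf_eq_basicOpen s he ha).ge ?_).1
    rw [X.mem_basicOpen a x hxW]
    obtain ⟨b, hb⟩ := h.2 (L.presheaf.germ W x hxW e)
    refine IsUnit.of_mul_eq_one b ?_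
    apply (he.bijective_germ x hxW).1
    show (_ * b) • _ = (1 : X.presheaf.stalk x) • _
    rw [one_smul, mul_comm, mul_smul, ← germ_smul', ha, TopCat.Presheaf.germ_res_apply]
    exact hb

theorem isAffineHom_genLocus_ι (hL : PicF.IsInvertible L) (s : Coh.structureModule X ⟶ L) :
    IsAffineHom (CohB1.genLocus L s).ι := by
  refine isAffineHom_of_forall_exists_isAffineOpen _ fun x => ?_
  obtain ⟨W₀, e, hxW, he⟩ := exists_gen_nhd hL x
  obtain ⟨_, ⟨W, hW, rfl⟩, hx, hle⟩ :=
    X.isBasis_affineOpens.exists_subset_of_mem_open hxW W₀.isOpen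
  refine ⟨W, hx, hW, ?_⟩
  obtain ⟨a, ha⟩ := ((he.res hle) W le_rfl).2 (resT (sec s) W)
  simp only [res_self] at ha
  rw [← Scheme.Hom.isAffineOpen_iff_of_isOpenImmersion (CohB1.genLocus L s).ι,
    Scheme.Hom.image_preimage_eq_opensRange_inf, Scheme.Opens.opensRange_ι,
    genLocus_inf_eq_basicOpen s (he.res hle) ha]
  exact hW.basicOpen a

theorem isAffineOpen_inf_genLocus (hL : PicF.IsInvertible L) (s : Coh.structureModule X ⟶ L)
    {V : X.Opens} (hV : IsAffineOpen V) : IsAffineOpen (CohB1.genLocus L s ⊓ V) := by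
  have := isAffineHom_genLocus_ι hL s
  have h := hV.preimage (CohB1.genLocus L s).ι
  rw [← Scheme.Hom.isAffineOpen_iff_of_isOpenImmersion (CohB1.genLocus L s).ι,
    Scheme.Hom.image_preimage_eq_opensRange_inf, Scheme.Opens.opensRange_ι] at h
  exact h

end Groth.Agent.AmpleLib
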