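import Groth.Agent.AmpleLib.GenLocus
import Groth.Agent.ModTensor.Basic
import Groth.Agent.DCohLib.Assoc

/-! Tensor products and powers of invertible modules and of their sections. -/

set_option autoImplicit false
universe u

open CategoryTheory AlgebraicGeometry TopologicalSpace Opposite
open Groth.Agent.ParaFLib Groth.Agent.PullbackMod Groth.Agent.DCohLib
open scoped TensorProduct

noncomputable section

namespace Groth.Agent.AmpleLib

variable {X : Scheme.{u}}

/-! ### Bases -/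

theorem gen_of_germ {L : X.Modules} {W : X.Opens} {s : Γ(L, W)}
    (h : ∀ (x : X) (hx : x ∈ W), Function.Bijective fun r : X.presheaf.stalk x => r • L.presheaf.germ W x hx s) :
    Gen W s := by
  let F : TopCat.Sheaf Ab.{u} X.carrier := ⟨L.presheaf, L.isSheaf⟩
  have hinj : ∀ (O : X.Opens) (hO : O ≤ W), Function.Injective fun r : Γ(X, O) => r • L.presheaf.map (homOfLE hO).op s := by
    intro O hO r r' e
    refine TopCat.Presheaf.section_ext X.sheaf O r r' fun x hx => (h x (hO hx)).1 ?_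
    show X.presheaf.germ O x hx r • _ = X.presheaf.germ O x hx r' • _
    have := congrArg (L.presheaf.germ O x hx) e
    rw [germ_smul', germ_smul', TopCat.Presheaf.germ_res_apply] at this
    exact this
  intro O hO
  refine ⟨hinj O hO, fun v => ?_⟩
  have loc : ∀ x : O, ∃ (V : X.Opens) (_ : x.1 ∈ V) (hV : V ≤ O) (r : Γ(X, V)),
      r • L.presheaf.map (homOfLE (hV.trans hO)).op s = L.presheaf.map (homOfLE hV).op v := by
    rintro ⟨x, hx⟩
    obtain ⟨c, hc⟩ := (h x (hO hx)).2 (L.presheaf.germ O x hx v)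
    obtain ⟨U, hU, a, rfl⟩ := TopCat.Presheaf.exists_germ_eq X.presheaf c
    have hx' : x ∈ U ⊓ O := ⟨hU, hx⟩
    change X.presheaf.germ U x hU a • L.presheaf.germ W x (hO hx) s = _ at hc
    rw [← TopCat.Presheaf.germ_res_apply X.presheaf (homOfLE (inf_le_left : U ⊓ O ≤ U)) x hx',
      ← TopCat.Presheaf.germ_res_apply L.presheaf (homOfLE ((inf_le_right : U ⊓ O ≤ O).trans hO)) x hx',
      ← germ_smul', ← TopCat.Presheaf.germ_res_apply L.presheaf (homOfLE (inf_le_right : U ⊓ O ≤ O)) x hx'] at hc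
    obtain ⟨V, hV, i, i', hVeq⟩ := TopCat.Presheaf.germ_eq L.presheaf x hx' hx' _ _ hc
    rw [show i = homOfLE (leOfHom i) from rfl, show i' = homOfLE (leOfHom i') from rfl, L.map_smul,
      res_res, res_res] at hVeq
    exact ⟨V, hV, (leOfHom i).trans inf_le_right, _, hVeq⟩
  choose V hxV hV r hr using loc
  obtain ⟨g, hg, -⟩ := X.sheaf.existsUnique_gluing' V O (fun x => homOfLE (hV x))
    (fun x hx => Opens.mem_iSup.2 ⟨⟨x, hx⟩, hxV ⟨x, hx⟩⟩) r (by
      intro i j
      refine hinj (V i ⊓ V j) (inf_le_left.trans ((hV i).trans hO)) ?_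
      have ei := congrArg (L.presheaf.map (homOfLE (inf_le_left : V i ⊓ V j ≤ V i)).op) (hr i)
      have ej := congrArg (L.presheaf.map (homOfLE (inf_le_right : V i ⊓ V j ≤ V j)).op) (hr j)
      rw [L.map_smul, res_res, res_res] at ei ej
      exact ei.trans ej.symm)
  refine ⟨g, F.eq_of_locally_eq' V O (fun x => homOfLE (hV x))
    (fun x hx => Opens.mem_iSup.2 ⟨⟨x, hx⟩, hxV ⟨x, hx⟩⟩) _ _ fun x => ?_⟩
  have eg : X.presheaf.map (homOfLE (hV x)).op g = r x := hg x
  show L.presheaf.map (homOfLE (hV x)).op ((show Γ(X, O) from g) • L.presheaf.map (homOfLE hO).op s) = _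
  rw [L.map_smul, eg, res_res]
  exact hr x

theorem bijective_smul_iff {R : Type*} [CommRing R] {M : Type*} [AddCommGroup M] [Module R M] {e : M}
    (he : Function.Bijective fun r : R => r • e) (a : R) :
    (Function.Bijective fun r : R => r • a • e) ↔ IsUnit a := by
  constructor
  · intro h
    obtain ⟨b, hb⟩ := h.2 e
    refine IsUnit.of_mul_eq_one b (he.1 ?_)
    change b • a • e = e at hb
    show (a * b) • e = (1 : R) • e
    rw [one_smul, mul_comm, mul_smul, hb]
  · rintro ⟨u, rfl⟩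
    rw [funext fun r : R => show r • (u : R) • e = (r * u) • e from (mul_smul _ _ _).symm]
    exact he.comp u.mulRight.bijective

/-! ### Tensor products -/

/-- The tensor product, as `CohB1.tensorMod`. -/
abbrev tmul (L M : X.Modules) : X.Modules := CohB1.tensorMod L M

theorem germ_pairS {L M : X.Modules} {W : X.Opens} (s : Γ(L, W)) (t : Γ(M, W)) (x : X) (hx : x ∈ W) :
    (tmod L M).presheaf.germ W x hx (pairS L M s t) =
      stalkTensor x L M (L.presheaf.germ W x hx s ⊗ₜ M.presheaf.germ W x hx t) :=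
  (stalkTensorHom_tmul x hx s t).symm

theorem bijective_stalkTensor {L M : X.Modules} {x : X} {a : L.presheaf.stalk x} {b : M.presheaf.stalk x}
    (ha : Function.Bijective fun r : X.presheaf.stalk x => r • a)
    (hb : Function.Bijective fun r : X.presheaf.stalk x => r • b) :
    Function.Bijective fun r : X.presheaf.stalk x => r • stalkTensor x L M (a ⊗ₜ b) := by
  have : (fun r : X.presheaf.stalk x => r • stalkTensor x L M (a ⊗ₜ b)) =
      stalkTensor x L M ∘ fun r : X.presheaf.stalk x => r • (a ⊗ₜ[X.presheaf.stalk x] b) :=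
    funext fun r => ((stalkTensor x L M).map_smul r _).symm
  exact Eq.mpr (congrArg Function.Bijective this) ((stalkTensor x L M).bijective.comp (bijective_smul_tmul ha hb))

theorem gen_pairS {L M : X.Modules} {W : X.Opens} {s : Γ(L, W)} {t : Γ(M, W)} (hs : Gen W s) (ht : Gen W t) :
    Gen W (pairS L M s t) := gen_of_germ fun x hx => by
  rw [germ_pairS]
  exact bijective_stalkTensor (hs.bijective_germ x hx) (ht.bijective_germ x hx)

theorem isInvertible_of_gen {L : X.Modules}
    (h : ∀ x : X, ∃ (W : X.Opens) (s : Γ(L, W)), x ∈ W ∧ Gen W s) : PicF.IsInvertible L := fun x => by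
  obtain ⟨W, s, hx, hs⟩ := h x
  exact ⟨W, hx, nonempty_iso_of_gen hs⟩

theorem isInvertible_tensor {L M : X.Modules} (hL : PicF.IsInvertible L) (hM : PicF.IsInvertible M) :
    PicF.IsInvertible (CohB1.tensorMod L M) := isInvertible_of_gen fun x => by
  obtain ⟨W, s, hx, hs⟩ := exists_gen_nhd hL x
  obtain ⟨W', t, hx', ht⟩ := exists_gen_nhd hM x
  exact ⟨W ⊓ W', pairS L M _ _, ⟨hx, hx'⟩, gen_pairS (hs.res inf_le_left) (ht.res inf_le_right)⟩

theorem isInvertible_tensorPow {L : X.Modules} (hL : PicF.IsInvertible L) :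
    ∀ n, PicF.IsInvertible (CohB1.tensorPow L n)
  | 0 => isInvertible_structureModule
  | n + 1 => isInvertible_tensor (isInvertible_tensorPow hL n) hL

/-! ### Isomorphisms -/

/-- Tensor product of two isomorphisms. -/
def tIso {L L' M M' : X.Modules} (e : L ≅ L') (f : M ≅ M') :
    CohB1.tensorMod L M ≅ CohB1.tensorMod L' M' :=
  ((DCoh.tensorBi (X := X)).mapIso e).app M ≪≫ ((DCoh.tensorBi (X := X)).obj L').mapIso f

/-- `L ⊗ O ≅ L`. -/
def unitR (L : X.Modules) : CohB1.tensorMod L (Coh.structureModule X) ≅ L :=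
  (Groth.Agent.ModTensor.tensorUnitRight X.sheaf).app L

/-- Symmetry. -/
def comm (L M : X.Modules) : CohB1.tensorMod L M ≅ CohB1.tensorMod M L :=
  Groth.Agent.ModTensor.tensComm X.sheaf L M

/-- Associativity. -/
def assoc (L M N : X.Modules) :
    CohB1.tensorMod (CohB1.tensorMod L M) N ≅ CohB1.tensorMod L (CohB1.tensorMod M N) :=
  Groth.Agent.DCohLib.assocApp X.sheaf L M N

/-- `O ⊗ L ≅ L`. -/
def unitL (L : X.Modules) : CohB1.tensorMod (Coh.structureModule X) L ≅ L :=
  comm _ _ ≪≫ unitR L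

/-- `L^{⊗ 1} ≅ L`. -/
def powOne (L : X.Modules) : CohB1.tensorPow L 1 ≅ L := unitL L

/-- Powers of isomorphic modules. -/
def powCongr {L M : X.Modules} (e : L ≅ M) : ∀ n, CohB1.tensorPow L n ≅ CohB1.tensorPow M n
  | 0 => Iso.refl _
  | n + 1 => tIso (powCongr e n) e

/-- `L^{⊗ (m + n)} ≅ L^{⊗ m} ⊗ L^{⊗ n}`. -/
def powAdd (L : X.Modules) (m : ℕ) :
    ∀ n, CohB1.tensorPow L (m + n) ≅ CohB1.tensorMod (CohB1.tensorPow L m) (CohB1.tensorPow L n)
  | 0 => (unitR _).symm
  | n + 1 => tIso (powAdd L m n) (Iso.refl L) ≪≫ assoc _ _ _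

/-- `(L^{⊗ m})^{⊗ n} ≅ L^{⊗ (m n)}`. -/
def powMul (L : X.Modules) (m : ℕ) :
    ∀ n, CohB1.tensorPow (CohB1.tensorPow L m) n ≅ CohB1.tensorPow L (m * n)
  | 0 => Iso.refl _
  | n + 1 => tIso (powMul L m n) (Iso.refl _) ≪≫ (powAdd L (m * n) m).symm

/-- `(A ⊗ B) ⊗ (C ⊗ D) ≅ (A ⊗ C) ⊗ (B ⊗ D)`. -/
def interchange (A B C D : X.Modules) :
    CohB1.tensorMod (CohB1.tensorMod A B) (CohB1.tensorMod C D) ≅
      CohB1.tensorMod (CohB1.tensorMod A C) (CohB1.tensorMod B D) :=
  assoc A B _ ≪≫ tIso (Iso.refl A) ((assoc B C D).symm ≪≫ tIso (comm B C) (Iso.refl D) ≪≫ assoc C B D) ≪≫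
    (assoc A C _).symm

/-- `(L ⊗ M)^{⊗ n} ≅ L^{⊗ n} ⊗ M^{⊗ n}`. -/
def powTensor (L M : X.Modules) :
    ∀ n, CohB1.tensorPow (CohB1.tensorMod L M) n ≅
      CohB1.tensorMod (CohB1.tensorPow L n) (CohB1.tensorPow M n)
  | 0 => (unitR _).symm
  | n + 1 => tIso (powTensor L M n) (Iso.refl _) ≪≫ interchange _ _ _ _

/-- `O^{⊗ n} ≅ O`. -/
def powUnit : ∀ n, CohB1.tensorPow (Coh.structureModule X) n ≅ Coh.structureModule X
  | 0 => Iso.refl _
  | n + 1 => tIso (powUnit n) (Iso.refl _) ≪≫ unitR _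

/-! ### Sections -/

theorem genLocus_comp_iso {L L' : X.Modules} (s : Coh.structureModule X ⟶ L) (e : L ≅ L') :
    CohB1.genLocus L' (s ≫ e.hom) = CohB1.genLocus L s := by
  refine congrArg sSup (Set.ext fun U => ?_)
  show IsIso ((Scheme.Modules.restrictFunctor U.ι).map (s ≫ e.hom)) ↔ IsIso _
  rw [Functor.map_comp]
  exact isIso_comp_right_iff _ _

/-- The product of two sections. -/
def tensorS {L M : X.Modules} (s : Coh.structureModule X ⟶ L) (t : Coh.structureModule X ⟶ M) :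
    Coh.structureModule X ⟶ CohB1.tensorMod L M :=
  secHom (tmod L M) (pairS L M (sec s) (sec t))

theorem genLocus_tensorS {L M : X.Modules} (hL : PicF.IsInvertible L) (hM : PicF.IsInvertible M)
    (s : Coh.structureModule X ⟶ L) (t : Coh.structureModule X ⟶ M) :
    CohB1.genLocus _ (tensorS s t) = CohB1.genLocus L s ⊓ CohB1.genLocus M t := by
  ext x
  show x ∈ CohB1.genLocus _ (tensorS s t) ↔ x ∈ CohB1.genLocus L s ∧ x ∈ CohB1.genLocus M t
  rw [mem_genLocus_iff (isInvertible_tensor hL hM), mem_genLocus_iff hL, mem_genLocus_iff hM]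
  show (Function.Bijective fun r : X.presheaf.stalk x => r • (tmod L M).presheaf.germ ⊤ x (Opens.mem_top x) (sec (L := tmod L M) (tensorS s t))) ↔ _
  rw [show sec (L := tmod L M) (tensorS s t) = pairS L M (sec s) (sec t) from sec_secHom (L := tmod L M) _, germ_pairS]
  refine ⟨fun h => ?_, fun h => bijective_stalkTensor h.1 h.2⟩
  obtain ⟨e, he⟩ := exists_stalk_gen hL x
  obtain ⟨e', he'⟩ := exists_stalk_gen hM x
  obtain ⟨a, ha⟩ := he.2 (L.presheaf.germ ⊤ x (Opens.mem_top x) (sec s))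
  obtain ⟨b, hb⟩ := he'.2 (M.presheaf.germ ⊤ x (Opens.mem_top x) (sec t))
  simp only at ha hb
  rw [← ha, ← hb, bijective_smul_iff he, bijective_smul_iff he']
  rw [← ha, ← hb, show (a • e) ⊗ₜ[X.presheaf.stalk x] (b • e') = (a * b) • (e ⊗ₜ[X.presheaf.stalk x] e') by
      rw [TensorProduct.tmul_smul, ← TensorProduct.smul_tmul', smul_smul, mul_comm b a], map_smul,
    bijective_smul_iff (bijective_stalkTensor he he')] at h
  exact ⟨isUnit_of_mul_isUnit_left h, isUnit_of_mul_isUnit_right h⟩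

/-- Powers of a section. -/
def powS {L : X.Modules} (s : Coh.structureModule X ⟶ L) :
    ∀ n, Coh.structureModule X ⟶ CohB1.tensorPow L n
  | 0 => 𝟙 _
  | n + 1 => tensorS (powS s n) s

theorem genLocus_id : CohB1.genLocus (Coh.structureModule X) (𝟙 _) = ⊤ :=
  top_le_iff.1 (le_sSup (show IsIso ((Scheme.Modules.restrictFunctor (⊤ : X.Opens).ι).map (𝟙 (Coh.structureModule X))) by
    infer_instance))

theorem genLocus_powS {L : X.Modules} (hL : PicF.IsInvertible L) (s : Coh.structureModule X ⟶ L) :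
    ∀ n, CohB1.genLocus _ (powS s (n + 1)) = CohB1.genLocus L s
  | 0 => by
    show CohB1.genLocus _ (tensorS (powS s 0) s) = _
    rw [genLocus_tensorS (isInvertible_tensorPow hL 0) hL]
    exact (congrArg (· ⊓ CohB1.genLocus L s) genLocus_id).trans (top_inf_eq _)
  | n + 1 => by
    show CohB1.genLocus _ (tensorS (powS s (n + 1)) s) = _
    rw [genLocus_tensorS (isInvertible_tensorPow hL (n + 1)) hL, genLocus_powS hL s n, inf_idem]

end Groth.Agent.AmpleLib
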