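import Groth.Agent.AmpleLib.Basis
import Groth.Prelude.Def_Mor2
import Mathlib.AlgebraicGeometry.PullbackCarrier

/-! Relative ampleness: locality on the base and stability properties. -/

set_option autoImplicit false
set_option linter.style.haveILetI false
universe u

open CategoryTheory CategoryTheory.Limits AlgebraicGeometry TopologicalSpace Opposite
open Groth.Agent.ParaFLib Groth.Agent.PullbackMod Groth.Agent.DCohLib

noncomputable section

namespace Groth.Agent.AmpleLib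

variable {X X' Y : Scheme.{u}} {L : X.Modules}

/-- `L` is ample on the open `U`. -/
abbrev AmpleOn (L : X.Modules) (U : X.Opens) : Prop := CohB1.IsAmple (L.restrict U.ι)

theorem isCompact_of_ampleOn {U : X.Opens} (h : AmpleOn L U) : IsCompact (U : Set X) :=
  isCompact_iff_compactSpace.2 h.2.1

theorem AmpleOn.mono {U V : X.Opens} (h : AmpleOn L U) (hVU : V ≤ U) (hV : IsCompact (V : Set X)) :
    AmpleOn L V := by
  haveI : CompactSpace (V : Scheme.{u}) := isCompact_iff_compactSpace.1 hV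
  exact isAmple_of_iso ((restrictComp _ _ L).symm ≪≫ restrictCongr (X.homOfLE_ι hVU) L)
    (isAmple_restrict (X.homOfLE hVU) h)

theorem ampleOn_iff_of_range {W : Scheme.{u}} (j : W ⟶ X) [IsOpenImmersion j] :
    CohB1.IsAmple (L.restrict j) ↔ AmpleOn L j.opensRange := by
  constructor
  · intro h
    haveI := h.2.1
    haveI : CompactSpace (j.opensRange : Scheme.{u}) :=
      isCompact_iff_compactSpace.1 (isCompact_range j.continuous)
    exact isAmple_of_iso ((restrictComp _ _ L).symm ≪≫ restrictCongr j.isoOpensRange_inv_comp L)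
      (isAmple_restrict j.isoOpensRange.inv h)
  · intro h
    haveI := h.2.1
    haveI : CompactSpace W := QuasiCompact.compactSpace_of_compactSpace j.isoOpensRange.hom
    exact isAmple_of_iso ((restrictComp _ _ L).symm ≪≫ restrictCongr j.isoOpensRange_hom_ι L)
      (isAmple_restrict j.isoOpensRange.hom h)

theorem ampleOn_top_iff : AmpleOn L ⊤ ↔ CohB1.IsAmple L := by
  have h := ampleOn_iff_of_range (L := L) (𝟙 X)
  rw [show (𝟙 X : X ⟶ X).opensRange = ⊤ from Scheme.Hom.opensRange_of_isIso _] at h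
  exact h.symm.trans ⟨isAmple_of_iso ((Scheme.Modules.restrictFunctorId).app L),
    isAmple_of_iso ((Scheme.Modules.restrictFunctorId).app L).symm⟩

theorem gen_restrict_iff {W : Scheme.{u}} (j : W ⟶ X) [IsOpenImmersion j] (M : X.Modules) (a : W.Opens)
    (v : Γ(M, j ''ᵁ a)) : Gen (L := M.restrict j) a v ↔ Gen (L := M) (j ''ᵁ a) v := by
  have key : ∀ (b : W.Opens) (hb : b ≤ a) (r : Γ(W, b)),
      r • (M.restrict j).presheaf.map (homOfLE hb).op (show Γ(M.restrict j, a) from v) =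
        (show Γ(M.restrict j, b) from (j.appIso b).inv r • M.presheaf.map (homOfLE (j.image_mono hb)).op v) :=
    fun b hb r => rfl
  constructor
  · intro h O hO
    obtain ⟨b, hb, rfl⟩ : ∃ b : W.Opens, b ≤ a ∧ j ''ᵁ b = O := by
      refine ⟨j ⁻¹ᵁ O, fun w hw => ?_, ?_⟩
      · obtain ⟨w', hw', e⟩ := hO hw
        exact j.isOpenEmbedding.injective e ▸ hw'
      · rw [Scheme.Hom.image_preimage_eq_opensRange_inf, inf_eq_right]
        exact hO.trans (j.image_le_opensRange _)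
    have h' := h b hb
    rw [funext (key b hb)] at h'
    exact (Function.Bijective.of_comp_iff (fun r : Γ(X, j ''ᵁ b) => r • M.presheaf.map (homOfLE hO).op v)
      (ConcreteCategory.bijective_of_isIso (j.appIso b).inv)).1 h'
  · intro h b hb
    rw [funext (key b hb)]
    exact Function.Bijective.comp (g := fun r : Γ(X, j ''ᵁ b) => r • M.presheaf.map (homOfLE (j.image_mono hb)).op v)
      (f := fun r : Γ(W, b) => (j.appIso b).inv r)
      (h _ (j.image_mono hb)) (ConcreteCategory.bijective_of_isIso (j.appIso b).inv)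

/-- Quasi-separatedness from a cover by affines inside quasi-separated opens. -/
theorem quasiSeparatedSpace_of_cover {J : Type*} (U : J → X.Opens) (hqs : ∀ j, QuasiSeparatedSpace (U j))
    (hcov : ∀ x : X, ∃ j, x ∈ U j)
    (h : ∀ (j : J) (A : X.Opens), IsAffineOpen A → IsCompact ((A : Set X) ∩ U j)) :
    QuasiSeparatedSpace X := by
  have hex : ∀ x : X, ∃ (j : J) (A : X.Opens), IsAffineOpen A ∧ x ∈ A ∧ A ≤ U j := fun x => by
    obtain ⟨j, hj⟩ := hcov x
    obtain ⟨_, ⟨A, hA, rfl⟩, hxA, hle⟩ := X.isBasis_affineOpens.exists_subset_of_mem_open hj (U j).isOpen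
    exact ⟨j, A, hA, hxA, hle⟩
  choose j A hA hxA hle using hex
  refine Scheme.quasiSeparatedSpace_of_isOpenCover A (eq_top_iff.2 fun x _ => Opens.mem_iSup.2 ⟨x, hxA x⟩) hA
    fun x y => ?_
  have e : (A x : Set X) ∩ A y = ((A x : Set X) ∩ U (j y)) ∩ A y := by
    ext z
    exact ⟨fun hz => ⟨⟨hz.1, hle y hz.2⟩, hz.2⟩, fun hz => ⟨hz.1.1, hz.2⟩⟩
  rw [e]
  exact (isQuasiSeparated_iff_quasiSeparatedSpace _ (U (j y)).isOpen).2 (hqs (j y))
    _ _ Set.inter_subset_right ((A x).isOpen.inter (U (j y)).isOpen) (h _ _ (hA x)) (hle y) (A y).isOpen (hA y).isCompact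

/-- Ampleness glues along non-vanishing loci of functions. -/
theorem isAmple_of_cover [CompactSpace X] (hL : PicF.IsInvertible L)
    (h : ∀ x : X, ∃ g : Γ(X, ⊤), x ∈ X.basicOpen g ∧ AmpleOn L (X.basicOpen g)) : CohB1.IsAmple L := by
  haveI : QuasiSeparatedSpace X := by
    choose g hg ha using h
    refine quasiSeparatedSpace_of_cover (fun x => X.basicOpen (g x)) (fun x => quasiSeparatedSpace_of_isAmple (ha x))
      (fun x => ⟨x, hg x⟩) fun x A hA => ?_
    have : (A : Set X) ∩ X.basicOpen (g x) = (X.basicOpen (X.presheaf.map (homOfLE (le_top : A ≤ ⊤)).op (g x)) : Set X) := by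
      rw [Scheme.basicOpen_res]; rfl
    rw [this]
    exact (hA.basicOpen _).isCompact
  refine ⟨hL, inferInstance, fun x => ?_⟩
  obtain ⟨g, hxg, hU⟩ := h x
  set U := X.basicOpen g
  obtain ⟨n, t, hxt, hta⟩ := hU.2.2 ⟨x, hxg⟩
  let M := CohB1.tensorPow L (n + 1)
  haveI : Coh.IsQCoh M := Groth.Agent.InvExt.isQCoh_of_isInvertible (isInvertible_tensorPow hL _)
  let t' : Coh.structureModule (U : Scheme.{u}) ⟶ M.restrict U.ι := t ≫ (restrictPow U.ι L (n + 1)).inv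
  have ht' : CohB1.genLocus _ t' = CohB1.genLocus _ t := genLocus_comp_iso t (restrictPow U.ι L (n + 1)).symm
  let m : Γ(M, U.ι ''ᵁ ⊤) := sec t'
  obtain ⟨N, σ, hσ⟩ := exists_extend_qcoh M g (M.presheaf.map (homOfLE U.ι_image_top.ge).op m)
  have hgu : IsUnit (X.presheaf.map (homOfLE (X.basicOpen_le g)).op g) := RingedSpace.isUnit_res_basicOpen _ g
  refine ⟨n, secHom M (g • σ), ?_⟩
  have hloc : CohB1.genLocus M (secHom M (g • σ)) = U.ι ''ᵁ CohB1.genLocus _ t' := by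
    have hinv := isInvertible_tensorPow hL (n + 1)
    ext y
    constructor
    · intro hy
      have hyU : y ∈ U := by
        have hy' := (mem_genLocus_iff hinv).1 hy
        rw [sec_secHom, germ_smul'] at hy'
        obtain ⟨e, he⟩ := exists_stalk_gen hinv y
        obtain ⟨c, hc⟩ := he.2 (M.presheaf.germ ⊤ y (Opens.mem_top y) σ)
        simp only at hc
        rw [← hc, ← mul_smul, bijective_smul_iff he] at hy'
        exact (X.mem_basicOpen g y (Opens.mem_top y)).2 (isUnit_of_mul_isUnit_left hy')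
      refine ⟨⟨y, hyU⟩, ?_, rfl⟩
      obtain ⟨O, hyO, hO⟩ := mem_genLocus_iff'.1 hy
      refine mem_genLocus_iff'.2 ⟨U.ι ⁻¹ᵁ O, hyO, ?_⟩
      have hle : U.ι ''ᵁ (U.ι ⁻¹ᵁ O) ≤ U := (U.ι.image_mono le_top).trans U.ι_image_top.le
      have hle' : U.ι ''ᵁ (U.ι ⁻¹ᵁ O) ≤ O := by
        rw [Scheme.Hom.image_preimage_eq_opensRange_inf]; exact inf_le_right
      refine (gen_restrict_iff U.ι M _ (M.presheaf.map (homOfLE (U.ι.image_mono le_top)).op m)).2 ?_
      have e := congrArg (M.presheaf.map (homOfLE hle).op) hσ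
      rw [M.map_smul, res_res, res_res] at e
      rw [show resT (sec (secHom M (g • σ))) O = M.presheaf.map (homOfLE (le_top : O ≤ ⊤)).op (g • σ) by
        rw [resT, sec_secHom]] at hO
      have h1 := hO.res hle'
      rw [res_res, M.map_smul, e, ← mul_smul] at h1
      obtain ⟨u, hu⟩ : IsUnit (X.presheaf.map (homOfLE (le_top : U.ι ''ᵁ (U.ι ⁻¹ᵁ O) ≤ ⊤)).op g *
          X.presheaf.map (homOfLE hle).op (X.presheaf.map (homOfLE (X.basicOpen_le g)).op (g ^ N))) := by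
        rw [← rres (X.basicOpen_le g) hle g]
        refine (hgu.map _).mul (IsUnit.map _ ?_)
        rw [map_pow]
        exact hgu.pow N
      rw [← hu] at h1
      have h2 := h1.smul (Units.isUnit u⁻¹)
      rwa [smul_smul, Units.inv_mul, one_smul] at h2
    · rintro ⟨z, hz, rfl⟩
      obtain ⟨O, hzO, hO⟩ := mem_genLocus_iff'.1 hz
      have hO' := (gen_restrict_iff U.ι M O (M.presheaf.map (homOfLE (U.ι.image_mono le_top)).op m)).1 hO
      have hle : U.ι ''ᵁ O ≤ U := (U.ι.image_mono le_top).trans U.ι_image_top.le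
      refine mem_genLocus_iff'.2 ⟨U.ι ''ᵁ O, ⟨z, hzO, rfl⟩, ?_⟩
      have e := congrArg (M.presheaf.map (homOfLE hle).op) hσ
      rw [M.map_smul, res_res, res_res] at e
      rw [resT, sec_secHom, M.map_smul, e, ← mul_smul]
      refine hO'.smul ?_
      rw [← rres (X.basicOpen_le g) hle g]
      refine (hgu.map _).mul (IsUnit.map _ ?_)
      rw [map_pow]
      exact hgu.pow N
  rw [hloc, ht']
  exact ⟨⟨⟨x, hxg⟩, hxt, rfl⟩, hta.image_of_isOpenImmersion _⟩

/-- It suffices to test relative ampleness near every point of the base. -/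
theorem isRelAmple_of_locally {f : X ⟶ Y} [QuasiCompact f]
    (h : ∀ y : Y, ∃ V : Y.Opens, IsAffineOpen V ∧ y ∈ V ∧ AmpleOn L (f ⁻¹ᵁ V)) : RelAmple.IsRelAmple f L := by
  have hL : PicF.IsInvertible L := isInvertible_of_locally fun x => by
    obtain ⟨V, -, hy, hV⟩ := h (f x)
    exact ⟨f ⁻¹ᵁ V, hy, hV.1⟩
  refine ⟨inferInstance, fun V => ?_⟩
  haveI : CompactSpace (f ⁻¹ᵁ V.1 : Scheme.{u}) :=
    isCompact_iff_compactSpace.1 (f.isCompact_preimage V.2.isCompact)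
  refine isAmple_of_cover (isInvertible_restrict _ hL) fun x => ?_
  obtain ⟨W, hW, hxW, hA⟩ := h (f x.1)
  obtain ⟨b, hble, hxb⟩ := V.2.exists_basicOpen_le (V := W ⊓ V.1) ⟨f x.1, hxW, x.2⟩ x.2
  let g : Γ((f ⁻¹ᵁ V.1 : Scheme.{u}), ⊤) := (f ⁻¹ᵁ V.1).topIso.inv (f.app V.1 b)
  have hg : (f ⁻¹ᵁ V.1).ι ''ᵁ (f ⁻¹ᵁ V.1 : Scheme.{u}).basicOpen g = f ⁻¹ᵁ Y.basicOpen b := by
    rw [Scheme.image_basicOpen, Scheme.preimage_basicOpen]
    simp [g]
    exact X.basicOpen_res_eq _ _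
  have hxg : x ∈ (f ⁻¹ᵁ V.1 : Scheme.{u}).basicOpen g := by
    have : x.1 ∈ (f ⁻¹ᵁ V.1).ι ''ᵁ (f ⁻¹ᵁ V.1 : Scheme.{u}).basicOpen g := hg ▸ hxb
    obtain ⟨z, hz, e⟩ := this
    exact (Subtype.ext e : z = x) ▸ hz
  refine ⟨g, hxg, ?_⟩
  haveI : CompactSpace ((f ⁻¹ᵁ V.1 : Scheme.{u}).basicOpen g : Scheme.{u}) := by
    refine isCompact_iff_compactSpace.1 ?_
    refine (f ⁻¹ᵁ V.1).ι.isOpenEmbedding.isInducing.isCompact_iff.2 ?_
    show IsCompact (((f ⁻¹ᵁ V.1).ι ''ᵁ (f ⁻¹ᵁ V.1 : Scheme.{u}).basicOpen g : X.Opens) : Set X)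
    rw [hg]
    exact f.isCompact_preimage (V.2.basicOpen b).isCompact
  refine isAmple_of_iso (restrictComp _ _ L) ((ampleOn_iff_of_range _).2 ?_)
  refine AmpleOn.mono (U := f ⁻¹ᵁ W) hA ?_ ?_
  · rw [Scheme.Hom.opensRange_comp, Scheme.Opens.opensRange_ι, hg]
    exact fun y hy => (hble hy).1
  · rw [Scheme.Hom.opensRange_comp, Scheme.Opens.opensRange_ι, hg]
    exact f.isCompact_preimage (V.2.basicOpen b).isCompact

theorem isRelAmple_iff_isAmple [IsAffine Y] (f : X ⟶ Y) [QuasiCompact f] :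
    RelAmple.IsRelAmple f L ↔ CohB1.IsAmple L := by
  constructor
  · intro h
    exact ampleOn_top_iff.1 (h.2 ⟨⊤, isAffineOpen_top Y⟩)
  · intro h
    exact ⟨inferInstance, fun V => AmpleOn.mono (ampleOn_top_iff.2 h) le_top (f.isCompact_preimage V.2.isCompact)⟩

theorem isRelAmple_iff_forall_restrict (f : X ⟶ Y) [QuasiCompact f] {ι : Type u} (U : ι → Y.Opens)
    (hU : ⨆ i, U i = ⊤) :
    RelAmple.IsRelAmple f L ↔ ∀ i, RelAmple.IsRelAmple (f ∣_ (U i)) (L.restrict (f ⁻¹ᵁ (U i)).ι) := by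
  have key : ∀ (i : ι) (V : (U i : Scheme.{u}).Opens),
      AmpleOn (L.restrict (f ⁻¹ᵁ (U i)).ι) ((f ∣_ (U i)) ⁻¹ᵁ V) ↔ AmpleOn L (f ⁻¹ᵁ ((U i).ι ''ᵁ V)) := by
    intro i V
    have h := ampleOn_iff_of_range (L := L) (((f ∣_ (U i)) ⁻¹ᵁ V).ι ≫ (f ⁻¹ᵁ (U i)).ι)
    rw [Scheme.Hom.opensRange_comp, Scheme.Opens.opensRange_ι, image_morphismRestrict_preimage] at h
    exact ⟨fun h' => h.1 (isAmple_of_iso (restrictComp _ _ L).symm h'),
      fun h' => isAmple_of_iso (restrictComp _ _ L) (h.2 h')⟩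
  constructor
  · intro h i
    exact ⟨inferInstance, fun V => (key i V.1).2 (h.2 ⟨_, V.2.image_of_isOpenImmersion (U i).ι⟩)⟩
  · intro h
    refine isRelAmple_of_locally fun y => ?_
    obtain ⟨i, hi⟩ := Opens.mem_iSup.1 (hU.ge (Opens.mem_top y))
    obtain ⟨_, ⟨W, hW, rfl⟩, hyW, hle⟩ :=
      Y.isBasis_affineOpens.exists_subset_of_mem_open hi (U i).isOpen
    refine ⟨W, hW, hyW, ?_⟩
    have e : (U i).ι ''ᵁ ((U i).ι ⁻¹ᵁ W) = W := by
      rw [Scheme.Hom.image_preimage_eq_opensRange_inf, Scheme.Opens.opensRange_ι, inf_eq_right]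
      exact hle
    rw [← e]
    refine (key i _).1 ((h i).2 ⟨_, ?_⟩)
    show IsAffineOpen _
    rw [← (U i).ι.isAffineOpen_iff_of_isOpenImmersion, e]
    exact hW

theorem isRelAmple_of_comp {Z : Scheme.{u}} (f : X ⟶ Y) (g : Y ⟶ Z) [QuasiCompact f]
    (h : RelAmple.IsRelAmple (f ≫ g) L) : RelAmple.IsRelAmple f L := by
  refine isRelAmple_of_locally fun y => ?_
  obtain ⟨_, ⟨W, hW, rfl⟩, hyW, -⟩ :=
    Z.isBasis_affineOpens.exists_subset_of_mem_open (Set.mem_univ (g y)) isOpen_univ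
  obtain ⟨_, ⟨V, hV, rfl⟩, hyV, hle⟩ :=
    Y.isBasis_affineOpens.exists_subset_of_mem_open (show y ∈ g ⁻¹ᵁ W from hyW) (g ⁻¹ᵁ W).isOpen
  exact ⟨V, hV, hyV, AmpleOn.mono (h.2 ⟨W, hW⟩) (fun x hx => hle hx) (f.isCompact_preimage hV.isCompact)⟩

/-- The tensor product of ample modules is ample. -/
theorem isAmple_tensor {L' : X.Modules} (h : CohB1.IsAmple L) (h' : CohB1.IsAmple L') :
    CohB1.IsAmple (CohB1.tensorMod L L') := by
  refine ⟨isInvertible_tensor h.1 h'.1, h.2.1, fun x => ?_⟩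
  obtain ⟨n, s, hx, ha⟩ := h.2.2 x
  obtain ⟨m, t, hx', ha'⟩ := h'.2.2 x
  obtain ⟨k, hk⟩ : ∃ k, (n + 1) * (m + 1) = k + 1 :=
    ⟨(n + 1) * (m + 1) - 1, (Nat.succ_pred_eq_of_pos (Nat.mul_pos (Nat.succ_pos n) (Nat.succ_pos m))).symm⟩
  have hk' : (m + 1) * (n + 1) = k + 1 := by rw [mul_comm, hk]
  refine ⟨k, tensorS (powS s (m + 1) ≫ (powMul L (n + 1) (m + 1) ≪≫ eqToIso (congrArg (CohB1.tensorPow L) hk)).hom)
    (powS t (n + 1) ≫ (powMul L' (m + 1) (n + 1) ≪≫ eqToIso (congrArg (CohB1.tensorPow L') hk')).hom) ≫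
    (powTensor L L' (k + 1)).symm.hom, ?_⟩
  rw [genLocus_comp_iso, genLocus_tensorS (isInvertible_tensorPow h.1 _) (isInvertible_tensorPow h'.1 _),
    genLocus_comp_iso, genLocus_comp_iso, genLocus_powS (isInvertible_tensorPow h.1 _),
    genLocus_powS (isInvertible_tensorPow h'.1 _)]
  exact ⟨⟨hx, hx'⟩, isAffineOpen_inf_genLocus (isInvertible_tensorPow h.1 _) s ha'⟩

theorem isRelAmple_tensor {f : X ⟶ Y} {L' : X.Modules} (h : RelAmple.IsRelAmple f L)
    (h' : RelAmple.IsRelAmple f L') : RelAmple.IsRelAmple f (CohB1.tensorMod L L') :=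
  ⟨h.1, fun V => isAmple_of_iso (restrictTensor _ L L').symm (isAmple_tensor (h.2 V) (h'.2 V))⟩

/-! ### Pullbacks -/

/-- Pullback and restriction in a commutative square. -/
def pullRestr {W' W : Scheme.{u}} (g : X' ⟶ X) (j' : W' ⟶ X') (j : W ⟶ X) [IsOpenImmersion j'] [IsOpenImmersion j]
    (h : W' ⟶ W) (w : j' ≫ g = h ≫ j) (L : X.Modules) :
    ((Scheme.Modules.pullback g).obj L).restrict j' ≅ (Scheme.Modules.pullback h).obj (L.restrict j) :=
  restrictIso j' _ ≪≫ (Scheme.Modules.pullbackComp j' g).app L ≪≫ (Scheme.Modules.pullbackCongr w).app L ≪≫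
    ((Scheme.Modules.pullbackComp h j).app L).symm ≪≫ (Scheme.Modules.pullback h).mapIso (restrictIso j L).symm

theorem ampleOn_pullback_of_isInducing (g : X' ⟶ X) {W : X.Opens} (hg : Topology.IsInducing g.base)
    (hc : IsCompact ((g ⁻¹ᵁ W : X'.Opens) : Set X')) (h : AmpleOn L W) :
    AmpleOn ((Scheme.Modules.pullback g).obj L) (g ⁻¹ᵁ W) := by
  haveI : CompactSpace (g ⁻¹ᵁ W : Scheme.{u}) := isCompact_iff_compactSpace.1 hc
  have w : (g ∣_ W) ≫ W.ι = (g ⁻¹ᵁ W).ι ≫ g := morphismRestrict_ι g W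
  refine isAmple_of_iso (pullRestr g (g ⁻¹ᵁ W).ι W.ι (g ∣_ W) w.symm L).symm
    (isAmple_pullback_of_isInducing _ ?_ h)
  refine (W.ι.isOpenEmbedding.isInducing.of_comp_iff).1 ?_
  have e : ⇑W.ι ∘ ⇑(g ∣_ W) = ⇑g ∘ ⇑(g ⁻¹ᵁ W).ι :=
    funext fun z => congrArg (fun φ : (g ⁻¹ᵁ W : Scheme.{u}) ⟶ X => φ z) w
  show Topology.IsInducing (⇑W.ι ∘ ⇑(g ∣_ W))
  rw [e]
  exact hg.comp (g ⁻¹ᵁ W).ι.isOpenEmbedding.isInducing

theorem isAmple_pullback_quasiAffine (g : X' ⟶ X) (hg : Mor2.IsQuasiAffine g) (h : CohB1.IsAmple L) :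
    CohB1.IsAmple ((Scheme.Modules.pullback g).obj L) := by
  haveI := hg.1
  haveI := h.2.1
  haveI : CompactSpace X' := QuasiCompact.compactSpace_of_compactSpace g
  choose n s hx ha using h.2.2
  have hqa : ∀ x, (g ⁻¹ᵁ CohB1.genLocus _ (s x) : Scheme.{u}).IsQuasiAffine := fun x => hg.2 _ (ha x)
  have hM := fun x => isInvertible_tensorPow h.1 (n x + 1)
  haveI : QuasiSeparatedSpace X' := by
    refine quasiSeparatedSpace_of_cover (fun x => g ⁻¹ᵁ CohB1.genLocus _ (s x)) (fun x => ?_)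
      (fun x' => ⟨g x', hx (g x')⟩) fun x A hA => ?_
    · haveI := hqa x; infer_instance
    · have := isAffineOpen_inf_genLocus (isInvertible_pullback g (hM x)) (pullS g (s x)) hA
      rw [genLocus_pullS g (hM x)] at this
      rw [Set.inter_comm]
      exact this.isCompact
  refine isAmple_of_basicOpen (isInvertible_pullback g h.1) fun x' => ?_
  let x := g x'
  let U := g ⁻¹ᵁ CohB1.genLocus _ (s x)
  let s' := pullS g (s x) ≫ (pullPow g L (n x + 1)).hom
  have hs' : CohB1.genLocus _ s' = U := by rw [genLocus_comp_iso, genLocus_pullS g (hM x)]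
  haveI := hqa x
  obtain ⟨_, ⟨r, hr, rfl⟩, hxr, -⟩ := Opens.isBasis_iff_nbhd.1
    (Scheme.IsQuasiAffine.isBasis_basicOpen (U : Scheme.{u})) (U := ⊤) (x := ⟨x', hx (g x')⟩) trivial
  refine ⟨n x, s', X'.presheaf.map (homOfLE hs'.le).op (U.topIso.hom r), ?_⟩
  rw [Scheme.basicOpen_res, hs', inf_eq_right.2 (X'.basicOpen_le _)]
  have e : X'.basicOpen (U.topIso.hom r) = U.ι ''ᵁ (U : Scheme.{u}).basicOpen r := by
    rw [Scheme.image_basicOpen]
    simp [Scheme.Opens.topIso]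
    exact X'.basicOpen_res_eq _ _
  rw [e]
  exact ⟨⟨⟨x', hx (g x')⟩, hxr, rfl⟩, hr.image_of_isOpenImmersion _⟩

theorem isQuasiAffine_morphismRestrict {g : X' ⟶ X} (hg : Mor2.IsQuasiAffine g) (W : X.Opens) :
    Mor2.IsQuasiAffine (g ∣_ W) := by
  haveI := hg.1
  refine ⟨inferInstance, fun V hV => ?_⟩
  haveI : (Arrow.mk (g ∣_ W.ι ''ᵁ V)).left.IsQuasiAffine := hg.2 _ (hV.image_of_isOpenImmersion W.ι)
  haveI : IsIso (morphismRestrictRestrict g W V).hom.left := inferInstance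
  exact Scheme.IsQuasiAffine.of_isAffineHom (morphismRestrictRestrict g W V).hom.left

theorem isRelAmple_pullback_quasiAffine {f : X ⟶ Y} [QuasiCompact f] (g : X' ⟶ X) (hg : Mor2.IsQuasiAffine g)
    (h : RelAmple.IsRelAmple f L) : RelAmple.IsRelAmple (g ≫ f) ((Scheme.Modules.pullback g).obj L) := by
  haveI := hg.1
  refine ⟨inferInstance, fun V => ?_⟩
  have w : (g ∣_ (f ⁻¹ᵁ V.1)) ≫ (f ⁻¹ᵁ V.1).ι = (g ⁻¹ᵁ (f ⁻¹ᵁ V.1)).ι ≫ g := morphismRestrict_ι g _
  exact isAmple_of_iso (pullRestr g _ _ _ w.symm L).symm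
    (isAmple_pullback_quasiAffine _ (isQuasiAffine_morphismRestrict hg _) (h.2 V))

theorem isRelAmple_baseChange {Y' : Scheme.{u}} (f : X ⟶ Y) [QuasiCompact f] (g : Y' ⟶ Y)
    (h : RelAmple.IsRelAmple f L) :
    RelAmple.IsRelAmple (pullback.snd f g) ((Scheme.Modules.pullback (pullback.fst f g)).obj L) := by
  refine isRelAmple_of_locally fun y => ?_
  obtain ⟨_, ⟨V, hV, rfl⟩, hyV, -⟩ :=
    Y.isBasis_affineOpens.exists_subset_of_mem_open (Set.mem_univ (g y)) isOpen_univ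
  obtain ⟨_, ⟨V', hV', rfl⟩, hyV', hle⟩ :=
    Y'.isBasis_affineOpens.exists_subset_of_mem_open (show y ∈ g ⁻¹ᵁ V from hyV) (g ⁻¹ᵁ V).isOpen
  refine ⟨V', hV', hyV', ?_⟩
  let p := pullback.fst f g
  let q := pullback.snd f g
  have hsub : q ⁻¹ᵁ V' ≤ p ⁻¹ᵁ (f ⁻¹ᵁ V) := fun z hz => by
    show f (p z) ∈ V
    rw [← Scheme.Hom.comp_apply, pullback.condition, Scheme.Hom.comp_apply]
    exact hle hz
  let k := p.resLE (f ⁻¹ᵁ V) (q ⁻¹ᵁ V') hsub
  have hk : k ≫ (f ⁻¹ᵁ V).ι = (q ⁻¹ᵁ V').ι ≫ p := Scheme.Hom.resLE_comp_ι p hsub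
  haveI : IsAffineHom k := by
    refine isAffineHom_of_forall_exists_isAffineOpen _ fun z => ?_
    obtain ⟨_, ⟨A, hA, rfl⟩, hzA, hAle⟩ :=
      X.isBasis_affineOpens.exists_subset_of_mem_open (show z.1 ∈ f ⁻¹ᵁ V from z.2) (f ⁻¹ᵁ V).isOpen
    haveI : IsAffine A := hA
    haveI : IsAffine V := hV
    haveI : IsAffine V' := hV'
    refine ⟨(f ⁻¹ᵁ V).ι ⁻¹ᵁ A, hzA, hA.preimage_of_isOpenImmersion _ (by rw [Scheme.Opens.opensRange_ι]; exact hAle), ?_⟩
    rw [← (q ⁻¹ᵁ V').ι.isAffineOpen_iff_of_isOpenImmersion]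
    let i := pullback.map (f.resLE V A hAle) (g.resLE V V' hle) f g (Scheme.Opens.ι A) (Scheme.Opens.ι V') (Scheme.Opens.ι V)
      (Scheme.Hom.resLE_comp_ι f hAle) (Scheme.Hom.resLE_comp_ι g hle)
    have hi : (q ⁻¹ᵁ V').ι ''ᵁ (k ⁻¹ᵁ ((f ⁻¹ᵁ V).ι ⁻¹ᵁ A)) = i.opensRange := by
      rw [← Scheme.Hom.comp_preimage, hk, Scheme.Hom.comp_preimage, Scheme.Hom.image_preimage_eq_opensRange_inf,
        Scheme.Opens.opensRange_ι]
      apply SetLike.coe_injective
      rw [Scheme.Hom.coe_opensRange, Scheme.Pullback.range_map]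
      simp [inf_comm, p, q, Set.inter_comm]
    rw [hi]
    exact isAffineOpen_opensRange i
  exact isAmple_of_iso (pullRestr p _ _ k hk.symm L).symm (isAmple_pullback k (h.2 ⟨V, hV⟩))

/-! ### Quasi-affine schemes -/

theorem isQuasiAffine_iff [CompactSpace X] :
    X.IsQuasiAffine ↔ CohB1.IsAmple (Coh.structureModule X) := by
  have hgl : ∀ (s : Coh.structureModule X ⟶ Coh.structureModule X),
      CohB1.genLocus _ s = X.basicOpen (show Γ(X, ⊤) from sec s) := fun s => by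
    have := genLocus_inf_eq_basicOpen s (gen_one (⊤ : X.Opens)) (a := (show Γ(X, ⊤) from sec s))
      ((mul_one (show Γ(X, ⊤) from sec s)).trans (res_self (M := Coh.structureModule X) le_rfl (sec s)).symm)
    rwa [inf_top_eq] at this
  constructor
  · intro hX
    refine ⟨isInvertible_structureModule, inferInstance, fun x => ?_⟩
    obtain ⟨_, ⟨r, hr, rfl⟩, hxr, -⟩ := Opens.isBasis_iff_nbhd.1
      (Scheme.IsQuasiAffine.isBasis_basicOpen X) (U := ⊤) (x := x) trivial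
    refine ⟨0, secHom (Coh.structureModule X) r ≫ (powUnit 1).inv, ?_⟩
    rw [show (powUnit (X := X) 1).inv = (powUnit (X := X) 1).symm.hom from rfl, genLocus_comp_iso, hgl, sec_secHom]
    exact ⟨hxr, hr⟩
  · intro h
    refine Scheme.IsQuasiAffine.of_forall_exists_mem_basicOpen X fun x => ?_
    obtain ⟨n, s, hx, ha⟩ := h.2.2 x
    refine ⟨sec (L := Coh.structureModule X) (s ≫ (powUnit (n + 1)).hom), ?_⟩
    rw [← hgl, genLocus_comp_iso]
    exact ⟨ha, hx⟩

theorem isQuasiAffineHom_iff (f : X ⟶ Y) [QuasiCompact f] :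
    Mor2.IsQuasiAffine f ↔ RelAmple.IsRelAmple f (Coh.structureModule X) := by
  have hr : ∀ V : Y.Opens, (Coh.structureModule X).restrict (f ⁻¹ᵁ V).ι ≅ Coh.structureModule _ :=
    fun V => DCohLib.restrictUnit _
  constructor
  · intro h
    refine ⟨inferInstance, fun V => isAmple_of_iso (hr V.1).symm ?_⟩
    haveI : CompactSpace (f ⁻¹ᵁ V.1 : Scheme.{u}) :=
      isCompact_iff_compactSpace.1 (f.isCompact_preimage V.2.isCompact)
    exact isQuasiAffine_iff.1 (h.2 V.1 V.2)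
  · intro h
    refine ⟨inferInstance, fun V hV => ?_⟩
    haveI : CompactSpace (f ⁻¹ᵁ V : Scheme.{u}) :=
      isCompact_iff_compactSpace.1 (f.isCompact_preimage hV.isCompact)
    exact isQuasiAffine_iff.2 (isAmple_of_iso (hr V) (h.2 ⟨V, hV⟩))

end Groth.Agent.AmpleLib
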