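import Groth.Agent.AmpleLib.Tensor
import Mathlib.AlgebraicGeometry.Morphisms.QuasiSeparated

/-! Functions on `X_s` extend to sections of powers of `L` after multiplying by a power of `s`. -/

set_option autoImplicit false
set_option linter.style.haveILetI false
universe u

open CategoryTheory AlgebraicGeometry TopologicalSpace Opposite
open Groth.Agent.ParaFLib Groth.Agent.PullbackMod Groth.Agent.DCohLib

noncomputable section

namespace Groth.Agent.AmpleLib

variable {X : Scheme.{u}} {L : X.Modules}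

/-- Powers of a local section. -/
def powLoc {W : X.Opens} (e : Γ(L, W)) : ∀ n : ℕ, Γ(CohB1.tensorPow L n, W)
  | 0 => (1 : Γ(X, W))
  | n + 1 => pairS (CohB1.tensorPow L n) L (powLoc e n) e

theorem powLoc_res {W W' : X.Opens} (h : W' ≤ W) (e : Γ(L, W)) :
    ∀ n, (CohB1.tensorPow L n).presheaf.map (homOfLE h).op (powLoc e n) =
      powLoc (L.presheaf.map (homOfLE h).op e) n
  | 0 => map_one (X.presheaf.map (homOfLE h).op).hom
  | n + 1 => (res_pairS h (powLoc e n) e).trans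
      (congrArg (fun v => pairS (CohB1.tensorPow L n) L v (L.presheaf.map (homOfLE h).op e)) (powLoc_res h e n))

theorem gen_powLoc {W : X.Opens} {e : Γ(L, W)} (he : Gen W e) : ∀ n, Gen W (powLoc e n)
  | 0 => gen_one W
  | n + 1 => gen_pairS (gen_powLoc he n) he

theorem sec_powS (s : Coh.structureModule X ⟶ L) : ∀ n, sec (powS s n) = powLoc (sec s) n
  | 0 => rfl
  | n + 1 => (sec_secHom (L := tmod (CohB1.tensorPow L n) L) _).trans
      (congrArg (fun v => pairS (CohB1.tensorPow L n) L v (sec s)) (sec_powS s n))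

theorem powLoc_smul {W : X.Opens} (a : Γ(X, W)) (e : Γ(L, W)) :
    ∀ n, powLoc (a • e) n = (a ^ n) • powLoc e n
  | 0 => ((congrArg (· • (show Γ(Coh.structureModule X, W) from (1 : Γ(X, W)))) (pow_zero a)).trans (one_smul _ _)).symm
  | n + 1 => by
    show pairS (CohB1.tensorPow L n) L (powLoc (a • e) n) (a • e) = (a ^ (n + 1)) • pairS (CohB1.tensorPow L n) L (powLoc e n) e
    rw [powLoc_smul a e n, pairS_smul_left, pairS_smul_right, smul_smul, ← pow_succ]

/-- Multiplication by the `j`-th power of a section. -/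
def mulPow {O : X.Opens} (σ : Γ(L, O)) {N : ℕ} (ξ : Γ(CohB1.tensorPow L N, O)) :
    ∀ j : ℕ, Γ(CohB1.tensorPow L (N + j), O)
  | 0 => ξ
  | j + 1 => pairS (CohB1.tensorPow L (N + j)) L (mulPow σ ξ j) σ

theorem mulPow_res {O O' : X.Opens} (h : O' ≤ O) (σ : Γ(L, O)) {N : ℕ} (ξ : Γ(CohB1.tensorPow L N, O)) :
    ∀ j, (CohB1.tensorPow L (N + j)).presheaf.map (homOfLE h).op (mulPow σ ξ j) =
      mulPow (L.presheaf.map (homOfLE h).op σ) ((CohB1.tensorPow L N).presheaf.map (homOfLE h).op ξ) j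
  | 0 => rfl
  | j + 1 => (res_pairS h (mulPow σ ξ j) σ).trans
      (congrArg (fun v => pairS (CohB1.tensorPow L (N + j)) L v (L.presheaf.map (homOfLE h).op σ)) (mulPow_res h σ ξ j))

theorem mulPow_smul {O : X.Opens} (σ : Γ(L, O)) {N : ℕ} (c : Γ(X, O)) (ξ : Γ(CohB1.tensorPow L N, O)) :
    ∀ j, mulPow σ (c • ξ) j = c • mulPow σ ξ j
  | 0 => rfl
  | j + 1 => by
    show pairS (CohB1.tensorPow L (N + j)) L (mulPow σ (c • ξ) j) σ =
      c • pairS (CohB1.tensorPow L (N + j)) L (mulPow σ ξ j) σ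
    rw [mulPow_smul σ c ξ j, pairS_smul_left]

theorem mulPow_sub {O : X.Opens} (σ : Γ(L, O)) {N : ℕ} (ξ ξ' : Γ(CohB1.tensorPow L N, O)) :
    ∀ j, mulPow σ (ξ - ξ') j = mulPow σ ξ j - mulPow σ ξ' j
  | 0 => rfl
  | j + 1 => by
    show pairS (CohB1.tensorPow L (N + j)) L (mulPow σ (ξ - ξ') j) σ =
      pairS (CohB1.tensorPow L (N + j)) L (mulPow σ ξ j) σ - pairS (CohB1.tensorPow L (N + j)) L (mulPow σ ξ' j) σ
    rw [mulPow_sub σ ξ ξ' j, eq_sub_iff_add_eq, ← pairS_add_left, sub_add_cancel]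

theorem mulPow_powLoc {O : X.Opens} (σ : Γ(L, O)) {N : ℕ} :
    ∀ j, mulPow σ (powLoc σ N) j = powLoc σ (N + j)
  | 0 => rfl
  | j + 1 => congrArg (fun v => pairS (CohB1.tensorPow L (N + j)) L v σ) (mulPow_powLoc σ j)

theorem mulPow_powLoc_smul {W : X.Opens} (a : Γ(X, W)) (e : Γ(L, W)) {N : ℕ} :
    ∀ j, mulPow (a • e) (powLoc e N) j = (a ^ j) • powLoc e (N + j)
  | 0 => ((congrArg (· • powLoc e N) (pow_zero a)).trans (one_smul _ _)).symm
  | j + 1 => by
    show pairS (CohB1.tensorPow L (N + j)) L (mulPow (a • e) (powLoc e N) j) (a • e) =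
      (a ^ (j + 1)) • pairS (CohB1.tensorPow L (N + j)) L (powLoc e (N + j)) e
    rw [mulPow_powLoc_smul a e j, pairS_smul_left, pairS_smul_right, smul_smul, ← pow_succ]

/-- Affine opens on which `L` is free cover every compact open by finitely many. -/
theorem exists_affine_gen_cover (hL : PicF.IsInvertible L) {O : X.Opens} (hO : IsCompact (O : Set X)) :
    ∃ (t : Finset X) (W : X → X.Opens) (e : ∀ x, Γ(L, W x)),
      (∀ x ∈ t, IsAffineOpen (W x) ∧ W x ≤ O ∧ Gen (W x) (e x)) ∧ (O : Set X) ⊆ ⋃ x ∈ t, (W x : Set X) := by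
  classical
  have : ∀ x : X, ∃ (W : X.Opens) (e : Γ(L, W)), x ∈ O → x ∈ W ∧ IsAffineOpen W ∧ W ≤ O ∧ Gen W e := by
    intro x
    by_cases hx : x ∈ O
    · obtain ⟨W₀, e, hxW, he⟩ := exists_gen_nhd hL x
      obtain ⟨_, ⟨W, hW, rfl⟩, hxW', hle⟩ :=
        X.isBasis_affineOpens.exists_subset_of_mem_open (show x ∈ W₀ ⊓ O from ⟨hxW, hx⟩) (W₀ ⊓ O).isOpen
      exact ⟨W, L.presheaf.map (homOfLE (le_trans hle inf_le_left : W ≤ W₀)).op e, fun _ =>
        ⟨hxW', hW, le_trans hle inf_le_right, he.res _⟩⟩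
    · exact ⟨⊥, 0, fun h => absurd h hx⟩
  choose W e h using this
  obtain ⟨t, ht⟩ := hO.elim_finite_subcover (fun x : (O : Set X) => (W x.1 : Set X)) (fun x => (W x.1).isOpen)
    fun x hx => Set.mem_iUnion.2 ⟨⟨x, hx⟩, (h x hx).1⟩
  refine ⟨t.image Subtype.val, W, e, ?_, fun y hy => ?_⟩
  · intro x hx
    obtain ⟨⟨x, hxO⟩, -, rfl⟩ := Finset.mem_image.1 hx
    exact (h x hxO).2
  · obtain ⟨⟨x, hxO⟩, hxt, hyx⟩ := Set.mem_iUnion₂.1 (ht hy)
    exact Set.mem_iUnion₂.2 ⟨x, Finset.mem_image.2 ⟨⟨x, hxO⟩, hxt, rfl⟩, hyx⟩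

theorem exists_mulPow_eq_zero (hL : PicF.IsInvertible L) (s : Coh.structureModule X ⟶ L) {O : X.Opens}
    (hO : IsCompact (O : Set X)) {N : ℕ} (ξ : Γ(CohB1.tensorPow L N, O))
    (h : (CohB1.tensorPow L N).presheaf.map (homOfLE (inf_le_right : CohB1.genLocus L s ⊓ O ≤ O)).op ξ = 0) :
    ∃ J, ∀ j, J ≤ j → mulPow (resT (sec s) O) ξ j = 0 := by
  classical
  obtain ⟨t, W, e, hWe, hcov⟩ := exists_affine_gen_cover hL hO
  have loc : ∀ x ∈ t, ∃ J, ∀ j, J ≤ j → ∀ h : W x ≤ O,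
      (CohB1.tensorPow L (N + j)).presheaf.map (homOfLE h).op (mulPow (resT (sec s) O) ξ j) = 0 := by
    intro x hx
    obtain ⟨hW, hle, he⟩ := hWe x hx
    obtain ⟨a, ha⟩ := (he (W x) le_rfl).2 (resT (sec s) (W x))
    simp only [res_self] at ha
    obtain ⟨c, hc⟩ := (gen_powLoc he N (W x) le_rfl).2 ((CohB1.tensorPow L N).presheaf.map (homOfLE hle).op ξ)
    simp only [res_self] at hc
    have hbo : X.basicOpen a = CohB1.genLocus L s ⊓ W x := (genLocus_inf_eq_basicOpen s he ha).symm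
    have hle' : X.basicOpen a ≤ CohB1.genLocus L s ⊓ O := hbo.le.trans (inf_le_inf_left _ hle)
    have h0 : X.presheaf.map (homOfLE (X.basicOpen_le a)).op c = 0 := by
      apply (gen_powLoc he N (X.basicOpen a) (X.basicOpen_le a)).1
      show X.presheaf.map _ c • _ = (0 : Γ(X, X.basicOpen a)) • _
      rw [zero_smul, ← (CohB1.tensorPow L N).map_smul, hc, res_res]
      have := congrArg ((CohB1.tensorPow L N).presheaf.map (homOfLE hle').op) h
      rw [res_res, map_zero] at this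
      exact this
    letI := hW.isLocalization_basicOpen a
    obtain ⟨⟨_, J, rfl⟩, hJ⟩ := (IsLocalization.map_eq_zero_iff (Submonoid.powers a) Γ(X, X.basicOpen a) c).1 h0
    refine ⟨J, fun j hj h' => ?_⟩
    obtain ⟨i, rfl⟩ := Nat.exists_eq_add_of_le hj
    rw [mulPow_res, show L.presheaf.map (homOfLE h').op (resT (sec s) O) = a • e x by rw [ha, resT, res_res],
      ← hc, mulPow_smul, mulPow_powLoc_smul, smul_smul]
    rw [show c * a ^ (J + i) = a ^ i * (a ^ J * c) by ring]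
    simp only at hJ
    rw [hJ, mul_zero, zero_smul]
  choose J hJ using loc
  refine ⟨t.attach.sup fun x => J x.1 x.2, fun j hj => ?_⟩
  let F : TopCat.Sheaf Ab.{u} X.carrier := ⟨(CohB1.tensorPow L (N + j)).presheaf, (CohB1.tensorPow L (N + j)).isSheaf⟩
  refine F.eq_of_locally_eq' (fun x : {x // x ∈ t} => W x.1) O (fun x => homOfLE (hWe x.1 x.2).2.1)
    (fun y hy => by
      obtain ⟨x, hx, hyx⟩ := Set.mem_iUnion₂.1 (hcov hy)
      exact Opens.mem_iSup.2 ⟨⟨x, hx⟩, hyx⟩) _ _ fun x => ?_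
  refine Eq.trans ?_ (map_zero _).symm
  exact hJ x.1 x.2 j ((Finset.le_sup (f := fun x : {x // x ∈ t} => J x.1 x.2) (Finset.mem_attach t x)).trans hj) _

/-- A function on `X_s` times a power of `s` extends to a global section of that power of `L`. -/
theorem exists_extend [CompactSpace X] [QuasiSeparatedSpace X] (hL : PicF.IsInvertible L)
    (s : Coh.structureModule X ⟶ L) (h : Γ(X, CohB1.genLocus L s)) :
    ∃ (k : ℕ) (t : Coh.structureModule X ⟶ CohB1.tensorPow L k),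
      resT (sec t) (CohB1.genLocus L s) = h • powLoc (resT (sec s) (CohB1.genLocus L s)) k := by
  classical
  obtain ⟨t, W, e, hWe, hcov⟩ := exists_affine_gen_cover hL (O := (⊤ : X.Opens)) isCompact_univ
  let Xs := CohB1.genLocus L s
  have hall : ∀ x ∈ t, ∃ (a : Γ(X, W x)), a • e x = resT (sec s) (W x) := fun x hx => by
    obtain ⟨a, ha⟩ := ((hWe x hx).2.2 (W x) le_rfl).2 (resT (sec s) (W x))
    simp only [res_self] at ha
    exact ⟨a, ha⟩
  choose a ha using hall
  have hle : ∀ x (hx : x ∈ t), X.basicOpen (a x hx) ≤ Xs := fun x hx =>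
    (genLocus_inf_eq_basicOpen s (hWe x hx).2.2 (ha x hx)).ge.trans inf_le_left
  have loc : ∀ x (hx : x ∈ t), ∃ (n : ℕ) (c : Γ(X, W x)),
      X.presheaf.map (homOfLE (X.basicOpen_le (a x hx))).op c =
        X.presheaf.map (homOfLE (X.basicOpen_le (a x hx))).op (a x hx) ^ n *
          X.presheaf.map (homOfLE (hle x hx)).op h := by
    intro x hx
    letI := (hWe x hx).1.isLocalization_basicOpen (a x hx)
    obtain ⟨n, c, hc⟩ := IsLocalization.Away.surj (a x hx) (X.presheaf.map (homOfLE (hle x hx)).op h)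
    refine ⟨n, c, ?_⟩
    rw [mul_comm]
    exact hc.symm
  choose n c hc using loc
  let N := t.attach.sup fun x => n x.1 x.2
  let ξ : ∀ x : {x // x ∈ t}, Γ(CohB1.tensorPow L N, W x.1) := fun x =>
    (c x.1 x.2 * a x.1 x.2 ^ (N - n x.1 x.2)) • powLoc (e x.1) N
  have key : ∀ (x : {x // x ∈ t}) (V : X.Opens) (hV : V ≤ W x.1) (hV' : V ≤ Xs),
      (CohB1.tensorPow L N).presheaf.map (homOfLE hV).op (ξ x) =
        X.presheaf.map (homOfLE hV').op h • powLoc (resT (sec s) V) N := by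
    intro x V hV hV'
    have hVb : V ≤ X.basicOpen (a x.1 x.2) := (le_inf hV' hV).trans
      (genLocus_inf_eq_basicOpen s (hWe x.1 x.2).2.2 (ha x.1 x.2)).le
    have h1 := congrArg (X.presheaf.map (homOfLE hVb).op) (hc x.1 x.2)
    simp only [map_mul, map_pow, ← ConcreteCategory.comp_apply, ← Functor.map_comp] at h1
    have hnN : n x.1 x.2 ≤ N := Finset.le_sup (f := fun x : {x // x ∈ t} => n x.1 x.2) (Finset.mem_attach t x)
    rw [(CohB1.tensorPow L N).map_smul, powLoc_res,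
      show resT (sec s) V = X.presheaf.map (homOfLE hV).op (a x.1 x.2) • L.presheaf.map (homOfLE hV).op (e x.1) by
        rw [← L.map_smul, ha, resT, resT, res_res],
      powLoc_smul, smul_smul, map_mul, map_pow]
    refine congrArg (· • powLoc (L.presheaf.map (homOfLE hV).op (e x.1)) N) ?_
    have e1 : X.presheaf.map (homOfLE hV).op (c x.1 x.2) =
        X.presheaf.map (homOfLE hV).op (a x.1 x.2) ^ n x.1 x.2 * X.presheaf.map (homOfLE hV').op h := h1
    rw [e1]
    calc _ = X.presheaf.map (homOfLE hV').op h *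
        X.presheaf.map (homOfLE hV).op (a x.1 x.2) ^ (n x.1 x.2 + (N - n x.1 x.2)) := by ring
      _ = _ := by rw [Nat.add_sub_cancel' hnN]
  -- the differences on overlaps are killed by a power of `s`
  have hpair : ∀ x y : {x // x ∈ t}, ∃ J, ∀ j, J ≤ j →
      mulPow (resT (sec s) (W x.1 ⊓ W y.1))
        ((CohB1.tensorPow L N).presheaf.map (homOfLE (inf_le_left : W x.1 ⊓ W y.1 ≤ W x.1)).op (ξ x) -
          (CohB1.tensorPow L N).presheaf.map (homOfLE (inf_le_right : W x.1 ⊓ W y.1 ≤ W y.1)).op (ξ y)) j = 0 := by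
    intro x y
    refine exists_mulPow_eq_zero hL s
      (QuasiSeparatedSpace.inter_isCompact _ _ (W x.1).isOpen (hWe x.1 x.2).1.isCompact (W y.1).isOpen (hWe y.1 y.2).1.isCompact) _ ?_
    rw [map_sub, res_res, res_res, key x _ _ inf_le_left, key y _ _ inf_le_left, sub_self]
  choose J hJ using hpair
  let K := Finset.univ.sup fun p : {x // x ∈ t} × {x // x ∈ t} => J p.1 p.2
  let F : TopCat.Sheaf Ab.{u} X.carrier := ⟨(CohB1.tensorPow L (N + K)).presheaf, (CohB1.tensorPow L (N + K)).isSheaf⟩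
  have hcov' : (⊤ : X.Opens) ≤ ⨆ x : {x // x ∈ t}, W x.1 := fun y hy => by
    obtain ⟨x, hx, hyx⟩ := Set.mem_iUnion₂.1 (hcov hy)
    exact Opens.mem_iSup.2 ⟨⟨x, hx⟩, hyx⟩
  obtain ⟨g, hg, -⟩ := F.existsUnique_gluing' (fun x : {x // x ∈ t} => W x.1) ⊤ (fun x => homOfLE le_top) hcov'
    (fun x => mulPow (resT (sec s) (W x.1)) (ξ x) K) (by
      intro x y
      show (CohB1.tensorPow L (N + K)).presheaf.map (homOfLE (inf_le_left : W x.1 ⊓ W y.1 ≤ W x.1)).op _ =
        (CohB1.tensorPow L (N + K)).presheaf.map (homOfLE (inf_le_right : W x.1 ⊓ W y.1 ≤ W y.1)).op _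
      rw [mulPow_res, mulPow_res, resT, resT, res_res, res_res, ← sub_eq_zero, ← mulPow_sub]
      exact hJ x y K (Finset.le_sup (f := fun p : {x // x ∈ t} × {x // x ∈ t} => J p.1 p.2) (Finset.mem_univ (x, y))))
  refine ⟨N + K, secHom (CohB1.tensorPow L (N + K)) g, ?_⟩
  rw [sec_secHom (L := CohB1.tensorPow L (N + K))]
  refine F.eq_of_locally_eq' (fun x : {x // x ∈ t} => Xs ⊓ W x.1) Xs (fun x => homOfLE inf_le_left)
    (fun y hy => by
      obtain ⟨x, hx⟩ := Opens.mem_iSup.1 (hcov' (Opens.mem_top y))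
      exact Opens.mem_iSup.2 ⟨x, hy, hx⟩) _ _ fun x => ?_
  show (CohB1.tensorPow L (N + K)).presheaf.map (homOfLE (inf_le_left : Xs ⊓ W x.1 ≤ Xs)).op _ =
    (CohB1.tensorPow L (N + K)).presheaf.map (homOfLE (inf_le_left : Xs ⊓ W x.1 ≤ Xs)).op _
  have e2 := congrArg ((CohB1.tensorPow L (N + K)).presheaf.map (homOfLE (inf_le_right : Xs ⊓ W x.1 ≤ W x.1)).op) (hg x)
  change (CohB1.tensorPow L (N + K)).presheaf.map _ ((CohB1.tensorPow L (N + K)).presheaf.map (homOfLE le_top).op g) = _ at e2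
  rw [res_res, mulPow_res, key x _ _ inf_le_left, resT, res_res, mulPow_smul] at e2
  rw [res_res, e2, (CohB1.tensorPow L (N + K)).map_smul, powLoc_res, resT, res_res]
  exact congrArg (X.presheaf.map (homOfLE inf_le_left).op h • ·) (mulPow_powLoc _ _)

end Groth.Agent.AmpleLib
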