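import Groth.Agent.AmpleLib.Rel
import Groth.Agent.AmpleLib.Extend
import Groth.Agent.QCohLib.Criterion
import Mathlib.AlgebraicGeometry.QuasiAffine

/-! Ample modules: the opens `X_s` form a basis; restriction to subspaces; locality on an affine base. -/

set_option autoImplicit false
set_option linter.style.haveILetI false
universe u

open CategoryTheory CategoryTheory.Limits AlgebraicGeometry TopologicalSpace Opposite
open Groth.Agent.ParaFLib Groth.Agent.PullbackMod Groth.Agent.DCohLib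

noncomputable section

namespace Groth.Agent.AmpleLib

variable {X : Scheme.{u}} {L : X.Modules}

theorem quasiSeparatedSpace_of_isAmple (h : CohB1.IsAmple L) : QuasiSeparatedSpace X := by
  choose n s hx ha using h.2.2
  refine Scheme.quasiSeparatedSpace_of_isOpenCover (fun x => CohB1.genLocus _ (s x))
    (eq_top_iff.2 fun x _ => Opens.mem_iSup.2 ⟨x, hx x⟩) ha fun i j => ?_
  exact (isAffineOpen_inf_genLocus (isInvertible_tensorPow h.1 (n i + 1)) (s i) (ha j)).isCompact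

/-- If `h` is a function on `X_s` then `D(h)` is the locus of a section of some positive power of `L`. -/
theorem exists_genLocus_eq_basicOpen [CompactSpace X] [QuasiSeparatedSpace X] (hL : PicF.IsInvertible L)
    {m : ℕ} (s : Coh.structureModule X ⟶ CohB1.tensorPow L (m + 1)) (h : Γ(X, CohB1.genLocus _ s)) :
    ∃ (n : ℕ) (t : Coh.structureModule X ⟶ CohB1.tensorPow L (n + 1)),
      CohB1.genLocus _ t = X.basicOpen h := by
  have hM := isInvertible_tensorPow hL (m + 1)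
  obtain ⟨k, t, ht⟩ := exists_extend hM s h
  let Xs := CohB1.genLocus _ s
  have hg : Gen Xs (powLoc (resT (sec s) Xs) k) := by
    refine gen_powLoc (gen_of_germ fun y hy => ?_) k
    rw [TopCat.Presheaf.germ_res_apply]
    exact (mem_genLocus_iff hM).1 hy
  have h1 := genLocus_inf_eq_basicOpen t hg ht.symm
  obtain ⟨n, hn⟩ : ∃ n, (m + 1) * (k + 1) = n + 1 :=
    ⟨(m + 1) * (k + 1) - 1, (Nat.succ_pred_eq_of_pos (Nat.mul_pos (Nat.succ_pos m) (Nat.succ_pos k))).symm⟩
  refine ⟨n, tensorS t s ≫ (powMul L (m + 1) (k + 1) ≪≫ eqToIso (congrArg (CohB1.tensorPow L) hn)).hom, ?_⟩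
  rw [genLocus_comp_iso, ← h1]
  exact genLocus_tensorS (isInvertible_tensorPow hM k) hM t s

/-- The opens `X_s` of positive powers of an ample module form a basis. -/
theorem exists_small_genLocus (h : CohB1.IsAmple L) {U : X.Opens} {x : X} (hxU : x ∈ U) :
    ∃ (n : ℕ) (t : Coh.structureModule X ⟶ CohB1.tensorPow L (n + 1)),
      x ∈ CohB1.genLocus _ t ∧ CohB1.genLocus _ t ≤ U ∧ IsAffineOpen (CohB1.genLocus _ t) := by
  have := h.2.1
  have := quasiSeparatedSpace_of_isAmple h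
  obtain ⟨m, s, hx, ha⟩ := h.2.2 x
  obtain ⟨f, hfle, hxf⟩ := ha.exists_basicOpen_le (V := U ⊓ CohB1.genLocus _ s) ⟨x, hxU, hx⟩ hx
  obtain ⟨n, t, ht⟩ := exists_genLocus_eq_basicOpen h.1 s f
  refine ⟨n, t, ?_⟩
  rw [ht]
  exact ⟨hxf, hfle.trans inf_le_left, ha.basicOpen f⟩

/-- A criterion: locally on `X` an affine basic open of some `X_s`. -/
theorem isAmple_of_basicOpen [CompactSpace X] [QuasiSeparatedSpace X] (hL : PicF.IsInvertible L)
    (h : ∀ x : X, ∃ (m : ℕ) (s : Coh.structureModule X ⟶ CohB1.tensorPow L (m + 1))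
      (f : Γ(X, CohB1.genLocus _ s)), x ∈ X.basicOpen f ∧ IsAffineOpen (X.basicOpen f)) :
    CohB1.IsAmple L := by
  refine ⟨hL, inferInstance, fun x => ?_⟩
  obtain ⟨m, s, f, hx, ha⟩ := h x
  obtain ⟨n, t, ht⟩ := exists_genLocus_eq_basicOpen hL s f
  exact ⟨n, t, ht ▸ hx, ht ▸ ha⟩

theorem isBasis_of_isAmple (h : CohB1.IsAmple L) :
    Opens.IsBasis {U : X.Opens | ∃ (n : ℕ) (s : Coh.structureModule X ⟶ CohB1.tensorPow L (n + 1)),
      U = CohB1.genLocus _ s} := by
  refine Opens.isBasis_iff_nbhd.2 fun {U x} hx => ?_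
  obtain ⟨n, t, h1, h2, -⟩ := exists_small_genLocus h hx
  exact ⟨_, ⟨n, t, rfl⟩, h1, h2⟩

theorem isAmple_of_isBasis [CompactSpace X] (hL : PicF.IsInvertible L)
    (h : Opens.IsBasis {U : X.Opens | ∃ (n : ℕ) (s : Coh.structureModule X ⟶ CohB1.tensorPow L (n + 1)),
      U = CohB1.genLocus _ s}) : CohB1.IsAmple L := by
  refine ⟨hL, inferInstance, fun x => ?_⟩
  obtain ⟨_, ⟨W, hW, rfl⟩, hxW, -⟩ :=
    X.isBasis_affineOpens.exists_subset_of_mem_open (Set.mem_univ x) isOpen_univ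
  obtain ⟨_, ⟨n, s, rfl⟩, hx, hle⟩ := Opens.isBasis_iff_nbhd.1 h (U := W) hxW
  refine ⟨n, s, hx, ?_⟩
  have := isAffineOpen_inf_genLocus (isInvertible_tensorPow hL (n + 1)) s hW
  rwa [inf_eq_left.2 hle] at this

/-- Ampleness is inherited by pullback along a morphism which is inducing on spaces. -/
theorem isAmple_pullback_of_isInducing {X' : Scheme.{u}} (g : X' ⟶ X) [CompactSpace X']
    (hg : Topology.IsInducing g.base) (h : CohB1.IsAmple L) :
    CohB1.IsAmple ((Scheme.Modules.pullback g).obj L) := by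
  refine ⟨isInvertible_pullback g h.1, inferInstance, fun x' => ?_⟩
  obtain ⟨_, ⟨U', hU', rfl⟩, hxU', -⟩ :=
    X'.isBasis_affineOpens.exists_subset_of_mem_open (Set.mem_univ x') isOpen_univ
  obtain ⟨V, hV, hVU⟩ := hg.isOpen_iff.1 U'.isOpen
  have hgx : g x' ∈ (⟨V, hV⟩ : X.Opens) := hVU.ge hxU'
  obtain ⟨n, t, hxt, hle, -⟩ := exists_small_genLocus h hgx
  refine ⟨n, pullS g t ≫ (pullPow g L (n + 1)).hom, ?_⟩
  rw [genLocus_comp_iso, genLocus_pullS g (isInvertible_tensorPow h.1 _)]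
  refine ⟨hxt, ?_⟩
  have := isAffineOpen_inf_genLocus (isInvertible_pullback g (isInvertible_tensorPow h.1 (n + 1))) (pullS g t) hU'
  rw [genLocus_pullS g (isInvertible_tensorPow h.1 _)] at this
  rwa [inf_eq_left.2 (show g ⁻¹ᵁ CohB1.genLocus _ t ≤ U' from fun y hy => hVU.le (hle hy))] at this

theorem isAmple_restrict {U : Scheme.{u}} (j : U ⟶ X) [IsOpenImmersion j] [CompactSpace U]
    (h : CohB1.IsAmple L) : CohB1.IsAmple (L.restrict j) :=
  isAmple_of_iso (restrictIso j L).symm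
    (isAmple_pullback_of_isInducing j j.isOpenEmbedding.isInducing h)

theorem rres {a b c : X.Opens} (h₁ : b ≤ a) (h₂ : c ≤ b) (r : Γ(X, a)) :
    X.presheaf.map (homOfLE h₂).op (X.presheaf.map (homOfLE h₁).op r) = X.presheaf.map (homOfLE (h₂.trans h₁)).op r := by
  rw [← ConcreteCategory.comp_apply, ← Functor.map_comp]
  rfl

/-- Sections of a quasi-coherent module over `X_f` extend after multiplying by a power of `f`. -/
theorem exists_extend_qcoh [CompactSpace X] [QuasiSeparatedSpace X] (M : X.Modules) [Coh.IsQCoh M]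
    (f : Γ(X, ⊤)) (m : Γ(M, X.basicOpen f)) :
    ∃ (n : ℕ) (σ : Γ(M, ⊤)), M.presheaf.map (homOfLE (X.basicOpen_le f)).op σ =
      X.presheaf.map (homOfLE (X.basicOpen_le f)).op (f ^ n) • m := by
  classical
  obtain ⟨t, W, _e, hWe, hcov⟩ := exists_affine_gen_cover (X := X) isInvertible_structureModule
    (O := (⊤ : X.Opens)) isCompact_univ
  let fW : ∀ x : X, Γ(X, W x) := fun x => X.presheaf.map (homOfLE (le_top : W x ≤ ⊤)).op f
  have hb : ∀ x, X.basicOpen (fW x) ≤ X.basicOpen f := fun x =>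
    (X.basicOpen_res f (homOfLE (le_top : W x ≤ ⊤)).op).le.trans inf_le_right
  have hb' : ∀ (x : X) (V : X.Opens), V ≤ X.basicOpen f → V ≤ W x → V ≤ X.basicOpen (fW x) := fun x V h1 h2 =>
    (le_inf h2 h1).trans (X.basicOpen_res f (homOfLE (le_top : W x ≤ ⊤)).op).ge
  have loc : ∀ x ∈ t, ∃ (n : ℕ) (σ : Γ(M, W x)), M.presheaf.map (homOfLE (X.basicOpen_le (fW x))).op σ =
      X.presheaf.map (homOfLE (X.basicOpen_le (fW x))).op (fW x ^ n) • M.presheaf.map (homOfLE (hb x)).op m :=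
    fun x hx => (QCohLib.locAt M (hWe x hx).1).extend (fW x) _
  choose n σ hσ using loc
  let N := t.attach.sup fun x => n x.1 x.2
  let ξ : ∀ x : {x // x ∈ t}, Γ(M, W x.1) := fun x => (fW x.1 ^ (N - n x.1 x.2)) • σ x.1 x.2
  have key : ∀ (x : {x // x ∈ t}) (V : X.Opens) (hV : V ≤ W x.1) (hV' : V ≤ X.basicOpen f),
      M.presheaf.map (homOfLE hV).op (ξ x) =
        X.presheaf.map (homOfLE (le_top : V ≤ ⊤)).op (f ^ N) • M.presheaf.map (homOfLE hV').op m := by
    intro x V hV hV'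
    have h1 := congrArg (M.presheaf.map (homOfLE (hb' x.1 V hV' hV)).op) (hσ x.1 x.2)
    rw [M.map_smul, res_res, res_res] at h1
    rw [M.map_smul, h1, smul_smul]
    refine congrArg (· • M.presheaf.map (homOfLE hV').op m) ?_
    simp only [fW, map_pow, rres]
    rw [← pow_add, Nat.sub_add_cancel (Finset.le_sup (f := fun x : {x // x ∈ t} => n x.1 x.2) (Finset.mem_attach t x))]
  have hpair : ∀ x y : {x // x ∈ t}, ∃ J, ∀ j, J ≤ j →
      X.presheaf.map (homOfLE (le_top : W x.1 ⊓ W y.1 ≤ ⊤)).op (f ^ j) •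
        (M.presheaf.map (homOfLE (inf_le_left : W x.1 ⊓ W y.1 ≤ W x.1)).op (ξ x) -
          M.presheaf.map (homOfLE (inf_le_right : W x.1 ⊓ W y.1 ≤ W y.1)).op (ξ y)) = 0 := by
    intro x y
    set O := W x.1 ⊓ W y.1
    set d : Γ(M, O) := M.presheaf.map (homOfLE (inf_le_left : O ≤ W x.1)).op (ξ x) -
      M.presheaf.map (homOfLE (inf_le_right : O ≤ W y.1)).op (ξ y)
    obtain ⟨t', W', _e', hW', hcov'⟩ := exists_affine_gen_cover (X := X) isInvertible_structureModule (O := O)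
      (QuasiSeparatedSpace.inter_isCompact _ _ (W x.1).isOpen (hWe x.1 x.2).1.isCompact (W y.1).isOpen (hWe y.1 y.2).1.isCompact)
    have loc' : ∀ z ∈ t', ∃ J, ∀ j, J ≤ j → ∀ h : W' z ≤ O,
        M.presheaf.map (homOfLE h).op (X.presheaf.map (homOfLE (le_top : O ≤ ⊤)).op (f ^ j) • d) = 0 := by
      intro z hz
      obtain ⟨hW, hle, -⟩ := hW' z hz
      let fz := X.presheaf.map (homOfLE (le_top : W' z ≤ ⊤)).op f
      have hbz : X.basicOpen fz ≤ X.basicOpen f :=
        (X.basicOpen_res f (homOfLE (le_top : W' z ≤ ⊤)).op).le.trans inf_le_right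
      obtain ⟨J, hJ⟩ := (QCohLib.locAt M hW).kill fz (M.presheaf.map (homOfLE hle).op d) (by
        rw [map_sub, map_sub, res_res, res_res, res_res, res_res, key x _ _ hbz, key y _ _ hbz, sub_self])
      refine ⟨J, fun j hj h => ?_⟩
      obtain ⟨i, rfl⟩ := Nat.exists_eq_add_of_le hj
      rw [M.map_smul, rres]
      rw [map_pow, add_comm, pow_add, mul_smul]
      refine (congrArg _ ?_).trans (smul_zero _)
      refine Eq.trans ?_ hJ
      rw [CohBase.sc_apply]
      exact congrArg (· • _) (ConcreteCategory.congr_hom (X.presheaf.map_id _) _).symm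
    choose J hJ using loc'
    refine ⟨t'.attach.sup fun z => J z.1 z.2, fun j hj => ?_⟩
    let F : TopCat.Sheaf Ab.{u} X.carrier := ⟨M.presheaf, M.isSheaf⟩
    refine F.eq_of_locally_eq' (fun z : {z // z ∈ t'} => W' z.1) O (fun z => homOfLE (hW' z.1 z.2).2.1)
      (fun y hy => by
        obtain ⟨z, hz, hyz⟩ := Set.mem_iUnion₂.1 (hcov' hy)
        exact Opens.mem_iSup.2 ⟨⟨z, hz⟩, hyz⟩) _ _ fun z => ?_
    refine Eq.trans ?_ (map_zero _).symm
    exact hJ z.1 z.2 j ((Finset.le_sup (f := fun z : {z // z ∈ t'} => J z.1 z.2) (Finset.mem_attach t' z)).trans hj) _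
  choose J hJ using hpair
  let K := Finset.univ.sup fun p : {x // x ∈ t} × {x // x ∈ t} => J p.1 p.2
  let F : TopCat.Sheaf Ab.{u} X.carrier := ⟨M.presheaf, M.isSheaf⟩
  have hcov' : (⊤ : X.Opens) ≤ ⨆ x : {x // x ∈ t}, W x.1 := fun y hy => by
    obtain ⟨x, hx, hyx⟩ := Set.mem_iUnion₂.1 (hcov hy)
    exact Opens.mem_iSup.2 ⟨⟨x, hx⟩, hyx⟩
  obtain ⟨g, hg, -⟩ := F.existsUnique_gluing' (fun x : {x // x ∈ t} => W x.1) ⊤ (fun x => homOfLE le_top) hcov'
    (fun x => X.presheaf.map (homOfLE (le_top : W x.1 ≤ ⊤)).op (f ^ K) • ξ x) (by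
      intro x y
      show M.presheaf.map (homOfLE (inf_le_left : W x.1 ⊓ W y.1 ≤ W x.1)).op _ =
        M.presheaf.map (homOfLE (inf_le_right : W x.1 ⊓ W y.1 ≤ W y.1)).op _
      refine (M.map_smul _ _ _).trans (Eq.trans ?_ (M.map_smul _ _ _).symm)
      rw [rres, rres]
      rw [← sub_eq_zero, ← smul_sub]
      exact hJ x y K (Finset.le_sup (f := fun p : {x // x ∈ t} × {x // x ∈ t} => J p.1 p.2) (Finset.mem_univ (x, y))))
  refine ⟨K + N, g, F.eq_of_locally_eq' (fun x : {x // x ∈ t} => X.basicOpen f ⊓ W x.1) (X.basicOpen f)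
    (fun x => homOfLE inf_le_left) (fun y hy => by
      obtain ⟨x, hx⟩ := Opens.mem_iSup.1 (hcov' (Opens.mem_top y))
      exact Opens.mem_iSup.2 ⟨x, hy, hx⟩) _ _ fun x => ?_⟩
  show M.presheaf.map (homOfLE (inf_le_left : X.basicOpen f ⊓ W x.1 ≤ X.basicOpen f)).op _ =
    M.presheaf.map (homOfLE (inf_le_left : X.basicOpen f ⊓ W x.1 ≤ X.basicOpen f)).op _
  have e2 := congrArg (M.presheaf.map (homOfLE (inf_le_right : X.basicOpen f ⊓ W x.1 ≤ W x.1)).op) (hg x)
  change M.presheaf.map _ (M.presheaf.map (homOfLE le_top).op g) = _ at e2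
  rw [res_res, M.map_smul, key x _ _ inf_le_left, smul_smul, rres] at e2
  rw [res_res, e2, M.map_smul, pow_add, map_mul, map_mul]
  refine congrArg (· • _) ?_
  simp only [rres]

end Groth.Agent.AmpleLib
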