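import Groth.Agent.AmpleLib.Tensor
import Groth.Agent.InvExt.Main
import Groth.Agent.DCohLib.TensorPull
import Groth.Agent.PullbackMod.Stalk
import Groth.Prelude.Def_LCI2
import Mathlib.RingTheory.PicardGroup

/-! Pullbacks of sections of invertible modules, and ampleness. -/

set_option autoImplicit false
set_option linter.style.haveILetI false
universe u

open CategoryTheory CategoryTheory.Limits AlgebraicGeometry TopologicalSpace Opposite
open Groth.Agent.ParaFLib Groth.Agent.PullbackMod Groth.Agent.DCohLib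
open scoped TensorProduct

noncomputable section

namespace Groth.Agent.AmpleLib

variable {X X' : Scheme.{u}}

instance final_opens_map' (f : X' ⟶ X) : (Opens.map f.base).Final := ⟨fun W => by
    let t : StructuredArrow W (Opens.map f.base) :=
      StructuredArrow.mk (Y := (⊤ : X.Opens)) (homOfLE le_top)
    have : Nonempty (StructuredArrow W (Opens.map f.base)) := ⟨t⟩
    refine zigzag_isConnected fun a b => ?_
    exact (Zigzag.of_hom (StructuredArrow.homMk (homOfLE le_top) (Subsingleton.elim _ _) : a ⟶ t)).trans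
      (Zigzag.of_inv (StructuredArrow.homMk (homOfLE le_top) (Subsingleton.elim _ _) : b ⟶ t))⟩

/-- The inverse image of the structure sheaf. -/
def pullO (f : X' ⟶ X) :
    (Scheme.Modules.pullback f).obj (Coh.structureModule X) ≅ Coh.structureModule X' :=
  have : (SheafOfModules.pushforward f.toRingCatSheafHom).IsRightAdjoint :=
    (Scheme.Modules.pullbackPushforwardAdjunction f).isRightAdjoint
  have h : IsIso (SheafOfModules.pullbackObjUnitToUnit f.toRingCatSheafHom) :=
    @SheafOfModules.instIsIsoPullbackObjUnitToUnitOfFinal _ _ _ _ _ _ (Opens.map f.base) _ _ _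
      f.toRingCatSheafHom _ _
  @asIso _ _ _ _ (SheafOfModules.pullbackObjUnitToUnit f.toRingCatSheafHom) h

/-- Inverse image of a tensor product. -/
def pullTensor (f : X' ⟶ X) (L M : X.Modules) :
    (Scheme.Modules.pullback f).obj (CohB1.tensorMod L M) ≅
      CohB1.tensorMod ((Scheme.Modules.pullback f).obj L) ((Scheme.Modules.pullback f).obj M) :=
  ((pullTensorBiIsoSch f).app L).app M

/-- Inverse image of a tensor power. -/
def pullPow (f : X' ⟶ X) (L : X.Modules) :
    ∀ n, (Scheme.Modules.pullback f).obj (CohB1.tensorPow L n) ≅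
      CohB1.tensorPow ((Scheme.Modules.pullback f).obj L) n
  | 0 => pullO f
  | n + 1 => pullTensor f _ _ ≪≫ tIso (pullPow f L n) (Iso.refl _)

/-- The pullback of a section. -/
def pullS (f : X' ⟶ X) {L : X.Modules} (s : Coh.structureModule X ⟶ L) :
    Coh.structureModule X' ⟶ (Scheme.Modules.pullback f).obj L :=
  (pullO f).inv ≫ (Scheme.Modules.pullback f).map s

theorem bijective_pullStalk (f : X' ⟶ X) {L : X.Modules} [Coh.IsQCoh L] (x' : X')
    {e : L.presheaf.stalk (f x')} (he : Function.Bijective fun r : X.presheaf.stalk (f x') => r • e) :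
    Function.Bijective fun r : X'.presheaf.stalk x' => r • pullStalk f L x' e := by
  let gM := (Scheme.Modules.pullback f).obj L
  letI : Algebra (X.presheaf.stalk (f x')) (X'.presheaf.stalk x') := (f.stalkMap x').hom.toAlgebra
  letI := Module.compHom (gM.presheaf.stalk x') (f.stalkMap x').hom
  haveI : IsScalarTower (X.presheaf.stalk (f x')) (X'.presheaf.stalk x') (gM.presheaf.stalk x') :=
    .of_algebraMap_smul fun _ _ => rfl
  have h : IsBaseChange (X'.presheaf.stalk x') (pullStalkL f L x') := isBaseChange_pullStalkL f L x'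
  let c : X'.presheaf.stalk x' ≃ₗ[X'.presheaf.stalk x'] gM.presheaf.stalk x' :=
    (TensorProduct.AlgebraTensorModule.rid (X.presheaf.stalk (f x')) (X'.presheaf.stalk x') _).symm ≪≫ₗ
      TensorProduct.AlgebraTensorModule.congr (LinearEquiv.refl _ _)
        (LinearEquiv.ofBijective (LinearMap.toSpanSingleton (X.presheaf.stalk (f x')) _ e) he) ≪≫ₗ h.equiv
  have hc : ∀ r, c r = r • pullStalk f L x' e := fun r => by
    show h.equiv (r ⊗ₜ ((1 : X.presheaf.stalk (f x')) • e)) = _
    rw [one_smul, IsBaseChange.equiv_tmul]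
    rfl
  rw [← funext hc]
  exact c.bijective

theorem isInvertible_pullback (f : X' ⟶ X) {L : X.Modules} (hL : PicF.IsInvertible L) :
    PicF.IsInvertible ((Scheme.Modules.pullback f).obj L) := isInvertible_of_gen fun x' => by
  haveI := Groth.Agent.InvExt.isQCoh_of_isInvertible hL
  obtain ⟨W, s, hx, hs⟩ := exists_gen_nhd hL (f x')
  refine ⟨f ⁻¹ᵁ W, pullMap f L le_rfl s, hx, gen_of_germ fun y hy => ?_⟩
  rw [← pullStalk_germ' f L y (show f y ∈ W from hy) hy le_rfl]
  exact bijective_pullStalk f y (hs.bijective_germ _ _)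

theorem genLocus_pullS (f : X' ⟶ X) {L : X.Modules} (hL : PicF.IsInvertible L)
    (s : Coh.structureModule X ⟶ L) :
    CohB1.genLocus _ (pullS f s) = f ⁻¹ᵁ CohB1.genLocus L s := by
  haveI := Groth.Agent.InvExt.isQCoh_of_isInvertible hL
  ext x'
  show x' ∈ CohB1.genLocus _ (pullS f s) ↔ f x' ∈ CohB1.genLocus L s
  rw [mem_genLocus_iff (isInvertible_pullback f hL), mem_genLocus_iff hL]
  -- the pullback of `1` generates
  haveI hO : Coh.IsQCoh (Coh.structureModule X) :=
    Groth.Agent.InvExt.isQCoh_of_isInvertible isInvertible_structureModule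
  let one' := pullStalk f (Coh.structureModule X) x' (oneG (f x'))
  have h1 : Function.Bijective fun r : X'.presheaf.stalk x' => r • stalkLin (pullO f).hom x' one' := by
    have : (fun r : X'.presheaf.stalk x' => r • stalkLin (pullO f).hom x' one') =
        stalkLin (pullO f).hom x' ∘ fun r : X'.presheaf.stalk x' => r • one' :=
      funext fun r => ((stalkLin (pullO f).hom x').map_smul r _).symm
    rw [this]
    exact ((isIso_iff_stalk (pullO f).hom).1 inferInstance x').comp (bijective_pullStalk f x' (bijective_oneG _))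
  obtain ⟨v, hv⟩ := (bijective_oneG x').2 (stalkLin (pullO f).hom x' one')
  change v • oneG x' = _ at hv
  have hvu : IsUnit v := by
    rw [← bijective_smul_iff (bijective_oneG x'), hv]
    exact h1
  obtain ⟨e, he⟩ := exists_stalk_gen hL (f x')
  obtain ⟨a, ha⟩ := he.2 (L.presheaf.germ ⊤ (f x') (Opens.mem_top (f x')) (sec s))
  change a • e = _ at ha
  have hs1 : stalkLin s (f x') (oneG (f x')) = a • e :=
    (stalkLin_germ s (U := ⊤) (f x') (Opens.mem_top (f x')) _).trans ha.symm
  have key : v • ((Scheme.Modules.pullback f).obj L).presheaf.germ ⊤ x' (Opens.mem_top x') (sec (pullS f s)) =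
      f.stalkMap x' a • pullStalk f L x' e := by
    have e1 : ((Scheme.Modules.pullback f).obj L).presheaf.germ ⊤ x' (Opens.mem_top x') (sec (pullS f s)) =
        stalkLin (pullS f s) x' (oneG x') := (stalkLin_germ (pullS f s) (U := ⊤) x' (Opens.mem_top x') _).symm
    rw [e1, ← map_smul, hv, pullS, stalkLin_comp, LinearMap.comp_apply]
    have e2 : stalkLin (pullO f).inv x' (stalkLin (pullO f).hom x' one') = one' := by
      rw [← LinearMap.comp_apply, ← stalkLin_comp, Iso.hom_inv_id, stalkLin_id, LinearMap.id_apply]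
    rw [e2]
    refine (pullStalk_natural f s x' (oneG (f x'))).trans ?_
    rw [hs1, pullStalk_smul]
  rw [← ha, bijective_smul_iff he]
  have he' := bijective_pullStalk f x' he
  obtain ⟨b, hb⟩ := he'.2 (((Scheme.Modules.pullback f).obj L).presheaf.germ ⊤ x' (Opens.mem_top x') (sec (pullS f s)))
  change b • pullStalk f L x' e = _ at hb
  rw [← hb, bijective_smul_iff he']
  rw [← hb, ← mul_smul] at key
  have hvb := he'.1 key
  constructor
  · intro h
    refine isUnit_of_map_unit (f.stalkMap x').hom a ?_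
    rw [← hvb]
    exact hvu.mul h
  · intro h
    exact isUnit_of_mul_isUnit_right (hvb ▸ h.map (f.stalkMap x').hom)

/-! ### Ampleness -/

theorem isAmple_of_iso {L M : X.Modules} (e : L ≅ M) (h : CohB1.IsAmple L) : CohB1.IsAmple M := by
  refine ⟨isInvertible_of_iso e h.1, h.2.1, fun x => ?_⟩
  obtain ⟨n, s, hx, ha⟩ := h.2.2 x
  refine ⟨n, s ≫ (powCongr e (n + 1)).hom, ?_⟩
  rw [genLocus_comp_iso]
  exact ⟨hx, ha⟩

theorem isAmple_pow_iff {L : X.Modules} (hL : PicF.IsInvertible L) {n : ℕ} (hn : 0 < n) :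
    CohB1.IsAmple (CohB1.tensorPow L n) ↔ CohB1.IsAmple L := by
  obtain ⟨n, rfl⟩ := Nat.exists_eq_succ_of_ne_zero hn.ne'
  constructor
  · rintro ⟨-, hc, h⟩
    refine ⟨hL, hc, fun x => ?_⟩
    obtain ⟨m, s, hx, ha⟩ := h x
    obtain ⟨k, hk⟩ : ∃ k, (n + 1) * (m + 1) = k + 1 := ⟨(n + 1) * (m + 1) - 1, (Nat.succ_pred_eq_of_pos (by positivity)).symm⟩
    refine ⟨k, s ≫ (powMul L (n + 1) (m + 1) ≪≫ eqToIso (congrArg (CohB1.tensorPow L) hk)).hom, ?_⟩
    rw [genLocus_comp_iso]
    exact ⟨hx, ha⟩
  · rintro ⟨-, hc, h⟩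
    refine ⟨isInvertible_tensorPow hL _, hc, fun x => ?_⟩
    obtain ⟨m, s, hx, ha⟩ := h x
    refine ⟨m, powS s (n + 1) ≫ (powMul L (m + 1) (n + 1) ≪≫
      eqToIso (congrArg (CohB1.tensorPow L) (mul_comm (m + 1) (n + 1))) ≪≫ (powMul L (n + 1) (m + 1)).symm).hom, ?_⟩
    rw [genLocus_comp_iso, genLocus_powS (isInvertible_tensorPow hL _)]
    exact ⟨hx, ha⟩

theorem isAmple_pullback (g : X' ⟶ X) [IsAffineHom g] {L : X.Modules} (h : CohB1.IsAmple L) :
    CohB1.IsAmple ((Scheme.Modules.pullback g).obj L) := by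
  haveI := h.2.1
  refine ⟨isInvertible_pullback g h.1, QuasiCompact.compactSpace_of_compactSpace g, fun x' => ?_⟩
  obtain ⟨n, s, hx, ha⟩ := h.2.2 (g x')
  refine ⟨n, pullS g s ≫ (pullPow g L (n + 1)).hom, ?_⟩
  rw [genLocus_comp_iso, genLocus_pullS g (isInvertible_tensorPow h.1 _)]
  exact ⟨hx, ha.preimage g⟩

/-- A module with a tensor inverse is invertible. -/
theorem isInvertible_of_tensor_iso {L N : X.Modules} (e : CohB1.tensorMod L N ≅ Coh.structureModule X) :
    PicF.IsInvertible L := isInvertible_of_gen fun x => by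
  let E : ∀ y : X, (L.presheaf.stalk y ⊗[X.presheaf.stalk y] N.presheaf.stalk y) ≃ₗ[X.presheaf.stalk y] X.presheaf.stalk y :=
    fun y => stalkTensor y L N ≪≫ₗ
      LinearEquiv.ofBijective (stalkLin e.hom y) ((isIso_iff_stalk e.hom).1 inferInstance y) ≪≫ₗ
      (LinearEquiv.ofBijective (LinearMap.toSpanSingleton (X.presheaf.stalk y) _ (oneG y)) (bijective_oneG y)).symm
  -- a product of germs which is a unit
  obtain ⟨a, b, hab⟩ : ∃ a b, IsUnit (E x (a ⊗ₜ b)) := by
    obtain ⟨S, hS⟩ := TensorProduct.exists_finset ((E x).symm 1)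
    have : IsUnit (∑ i ∈ S, E x (i.1 ⊗ₜ i.2)) := by
      rw [← map_sum, ← hS, LinearEquiv.apply_symm_apply]
      exact isUnit_one
    obtain ⟨i, -, hi⟩ := IsLocalRing.exists_of_isUnit_sum this
    exact ⟨_, _, hi⟩
  obtain ⟨U, hU, l, n, rfl, rfl⟩ := exists_common_germ x a b
  let f : Γ(X, U) := e.hom.app U (pairS L N l n)
  have hE : ∀ (y : X) (hy : y ∈ U), E y (L.presheaf.germ U y hy l ⊗ₜ N.presheaf.germ U y hy n) = X.presheaf.germ U y hy f := by
    intro y hy
    refine (LinearEquiv.symm_apply_eq _).2 ?_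
    show stalkLin e.hom y (stalkTensor y L N _) = X.presheaf.germ U y hy f • oneG y
    erw [← germ_pairS]
    refine (stalkLin_germ e.hom (U := U) y hy _).trans ?_
    refine (congrArg ((Coh.structureModule X).presheaf.germ U y hy) (mul_one (show Γ(X, U) from f)).symm).trans ?_
    refine (germ_smul' (M := Coh.structureModule X) y hy f (1 : Γ(X, U))).trans (congrArg _ ?_)
    refine Eq.trans ?_ ((Coh.structureModule X).presheaf.germ_res_apply (homOfLE (le_top : U ≤ ⊤)) y hy (1 : Γ(X, ⊤)))
    exact congrArg ((Coh.structureModule X).presheaf.germ U y hy)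
      (map_one (X.presheaf.map (homOfLE (le_top : U ≤ ⊤)).op).hom).symm
  refine ⟨X.basicOpen f, L.presheaf.map (homOfLE (X.basicOpen_le f)).op l,
    (X.mem_basicOpen f x hU).2 (hE x hU ▸ hab), gen_of_germ fun y hy => ?_⟩
  rw [TopCat.Presheaf.germ_res_apply]
  have hy' : y ∈ U := X.basicOpen_le f hy
  have hu : IsUnit (E y (L.presheaf.germ U y hy' l ⊗ₜ N.presheaf.germ U y hy' n)) := by
    rw [hE y hy']
    exact (X.mem_basicOpen f y hy').1 hy
  haveI : Module.Invertible (X.presheaf.stalk y) (L.presheaf.stalk y) := Module.Invertible.left (E y)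
  haveI : Module.Free (X.presheaf.stalk y) (L.presheaf.stalk y) := inferInstance
  obtain ⟨c⟩ := Module.Invertible.free_iff_linearEquiv.1 ‹_›
  obtain ⟨d, hd⟩ : ∃ d : X.presheaf.stalk y, d • c.symm 1 = L.presheaf.germ U y hy' l :=
    ⟨c (L.presheaf.germ U y hy' l), by rw [← map_smul, smul_eq_mul, mul_one, LinearEquiv.symm_apply_apply]⟩
  rw [← hd, ← TensorProduct.smul_tmul', map_smul, smul_eq_mul] at hu
  have hc : Function.Bijective fun r : X.presheaf.stalk y => r • c.symm 1 := by
    have : (fun r : X.presheaf.stalk y => r • c.symm 1) = c.symm := funext fun r => by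
      rw [← map_smul, smul_eq_mul, mul_one]
    rw [this]
    exact c.symm.bijective
  rw [← hd]
  exact (bijective_smul_iff hc d).2 (isUnit_of_mul_isUnit_left hu)

end Groth.Agent.AmpleLib
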