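import Groth.Agent.AmpleLib.RelLocal
import Mathlib.AlgebraicGeometry.ValuativeCriterion

/-! A scheme covered by affine `X_s` is separated. -/

set_option autoImplicit false
set_option linter.style.haveILetI false
universe u

open CategoryTheory CategoryTheory.Limits AlgebraicGeometry TopologicalSpace Opposite
open Groth.Agent.ParaFLib Groth.Agent.PullbackMod Groth.Agent.DCohLib

noncomputable section

namespace Groth.Agent.AmpleLib

variable {X : Scheme.{u}} {L : X.Modules}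

theorem eq_top_of_closedPoint_mem {R : CommRingCat.{u}} [IsLocalRing R] {U : (Spec R).Opens}
    (h : IsLocalRing.closedPoint R ∈ U) : U = ⊤ :=
  top_le_iff.1 fun p _ => (IsLocalRing.specializes_closedPoint p).mem_open U.isOpen h

theorem gen_genLocus {M : X.Modules} (hM : PicF.IsInvertible M) (s : Coh.structureModule X ⟶ M) :
    Gen (CohB1.genLocus M s) (resT (sec s) (CohB1.genLocus M s)) := gen_of_germ fun y hy => by
  rw [TopCat.Presheaf.germ_res_apply]
  exact (mem_genLocus_iff hM).1 hy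

/-- Two `R`-points agreeing at the generic point land in the same `X_t`. -/
theorem preimage_eq_top {M : X.Modules} (hM : PicF.IsInvertible M) (s t : Coh.structureModule X ⟶ M)
    {R K : CommRingCat.{u}} [IsLocalRing R] (φ : R ⟶ K) (hφ : Function.Injective φ.hom)
    (l₁ l₂ : Spec R ⟶ X) (h : Spec.map φ ≫ l₁ = Spec.map φ ≫ l₂)
    (h₁ : l₁ ⁻¹ᵁ CohB1.genLocus M s = ⊤) (h₂ : l₂ ⁻¹ᵁ CohB1.genLocus M t = ⊤) :
    l₁ ⁻¹ᵁ CohB1.genLocus M t = ⊤ := by
  set Xs := CohB1.genLocus M s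
  set Xt := CohB1.genLocus M t
  have hs := gen_genLocus hM s
  have ht := gen_genLocus hM t
  obtain ⟨a, ha⟩ := (hs Xs le_rfl).2 (resT (sec t) Xs)
  obtain ⟨b, hb⟩ := (ht Xt le_rfl).2 (resT (sec s) Xt)
  simp only [res_self] at ha hb
  set O := Xs ⊓ Xt
  let aO := X.presheaf.map (homOfLE (inf_le_left : O ≤ Xs)).op a
  let bO := X.presheaf.map (homOfLE (inf_le_right : O ≤ Xt)).op b
  have hab : aO * bO = 1 := by
    apply (hs O inf_le_left).1
    show (aO * bO) • M.presheaf.map (homOfLE inf_le_left).op (resT (sec s) Xs) = (1 : Γ(X, O)) • _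
    have e1 := congrArg (M.presheaf.map (homOfLE (inf_le_left : O ≤ Xs)).op) ha
    have e2 := congrArg (M.presheaf.map (homOfLE (inf_le_right : O ≤ Xt)).op) hb
    rw [M.map_smul, resT, resT, res_res, res_res] at e1 e2
    rw [one_smul, resT, res_res, mul_comm, mul_smul, e1, e2]
  let q := Spec.map φ ≫ l₁
  have hq1 : ⊤ ≤ q ⁻¹ᵁ Xs := fun z _ => h₁.ge (Opens.mem_top (Spec.map φ z))
  have hq2 : ⊤ ≤ q ⁻¹ᵁ Xt := fun z _ => by
    show z ∈ (Spec.map φ ≫ l₁) ⁻¹ᵁ Xt
    rw [h]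
    exact h₂.ge (Opens.mem_top (Spec.map φ z))
  have hqO : ⊤ ≤ q ⁻¹ᵁ O := fun z hz => ⟨hq1 hz, hq2 hz⟩
  let α := l₁.appLE Xs ⊤ h₁.ge a
  let β := l₂.appLE Xt ⊤ h₂.ge b
  have hα : (Spec.map φ).appTop α = q.appLE O ⊤ hqO aO := by
    show (l₁.appLE Xs ⊤ h₁.ge ≫ (Spec.map φ).appLE ⊤ ⊤ le_top) a = (X.presheaf.map (homOfLE inf_le_left).op ≫ q.appLE O ⊤ hqO) a
    rw [Scheme.Hom.appLE_comp_appLE, Scheme.Hom.map_appLE]
  have hβ : (Spec.map φ).appTop β = q.appLE O ⊤ hqO bO := by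
    show (l₂.appLE Xt ⊤ h₂.ge ≫ (Spec.map φ).appLE ⊤ ⊤ le_top) b = (X.presheaf.map (homOfLE inf_le_right).op ≫ q.appLE O ⊤ hqO) b
    rw [Scheme.Hom.appLE_comp_appLE, Scheme.Hom.map_appLE]
    simp only [q, h]
  have hinj : Function.Injective ((Spec.map φ).appTop) := by
    intro u v huv
    apply (Scheme.ΓSpecIso R).commRingCatIsoToRingEquiv.injective
    apply hφ
    have hn := Scheme.ΓSpecIso_naturality φ
    have eu := ConcreteCategory.congr_hom hn u
    have ev := ConcreteCategory.congr_hom hn v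
    simp only [CommRingCat.comp_apply] at eu ev
    show φ ((Scheme.ΓSpecIso R).hom u) = φ ((Scheme.ΓSpecIso R).hom v)
    rw [← eu, ← ev, huv]
  have hunit : α * β = 1 := hinj (by rw [map_mul, hα, hβ, ← map_mul, hab, map_one, map_one])
  have hbo : (Spec R).basicOpen α = ⊤ := Scheme.basicOpen_of_isUnit _ (IsUnit.of_mul_eq_one _ hunit)
  have hloc : X.basicOpen a ≤ Xt := (genLocus_inf_eq_basicOpen t hs ha).ge.trans inf_le_left
  refine top_le_iff.1 ?_
  rw [← hbo]
  intro z hz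
  apply hloc
  have hz' : z ∈ (Spec R).basicOpen (l₁.appLE Xs ⊤ h₁.ge a) := hz
  rw [Scheme.basicOpen_appLE] at hz'
  exact hz'.2

theorem isSeparated_of_affine_genLocus (hL : PicF.IsInvertible L)
    (h : ∀ x : X, ∃ (n : ℕ) (s : Coh.structureModule X ⟶ CohB1.tensorPow L (n + 1)),
      x ∈ CohB1.genLocus _ s ∧ IsAffineOpen (CohB1.genLocus _ s)) : X.IsSeparated := by
  choose n s hx ha using h
  haveI : QuasiSeparatedSpace X :=
    Scheme.quasiSeparatedSpace_of_isOpenCover (fun x => CohB1.genLocus _ (s x))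
      (eq_top_iff.2 fun x _ => Opens.mem_iSup.2 ⟨x, hx x⟩) ha fun i j =>
      (isAffineOpen_inf_genLocus (isInvertible_tensorPow hL (n i + 1)) (s i) (ha j)).isCompact
  refine ⟨@IsSeparated.of_valuativeCriterion _ _ _ ?_ fun S => ⟨fun l l' => ?_⟩⟩
  · exact QuasiSeparated.of_quasiSeparatedSpace _
  let R := CommRingCat.of S.R
  let φ : R ⟶ CommRingCat.of S.K := CommRingCat.ofHom (algebraMap S.R S.K)
  have hφ : Function.Injective φ.hom := IsFractionRing.injective S.R S.K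
  haveI : IsLocalRing R := inferInstanceAs (IsLocalRing S.R)
  have he : Spec.map φ ≫ l.l = Spec.map φ ≫ l'.l := l.fac_left.trans l'.fac_left.symm
  let x₁ := l.l (IsLocalRing.closedPoint R)
  let x₂ := l'.l (IsLocalRing.closedPoint R)
  have hM := isInvertible_tensorPow hL ((n x₁ + 1) * (n x₂ + 1))
  let s₁ := powS (s x₁) (n x₂ + 1) ≫ (powMul L (n x₁ + 1) (n x₂ + 1)).hom
  let s₂ := powS (s x₂) (n x₁ + 1) ≫ (powMul L (n x₂ + 1) (n x₁ + 1) ≪≫
    eqToIso (congrArg (CohB1.tensorPow L) (mul_comm _ _))).hom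
  have hs₁ : CohB1.genLocus _ s₁ = CohB1.genLocus _ (s x₁) := by
    rw [genLocus_comp_iso, genLocus_powS (isInvertible_tensorPow hL _)]
  have hs₂ : CohB1.genLocus _ s₂ = CohB1.genLocus _ (s x₂) := by
    rw [genLocus_comp_iso, genLocus_powS (isInvertible_tensorPow hL _)]
  set V := CohB1.genLocus _ s₂
  have haV : IsAffineOpen V := hs₂ ▸ ha x₂
  have hl2 : l'.l ⁻¹ᵁ V = ⊤ := eq_top_of_closedPoint_mem (show x₂ ∈ V by rw [hs₂]; exact hx x₂)
  have hl1 : l.l ⁻¹ᵁ V = ⊤ := preimage_eq_top hM s₁ s₂ φ hφ l.l l'.l he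
    (eq_top_of_closedPoint_mem (show x₁ ∈ CohB1.genLocus _ s₁ by rw [hs₁]; exact hx x₁)) hl2
  have hr1 : Set.range l.l ⊆ Set.range V.ι := by
    rintro _ ⟨z, rfl⟩; rw [Scheme.Opens.range_ι]; exact hl1.ge (Opens.mem_top z)
  have hr2 : Set.range l'.l ⊆ Set.range V.ι := by
    rintro _ ⟨z, rfl⟩; rw [Scheme.Opens.range_ι]; exact hl2.ge (Opens.mem_top z)
  haveI : IsAffine V := haV
  have hlift : IsOpenImmersion.lift V.ι l.l hr1 = IsOpenImmersion.lift V.ι l'.l hr2 := by
    haveI : IsDominant (Spec.map φ) := by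
      constructor
      rw [DenseRange]
      show Dense (Set.range (PrimeSpectrum.comap φ.hom))
      rw [dense_iff_closure_eq, PrimeSpectrum.closure_range_comap, (RingHom.injective_iff_ker_eq_bot _).1 hφ]
      exact PrimeSpectrum.zeroLocus_bot
    refine ext_of_isDominant_of_isSeparated (terminal.from (V : Scheme.{u})) (Subsingleton.elim _ _) (Spec.map φ) ?_
    rw [← cancel_mono V.ι, Category.assoc, Category.assoc, IsOpenImmersion.lift_fac, IsOpenImmersion.lift_fac, he]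
  ext1
  rw [← IsOpenImmersion.lift_fac V.ι l.l hr1, ← IsOpenImmersion.lift_fac V.ι l'.l hr2, hlift]

end Groth.Agent.AmpleLib
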