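import Groth.Agent.AmpleLib.Basis
import Groth.Agent.AmpleLib.Separated
import Groth.Agent.QCohLib.Coherent
import Groth.Prelude.Def_Curv2

/-! Sections of `F` on `X_s` extend to `F ⊗ L^k`; ample modules make twists globally generated. -/

set_option autoImplicit false
set_option linter.style.haveILetI false
universe u

open CategoryTheory CategoryTheory.Limits AlgebraicGeometry TopologicalSpace Opposite
open Groth.Agent.ParaFLib Groth.Agent.PullbackMod Groth.Agent.DCohLib
open scoped TensorProduct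

noncomputable section

namespace Groth.Agent.AmpleLib

variable {X : Scheme.{u}} {L : X.Modules}

/-- The map `v ↦ v ⊗ σ`. -/
def pairRight (M N : X.Modules) (σ : Γ(N, ⊤)) : M ⟶ tmod M N :=
  ⟨PresheafOfModules.homMk
    { app := fun V => AddCommGrpCat.ofHom (AddMonoidHom.mk' (fun v => pairS M N v (resT σ V.unop))
        fun v w => pairS_add_left v w _)
      naturality := fun {V W} g => by
        refine AddCommGrpCat.hom_ext (AddMonoidHom.ext fun v => ?_)
        show pairS M N (M.presheaf.map g v) (resT σ W.unop) = (tmod M N).presheaf.map g (pairS M N v (resT σ V.unop))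
        rw [show g = (homOfLE g.unop.le).op from rfl, res_pairS, resT, resT, res_res] }
    fun V a v => pairS_smul_left a v _⟩

/-- Multiplication by the `j`-th power of `s`. -/
def phiPow (s : Coh.structureModule X ⟶ L) (N : ℕ) :
    ∀ j : ℕ, CohB1.tensorPow L N ⟶ CohB1.tensorPow L (N + j)
  | 0 => 𝟙 _
  | j + 1 => phiPow s N j ≫ pairRight (CohB1.tensorPow L (N + j)) L (sec s)

theorem phiPow_app (s : Coh.structureModule X ⟶ L) (N : ℕ) {V : X.Opens} (v : Γ(CohB1.tensorPow L N, V)) :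
    ∀ j, (phiPow s N j).app V v = mulPow (resT (sec s) V) v j
  | 0 => rfl
  | j + 1 => congrArg (fun w => pairS (CohB1.tensorPow L (N + j)) L w (resT (sec s) V)) (phiPow_app s N v j)

/-- Multiplication by the `j`-th power of `s` on `F ⊗ L^N`. -/
def twistPow (F : X.Modules) (s : Coh.structureModule X ⟶ L) (N j : ℕ) :
    tmod F (CohB1.tensorPow L N) ⟶ tmod F (CohB1.tensorPow L (N + j)) :=
  ((DCoh.tensorBi (X := X)).obj F).map (phiPow s N j)

theorem twistPow_pairS (F : X.Modules) (s : Coh.structureModule X ⟶ L) (N j : ℕ) {V : X.Opens}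
    (c : Γ(F, V)) (v : Γ(CohB1.tensorPow L N, V)) :
    (twistPow F s N j).app V (pairS F _ c v) = pairS F _ c (mulPow (resT (sec s) V) v j) :=
  (tensorBi_app_pairS_right (phiPow s N j) c v).trans (congrArg (pairS F _ c) (phiPow_app s N v j))

theorem pairS_gen_injective {F M : X.Modules} {V : X.Opens} {e : Γ(M, V)} (he : Gen V e) {c c' : Γ(F, V)}
    (h : pairS F M c e = pairS F M c' e) : c = c' := by
  refine TopCat.Presheaf.section_ext (⟨F.presheaf, F.isSheaf⟩ : TopCat.Sheaf Ab X) V c c' fun x hx => ?_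
  have h1 := congrArg ((tmod F M).presheaf.germ V x hx) h
  rw [← stalkTensorHom_tmul x hx c e, ← stalkTensorHom_tmul x hx c' e] at h1
  have h2 : F.presheaf.germ V x hx c ⊗ₜ[X.presheaf.stalk x] M.presheaf.germ V x hx e =
      F.presheaf.germ V x hx c' ⊗ₜ M.presheaf.germ V x hx e := (stalkTensor x F M).injective h1
  let g := LinearEquiv.ofBijective (LinearMap.toSpanSingleton (X.presheaf.stalk x) _ (M.presheaf.germ V x hx e))
    (he.bijective_germ x hx)
  have h3 := congrArg (TensorProduct.congr (LinearEquiv.refl _ _) g.symm ≪≫ₗ TensorProduct.rid (X.presheaf.stalk x) (F.presheaf.stalk x)) h2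
  have hg : g.symm (M.presheaf.germ V x hx e) = 1 := by
    rw [LinearEquiv.symm_apply_eq]; exact (one_smul (X.presheaf.stalk x) _).symm
  simp only [LinearEquiv.trans_apply, TensorProduct.congr_tmul, LinearEquiv.refl_apply, hg,
    TensorProduct.rid_tmul, one_smul] at h3
  exact h3

theorem exists_twist_kill (F : X.Modules) [Coh.IsQCoh F] (s : Coh.structureModule X ⟶ L) {W : X.Opens}
    (hW : IsAffineOpen W) {e : Γ(L, W)} (he : Gen W e) {N : ℕ} (c c' : Γ(F, W))
    (h : (tmod F (CohB1.tensorPow L N)).presheaf.map (homOfLE (inf_le_right : CohB1.genLocus L s ⊓ W ≤ W)).op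
        (pairS F _ c (powLoc e N)) =
      (tmod F (CohB1.tensorPow L N)).presheaf.map (homOfLE (inf_le_right : CohB1.genLocus L s ⊓ W ≤ W)).op
        (pairS F _ c' (powLoc e N))) :
    ∃ J, ∀ j, J ≤ j → (twistPow F s N j).app W (pairS F _ c (powLoc e N)) =
      (twistPow F s N j).app W (pairS F _ c' (powLoc e N)) := by
  obtain ⟨a, ha⟩ := (he W le_rfl).2 (resT (sec s) W)
  simp only [res_self] at ha
  have hle : X.basicOpen a ≤ CohB1.genLocus L s ⊓ W := (genLocus_inf_eq_basicOpen s he ha).ge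
  have h1 := congrArg ((tmod F (CohB1.tensorPow L N)).presheaf.map (homOfLE hle).op) h
  rw [res_res, res_res, res_pairS, res_pairS] at h1
  have h2 := pairS_gen_injective (gen_powLoc he N |>.res _) h1
  obtain ⟨J, hJ⟩ := (QCohLib.locAt F hW).kill a (c - c') (by rw [map_sub, sub_eq_zero]; exact h2)
  rw [QCohLib.sc_le_rfl, smul_sub, sub_eq_zero] at hJ
  refine ⟨J, fun j hj => ?_⟩
  obtain ⟨i, rfl⟩ := Nat.exists_eq_add_of_le hj
  rw [twistPow_pairS, twistPow_pairS, ← ha, mulPow_powLoc_smul, pairS_smul_right, pairS_smul_right,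
    ← pairS_smul_left, ← pairS_smul_left, add_comm J i, pow_add, mul_smul, mul_smul, hJ]

/-- A section over `X_s` times a high power of `s` extends. -/
theorem exists_twist_extend [CompactSpace X] [QuasiSeparatedSpace X] (hL : PicF.IsInvertible L)
    (F : X.Modules) [Coh.IsQCoh F] (s : Coh.structureModule X ⟶ L) (m : Γ(F, CohB1.genLocus L s)) :
    ∃ k₀ : ℕ, ∀ j : ℕ, ∃ σ : Γ(tmod F (CohB1.tensorPow L (k₀ + j)), ⊤),
      resT σ (CohB1.genLocus L s) = pairS F _ m (powLoc (resT (sec s) (CohB1.genLocus L s)) (k₀ + j)) := by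
  classical
  obtain ⟨t, W, e, hWe, hcov⟩ := exists_affine_gen_cover hL (O := (⊤ : X.Opens)) isCompact_univ
  let Xs := CohB1.genLocus L s
  have hall : ∀ x ∈ t, ∃ (a : Γ(X, W x)), a • e x = resT (sec s) (W x) := fun x hx => by
    obtain ⟨a, ha⟩ := ((hWe x hx).2.2 (W x) le_rfl).2 (resT (sec s) (W x))
    simp only [res_self] at ha
    exact ⟨a, ha⟩
  choose a ha using hall
  have hle : ∀ x (hx : x ∈ t), X.basicOpen (a x hx) ≤ Xs := fun x hx =>
    (genLocus_inf_eq_basicOpen s (hWe x hx).2.2 (ha x hx)).ge.trans inf_le_left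
  have loc : ∀ x (hx : x ∈ t), ∃ (n : ℕ) (c : Γ(F, W x)),
      F.presheaf.map (homOfLE (X.basicOpen_le (a x hx))).op c =
        X.presheaf.map (homOfLE (X.basicOpen_le (a x hx))).op (a x hx ^ n) • F.presheaf.map (homOfLE (hle x hx)).op m :=
    fun x hx => (QCohLib.locAt F (hWe x hx).1).extend (a x hx) _
  choose n c hc using loc
  let N := t.attach.sup fun x => n x.1 x.2
  let cc : ∀ x : {x // x ∈ t}, Γ(F, W x.1) := fun x => (a x.1 x.2 ^ (N - n x.1 x.2)) • c x.1 x.2
  let ξ : ∀ x : {x // x ∈ t}, Γ(tmod F (CohB1.tensorPow L N), W x.1) := fun x =>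
    pairS F _ (cc x) (powLoc (e x.1) N)
  have key : ∀ (x : {x // x ∈ t}) (V : X.Opens) (hV : V ≤ W x.1) (hV' : V ≤ Xs),
      (tmod F (CohB1.tensorPow L N)).presheaf.map (homOfLE hV).op (ξ x) =
        pairS F _ (F.presheaf.map (homOfLE hV').op m) (powLoc (resT (sec s) V) N) := by
    intro x V hV hV'
    have hVb : V ≤ X.basicOpen (a x.1 x.2) := (le_inf hV' hV).trans
      (genLocus_inf_eq_basicOpen s (hWe x.1 x.2).2.2 (ha x.1 x.2)).le
    have h1 := congrArg (F.presheaf.map (homOfLE hVb).op) (hc x.1 x.2)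
    rw [F.map_smul, res_res, res_res, rres] at h1
    rw [res_pairS, powLoc_res,
      show resT (sec s) V = X.presheaf.map (homOfLE hV).op (a x.1 x.2) • L.presheaf.map (homOfLE hV).op (e x.1) by
        rw [← L.map_smul, ha, resT, resT, res_res],
      powLoc_smul, pairS_smul_right, ← pairS_smul_left]
    refine congrArg (fun w => pairS F _ w (powLoc (L.presheaf.map (homOfLE hV).op (e x.1)) N)) ?_
    show F.presheaf.map _ (cc x) = _
    rw [F.map_smul, h1, smul_smul, map_pow, map_pow, ← pow_add,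
      Nat.sub_add_cancel (Finset.le_sup (f := fun x : {x // x ∈ t} => n x.1 x.2) (Finset.mem_attach t x))]
  have hpair : ∀ x y : {x // x ∈ t}, ∃ J, ∀ j, J ≤ j →
      (tmod F (CohB1.tensorPow L (N + j))).presheaf.map (homOfLE (inf_le_left : W x.1 ⊓ W y.1 ≤ W x.1)).op
          ((twistPow F s N j).app (W x.1) (ξ x)) =
        (tmod F (CohB1.tensorPow L (N + j))).presheaf.map (homOfLE (inf_le_right : W x.1 ⊓ W y.1 ≤ W y.1)).op
          ((twistPow F s N j).app (W y.1) (ξ y)) := by
    intro x y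
    set O := W x.1 ⊓ W y.1
    obtain ⟨t', W', e', hW', hcov'⟩ := exists_affine_gen_cover hL (O := O)
      (QuasiSeparatedSpace.inter_isCompact _ _ (W x.1).isOpen (hWe x.1 x.2).1.isCompact (W y.1).isOpen (hWe y.1 y.2).1.isCompact)
    have loc' : ∀ z ∈ t', ∃ J, ∀ j, J ≤ j → ∀ h : W' z ≤ O,
        (tmod F (CohB1.tensorPow L (N + j))).presheaf.map (homOfLE (h.trans inf_le_left : W' z ≤ W x.1)).op
            ((twistPow F s N j).app (W x.1) (ξ x)) =
          (tmod F (CohB1.tensorPow L (N + j))).presheaf.map (homOfLE (h.trans inf_le_right : W' z ≤ W y.1)).op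
            ((twistPow F s N j).app (W y.1) (ξ y)) := by
      intro z hz
      obtain ⟨hW, hle', he'⟩ := hW' z hz
      have hx' : W' z ≤ W x.1 := hle'.trans inf_le_left
      have hy' : W' z ≤ W y.1 := hle'.trans inf_le_right
      obtain ⟨u, hu⟩ := (he' (W' z) le_rfl).2 (L.presheaf.map (homOfLE hx').op (e x.1))
      obtain ⟨v, hv⟩ := (he' (W' z) le_rfl).2 (L.presheaf.map (homOfLE hy').op (e y.1))
      simp only [res_self] at hu hv
      let cx := u ^ N • F.presheaf.map (homOfLE hx').op (cc x)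
      let cy := v ^ N • F.presheaf.map (homOfLE hy').op (cc y)
      have ex : (tmod F (CohB1.tensorPow L N)).presheaf.map (homOfLE hx').op (ξ x) = pairS F _ cx (powLoc (e' z) N) := by
        rw [res_pairS, powLoc_res, ← hu, powLoc_smul, pairS_smul_right, ← pairS_smul_left]
      have ey : (tmod F (CohB1.tensorPow L N)).presheaf.map (homOfLE hy').op (ξ y) = pairS F _ cy (powLoc (e' z) N) := by
        rw [res_pairS, powLoc_res, ← hv, powLoc_smul, pairS_smul_right, ← pairS_smul_left]
      obtain ⟨J, hJ⟩ := exists_twist_kill F s hW he' (N := N) cx cy (by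
        rw [← ex, ← ey, res_res, res_res, key x _ _ inf_le_left, key y _ _ inf_le_left])
      refine ⟨J, fun j hj h => ?_⟩
      rw [← app_natural, ← app_natural, ex, ey, hJ j hj]
    choose J hJ using loc'
    refine ⟨t'.attach.sup fun z => J z.1 z.2, fun j hj => ?_⟩
    let G : TopCat.Sheaf Ab.{u} X.carrier :=
      ⟨(tmod F (CohB1.tensorPow L (N + j))).presheaf, (tmod F (CohB1.tensorPow L (N + j))).isSheaf⟩
    refine G.eq_of_locally_eq' (fun z : {z // z ∈ t'} => W' z.1) O (fun z => homOfLE (hW' z.1 z.2).2.1)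
      (fun w hw => by
        obtain ⟨z, hz, hwz⟩ := Set.mem_iUnion₂.1 (hcov' hw)
        exact Opens.mem_iSup.2 ⟨⟨z, hz⟩, hwz⟩) _ _ fun z => ?_
    show (tmod F (CohB1.tensorPow L (N + j))).presheaf.map _ _ = (tmod F (CohB1.tensorPow L (N + j))).presheaf.map _ _
    rw [res_res, res_res]
    exact hJ z.1 z.2 j ((Finset.le_sup (f := fun z : {z // z ∈ t'} => J z.1 z.2) (Finset.mem_attach t' z)).trans hj) (hW' z.1 z.2).2.1
  choose J hJ using hpair
  let K := Finset.univ.sup fun p : {x // x ∈ t} × {x // x ∈ t} => J p.1 p.2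
  refine ⟨N + K, fun j => ?_⟩
  obtain ⟨P, hP, hPK⟩ : ∃ P, P = K + j ∧ K ≤ P := ⟨K + j, rfl, Nat.le_add_right _ _⟩
  rw [Nat.add_assoc, ← hP]
  let G : TopCat.Sheaf Ab.{u} X.carrier :=
    ⟨(tmod F (CohB1.tensorPow L (N + P))).presheaf, (tmod F (CohB1.tensorPow L (N + P))).isSheaf⟩
  have hcov' : (⊤ : X.Opens) ≤ ⨆ x : {x // x ∈ t}, W x.1 := fun y hy => by
    obtain ⟨x, hx, hyx⟩ := Set.mem_iUnion₂.1 (hcov hy)
    exact Opens.mem_iSup.2 ⟨⟨x, hx⟩, hyx⟩
  obtain ⟨g, hg, -⟩ := G.existsUnique_gluing' (fun x : {x // x ∈ t} => W x.1) ⊤ (fun x => homOfLE le_top) hcov'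
    (fun x => (twistPow F s N P).app (W x.1) (ξ x))
    (fun x y => hJ x y P ((Finset.le_sup (f := fun p : {x // x ∈ t} × {x // x ∈ t} => J p.1 p.2)
      (Finset.mem_univ (x, y))).trans hPK))
  refine ⟨g, G.eq_of_locally_eq' (fun x : {x // x ∈ t} => Xs ⊓ W x.1) Xs (fun x => homOfLE inf_le_left)
    (fun y hy => by
      obtain ⟨x, hx⟩ := Opens.mem_iSup.1 (hcov' (Opens.mem_top y))
      exact Opens.mem_iSup.2 ⟨x, hy, hx⟩) _ _ fun x => ?_⟩
  show (tmod F (CohB1.tensorPow L (N + P))).presheaf.map (homOfLE (inf_le_left : Xs ⊓ W x.1 ≤ Xs)).op _ =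
    (tmod F (CohB1.tensorPow L (N + P))).presheaf.map (homOfLE (inf_le_left : Xs ⊓ W x.1 ≤ Xs)).op _
  have e2 := congrArg ((tmod F (CohB1.tensorPow L (N + P))).presheaf.map (homOfLE (inf_le_right : Xs ⊓ W x.1 ≤ W x.1)).op) (hg x)
  change (tmod F (CohB1.tensorPow L (N + P))).presheaf.map _
    ((tmod F (CohB1.tensorPow L (N + P))).presheaf.map (homOfLE le_top).op g) = _ at e2
  rw [res_res, ← app_natural, key x _ _ inf_le_left, twistPow_pairS, mulPow_powLoc] at e2
  rw [resT, res_res, e2, res_pairS, powLoc_res, resT, resT, res_res]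

/-- Sheaves with enough global sections at every point are globally generated. -/
theorem isGloballyGenerated_of_mem (F : X.Modules)
    (h : ∀ (x : X) (z : F.presheaf.stalk x), z ∈ Submodule.span (X.presheaf.stalk x)
      (Set.range fun σ : Γ(F, ⊤) => F.presheaf.germ ⊤ x (Opens.mem_top x) σ)) :
    Curv2.IsGloballyGenerated F := by
  refine ⟨Γ(F, ⊤), Sigma.desc fun σ => secHom F σ, (epi_iff_stalk _).2 fun x z => ?_⟩
  show z ∈ Set.range (stalkLin (Sigma.desc fun σ => secHom F σ) x)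
  refine (LinearMap.mem_range (f := stalkLin (Sigma.desc fun σ => secHom F σ) x)).1 ?_
  refine Submodule.span_le.2 ?_ (h x z)
  rintro _ ⟨σ, rfl⟩
  refine ⟨stalkLin (Sigma.ι (fun _ : Γ(F, ⊤) => Coh.structureModule X) σ) x (oneG x), ?_⟩
  refine (LinearMap.congr_fun (stalkLin_comp _ _ x) (oneG x)).symm.trans ?_
  rw [Sigma.ι_desc]
  exact (stalkLin_germ (secHom F σ) (U := ⊤) x (Opens.mem_top x) _).trans (congrArg _ (sec_secHom σ))

/-- The generating property is invariant under isomorphism. -/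
theorem isGloballyGenerated_of_iso {F G : X.Modules} (e : F ≅ G) (h : Curv2.IsGloballyGenerated F) :
    Curv2.IsGloballyGenerated G := by
  obtain ⟨ι, p, hp⟩ := h
  exact ⟨ι, p ≫ e.hom, @epi_comp X.Modules _ _ _ _ p hp e.hom inferInstance⟩

/-- Tensor products of a section of an invertible module. -/
theorem span_germ_twist {M : X.Modules} {x : X} {e : M.presheaf.stalk x}
    (he : Function.Bijective fun r : X.presheaf.stalk x => r • e) {F : X.Modules} (S : Set (F.presheaf.stalk x))
    (hS : Submodule.span (X.presheaf.stalk x) S = ⊤) :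
    Submodule.span (X.presheaf.stalk x) ((fun z => stalkTensor x F M (z ⊗ₜ e)) '' S) = ⊤ := by
  let f : F.presheaf.stalk x →ₗ[X.presheaf.stalk x] (tmod F M).presheaf.stalk x :=
    (stalkTensor x F M).toLinearMap ∘ₗ ((TensorProduct.mk (X.presheaf.stalk x) _ _).flip e)
  have hf : Function.Surjective f := by
    intro w
    obtain ⟨w, rfl⟩ := (stalkTensor x F M).surjective w
    suffices ∀ w, ∃ z, z ⊗ₜ[X.presheaf.stalk x] e = w by
      obtain ⟨z, hz⟩ := this w
      exact ⟨z, congrArg (stalkTensor x F M) hz⟩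
    intro w
    induction w using TensorProduct.induction_on with
    | zero => exact ⟨0, TensorProduct.zero_tmul _ _⟩
    | tmul z v =>
      obtain ⟨r, rfl⟩ := he.2 v
      exact ⟨r • z, (TensorProduct.smul_tmul r z e)⟩
    | add w w' hw hw' =>
      obtain ⟨z, hz⟩ := hw
      obtain ⟨z', hz'⟩ := hw'
      exact ⟨z + z', by rw [TensorProduct.add_tmul, hz, hz']⟩
  show Submodule.span _ (f '' S) = ⊤
  rw [Submodule.span_image, hS, Submodule.map_top, LinearMap.range_eq_top.2 hf]

/-- On an affine open the sections span the stalks. -/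
theorem span_germ_eq_top (F : X.Modules) [Coh.IsQCoh F] {W : X.Opens} (hW : IsAffineOpen W) {x : X} (hx : x ∈ W)
    (S : Set Γ(F, W)) (hS : Submodule.span Γ(X, W) S = ⊤) :
    Submodule.span (X.presheaf.stalk x) (F.presheaf.germ W x hx '' S) = ⊤ := by
  rw [eq_top_iff]
  intro z _
  obtain ⟨U, hxU, m, rfl⟩ := TopCat.Presheaf.exists_germ_eq F.presheaf z
  obtain ⟨f, hfle, hxf⟩ := hW.exists_basicOpen_le (V := U ⊓ W) ⟨x, hxU, hx⟩ hx
  obtain ⟨n, σ, hσ⟩ := (QCohLib.locAt F hW).extend f
    (F.presheaf.map (homOfLE (le_trans hfle inf_le_left : X.basicOpen f ≤ U)).op m)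
  rw [CohBase.sc_apply] at hσ
  have h2 := congrArg (F.presheaf.germ (X.basicOpen f) x hxf) hσ
  rw [germ_smul', TopCat.Presheaf.germ_res_apply, TopCat.Presheaf.germ_res_apply, TopCat.Presheaf.germ_res_apply] at h2
  obtain ⟨u, hu⟩ : IsUnit (X.presheaf.germ W x hx (f ^ n)) := by
    rw [map_pow]
    exact ((X.mem_basicOpen f x hx).1 hxf).pow n
  have hall : ∀ v ∈ Submodule.span Γ(X, W) S, F.presheaf.germ W x hx v ∈
      Submodule.span (X.presheaf.stalk x) (F.presheaf.germ W x hx '' S) := by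
    intro v hv
    induction hv using Submodule.span_induction with
    | mem v hv => exact Submodule.subset_span ⟨v, hv, rfl⟩
    | zero => rw [map_zero]; exact Submodule.zero_mem _
    | add v w _ _ hv hw => rw [map_add]; exact Submodule.add_mem _ hv hw
    | smul a v _ hv => rw [germ_smul']; exact Submodule.smul_mem _ _ hv
  have hmem := hall σ (hS ▸ Submodule.mem_top)
  rw [h2, ← hu] at hmem
  have h3 := Submodule.smul_mem _ (↑u⁻¹ : X.presheaf.stalk x) hmem
  rwa [smul_smul, Units.inv_mul, one_smul] at h3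

/-- For `F` of finite type and `L` ample, `F ⊗ L^n` is globally generated for large `n`. -/
theorem exists_twist_globallyGenerated [CompactSpace X] (h : CohB1.IsAmple L) (F : X.Modules) [Coh.IsQCoh F]
    (hF : ∀ W : X.Opens, IsAffineOpen W → Module.Finite Γ(X, W) Γ(F, W)) :
    ∃ d : ℕ, 0 < d ∧ ∃ k₀ : ℕ, ∀ k, k₀ ≤ k →
      Curv2.IsGloballyGenerated (CohB1.tensorMod F (CohB1.tensorPow L (d * k))) := by
  classical
  haveI := quasiSeparatedSpace_of_isAmple h
  choose n s hx ha using h.2.2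
  obtain ⟨T, hT⟩ := isCompact_univ.elim_finite_subcover (fun x : X => (CohB1.genLocus _ (s x) : Set X))
    (fun x => (CohB1.genLocus _ (s x)).isOpen) fun x _ => Set.mem_iUnion.2 ⟨x, hx x⟩
  -- a common power
  let d := T.prod fun x => n x + 1
  have hd : 0 < d := Finset.prod_pos fun x _ => Nat.succ_pos _
  have hdvd : ∀ x ∈ T, ∃ q, (n x + 1) * (q + 1) = d := fun x hxT => by
    obtain ⟨q, hq⟩ := Finset.dvd_prod_of_mem (fun x => n x + 1) hxT
    obtain ⟨q, rfl⟩ := Nat.exists_eq_succ_of_ne_zero (show q ≠ 0 by rintro rfl; rw [mul_zero] at hq; omega)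
    exact ⟨q, hq.symm⟩
  choose q hq using hdvd
  let M := CohB1.tensorPow L d
  have hM : PicF.IsInvertible M := isInvertible_tensorPow h.1 d
  let s' : ∀ x, x ∈ T → (Coh.structureModule X ⟶ M) := fun x hxT =>
    powS (s x) (q x hxT + 1) ≫ (powMul L (n x + 1) (q x hxT + 1) ≪≫ eqToIso (congrArg (CohB1.tensorPow L) (hq x hxT))).hom
  have hs' : ∀ x hxT, CohB1.genLocus _ (s' x hxT) = CohB1.genLocus _ (s x) := fun x hxT => by
    rw [genLocus_comp_iso, genLocus_powS (isInvertible_tensorPow h.1 _)]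
  have haff : ∀ x hxT, IsAffineOpen (CohB1.genLocus M (s' x hxT)) := fun x hxT => (hs' x hxT).symm ▸ ha x
  have hgen : ∀ x hxT, ∃ S : Finset Γ(F, CohB1.genLocus M (s' x hxT)),
      Submodule.span Γ(X, CohB1.genLocus M (s' x hxT)) (S : Set Γ(F, CohB1.genLocus M (s' x hxT))) = ⊤ := fun x hxT =>
    (hF _ (haff x hxT)).fg_top
  choose S hS using hgen
  have hext := fun x hxT (m : Γ(F, CohB1.genLocus M (s' x hxT))) => exists_twist_extend hM F (s' x hxT) m
  choose k hk using hext
  refine ⟨d, hd, T.attach.sup fun x => (S x.1 x.2).sup fun m => k x.1 x.2 m, fun j hj => ?_⟩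
  refine isGloballyGenerated_of_iso (tIso (Iso.refl F) (powMul L d j)) (isGloballyGenerated_of_mem _ fun y => ?_)
  obtain ⟨x, hxT, hyx⟩ := Set.mem_iUnion₂.1 (hT (Set.mem_univ y))
  have hy : y ∈ CohB1.genLocus M (s' x hxT) := by rw [hs']; exact hyx
  set Xs := CohB1.genLocus M (s' x hxT)
  have htop : Submodule.span (X.presheaf.stalk y)
      (Set.range fun σ : Γ(tmod F (CohB1.tensorPow M j), ⊤) =>
        (tmod F (CohB1.tensorPow M j)).presheaf.germ ⊤ y (Opens.mem_top y) σ) = ⊤ := by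
    rw [eq_top_iff, ← span_germ_twist ((gen_powLoc (gen_genLocus hM (s' x hxT)) j).bijective_germ y hy) _
      (span_germ_eq_top F (haff x hxT) hy _ (hS x hxT))]
    refine Submodule.span_le.2 ?_
    rintro _ ⟨_, ⟨m, hm, rfl⟩, rfl⟩
    have h1 : k x hxT m ≤ (S x hxT).sup fun m => k x hxT m := Finset.le_sup (f := fun m => k x hxT m) hm
    have h2 : ((S x hxT).sup fun m => k x hxT m) ≤ j := by
      refine le_trans ?_ hj
      exact Finset.le_sup (f := fun x : {x // x ∈ T} => (S x.1 x.2).sup fun m => k x.1 x.2 m)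
        (b := ⟨x, hxT⟩) (Finset.mem_attach T ⟨x, hxT⟩)
    have hjm : k x hxT m ≤ j := h1.trans h2
    obtain ⟨i, hi⟩ := Nat.exists_eq_add_of_le hjm
    subst hi
    obtain ⟨σ, hσ⟩ := hk x hxT m i
    refine Submodule.subset_span ⟨σ, ?_⟩
    show (tmod F _).presheaf.germ ⊤ y (Opens.mem_top y) σ = _
    rw [← TopCat.Presheaf.germ_res_apply (tmod F (CohB1.tensorPow M (k x hxT m + i))).presheaf
      (homOfLE (le_top : Xs ≤ ⊤)) y hy σ]
    refine (congrArg ((tmod F (CohB1.tensorPow M (k x hxT m + i))).presheaf.germ Xs y hy) hσ).trans ?_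
    exact (stalkTensorHom_tmul y hy m _).symm
  exact fun z => (Submodule.eq_top_iff'.1 htop z :)

end Groth.Agent.AmpleLib
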