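import Groth.Agent.AmpleLib.RelGen
import Groth.Prelude.Def_Curv2

/-! An ample module from a covering by affine loci of globally generated invertible modules. -/

set_option autoImplicit false
set_option linter.style.haveILetI false
universe u

open CategoryTheory CategoryTheory.Limits AlgebraicGeometry TopologicalSpace Opposite
open Groth.Agent.ParaFLib Groth.Agent.PullbackMod Groth.Agent.DCohLib

noncomputable section

namespace Groth.Agent.AmpleLib

variable {X : Scheme.{u}}

/-- At every point some global section of a globally generated invertible module generates. -/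
theorem exists_genLocus_of_isGloballyGenerated {L : X.Modules} (hL : PicF.IsInvertible L)
    (h : Curv2.IsGloballyGenerated L) (x : X) : ∃ t : Coh.structureModule X ⟶ L, x ∈ CohB1.genLocus L t := by
  obtain ⟨ι, p, hp⟩ := h
  obtain ⟨e, he⟩ := exists_stalk_gen hL x
  by_contra hne
  push Not at hne
  set S : Submodule (X.presheaf.stalk x) (L.presheaf.stalk x) :=
    Submodule.map (LinearMap.toSpanSingleton (X.presheaf.stalk x) _ e) (IsLocalRing.maximalIdeal (X.presheaf.stalk x))
  have hmem : ∀ t : Coh.structureModule X ⟶ L, L.presheaf.germ ⊤ x (Opens.mem_top x) (sec t) ∈ S := fun t => by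
    obtain ⟨c, hc⟩ := he.2 (L.presheaf.germ ⊤ x (Opens.mem_top x) (sec t))
    refine ⟨c, fun hu => hne t ?_, hc⟩
    rw [mem_genLocus_iff hL, ← hc, bijective_smul_iff he]
    exact hu
  let ψ : L ⟶ sky x (L.presheaf.stalk x ⧸ S) := toSky S.mkQ
  haveI := hp
  have hψ : ψ = 0 := by
    refine (@cancel_epi X.Modules _ _ _ _ p hp ψ 0).1 ?_
    refine Eq.trans ?_ (comp_zero (C := X.Modules) (f := p)).symm
    refine Cofan.IsColimit.hom_ext (SheafOfModules.isColimitFreeCofan ι) _ _ fun i => ?_
    let t : Coh.structureModule X ⟶ L := SheafOfModules.ιFree i ≫ p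
    refine Eq.trans ?_ (comp_zero (C := X.Modules) (f := SheafOfModules.ιFree i)).symm
    refine (Category.assoc (obj := X.Modules) (SheafOfModules.ιFree i) p ψ).symm.trans ?_
    show t ≫ ψ = 0
    refine DCohLib.hom_unit_ext ?_
    refine funext fun hx => ?_
    show S.mkQ (L.presheaf.germ ⊤ x hx.down (sec t)) = 0
    rw [Submodule.mkQ_apply, Submodule.Quotient.mk_eq_zero]
    exact hmem t
  have h0 : ∀ (U : X.Opens) (m : Γ(L, U)), (toSky S.mkQ).app U m = 0 := fun U m => by
    show ψ.app U m = 0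
    rw [hψ]
    rfl
  obtain ⟨U, hxU, m, hm⟩ := TopCat.Presheaf.exists_germ_eq L.presheaf e
  have he' : e ∈ S := by
    rw [← Submodule.Quotient.mk_eq_zero, ← Submodule.mkQ_apply, ← hm, ← toSky_app S.mkQ U m ⟨hxU⟩]
    exact congrFun (h0 U m) ⟨hxU⟩
  obtain ⟨r, hr, hre⟩ := he'
  have : r = 1 := he.1 (hre.trans (one_smul _ e).symm)
  exact hr (this ▸ isUnit_one)

/-- An ample module from affine loci of finitely many globally generated modules. -/
theorem exists_isAmple_of_cover [CompactSpace X]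
    (h : ∀ x : X, ∃ (L : X.Modules) (s : Coh.structureModule X ⟶ L), PicF.IsInvertible L ∧
      Curv2.IsGloballyGenerated L ∧ x ∈ CohB1.genLocus L s ∧ IsAffineOpen (CohB1.genLocus L s)) :
    ∃ M : X.Modules, CohB1.IsAmple M := by
  classical
  choose L s hL hg hx ha using h
  obtain ⟨T, hT⟩ := isCompact_univ.elim_finite_subcover (fun x : X => (CohB1.genLocus _ (s x) : Set X))
    (fun x => (CohB1.genLocus _ (s x)).isOpen) fun x _ => Set.mem_iUnion.2 ⟨x, hx x⟩
  suffices key : ∀ T : Finset X, ∃ M : X.Modules, PicF.IsInvertible M ∧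
      (∀ y, ∃ t : Coh.structureModule X ⟶ M, y ∈ CohB1.genLocus M t) ∧
      ∀ y, ∀ i ∈ T, y ∈ CohB1.genLocus _ (s i) →
        ∃ t : Coh.structureModule X ⟶ M, y ∈ CohB1.genLocus M t ∧ IsAffineOpen (CohB1.genLocus M t) by
    obtain ⟨M, hM, -, hM'⟩ := key T
    refine ⟨M, hM, inferInstance, fun y => ?_⟩
    obtain ⟨i, hi, hyi⟩ := Set.mem_iUnion₂.1 (hT (Set.mem_univ y))
    obtain ⟨t, hy, ht⟩ := hM' y i hi hyi
    refine ⟨0, t ≫ (powOne M).symm.hom, ?_⟩
    rw [genLocus_comp_iso]
    exact ⟨hy, ht⟩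
  intro T
  induction T using Finset.induction_on with
  | empty =>
    exact ⟨Coh.structureModule X, isInvertible_structureModule, fun y => ⟨𝟙 _, by rw [genLocus_id]; trivial⟩,
      fun y i hi => absurd hi (Finset.notMem_empty i)⟩
  | insert a T _ ih =>
    obtain ⟨M, hM, hgen, haff⟩ := ih
    refine ⟨CohB1.tensorMod M (L a), isInvertible_tensor hM (hL a), fun y => ?_, fun y i hi hy => ?_⟩
    · obtain ⟨t, ht⟩ := hgen y
      obtain ⟨t', ht'⟩ := exists_genLocus_of_isGloballyGenerated (hL a) (hg a) y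
      exact ⟨tensorS t t', by rw [genLocus_tensorS hM (hL a)]; exact ⟨ht, ht'⟩⟩
    · rcases Finset.mem_insert.1 hi with rfl | hi
      · obtain ⟨t, ht⟩ := hgen y
        refine ⟨tensorS t (s i), ?_⟩
        rw [genLocus_tensorS hM (hL i)]
        exact ⟨⟨ht, hy⟩, isAffineOpen_inf_genLocus hM t (ha i)⟩
      · obtain ⟨t, ht, hta⟩ := haff y i hi hy
        obtain ⟨t', ht'⟩ := exists_genLocus_of_isGloballyGenerated (hL a) (hg a) y
        refine ⟨tensorS t t', ?_⟩
        rw [genLocus_tensorS hM (hL a), inf_comm]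
        exact ⟨⟨ht', ht⟩, isAffineOpen_inf_genLocus (hL a) t' hta⟩

end Groth.Agent.AmpleLib
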