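import Groth.Agent.QAffLib.Basic
import Groth.Prelude.Def_MoreMor

/-! Ind-quasi-affine morphisms. -/

set_option autoImplicit false
set_option linter.style.haveILetI false
universe u

open CategoryTheory CategoryTheory.Limits AlgebraicGeometry TopologicalSpace

namespace Groth.Agent.AmpleLib.IndQA

variable {X Y Z : Scheme.{u}}

theorem iff_forall (f : X ⟶ Y) : MoreMor.IsIndQuasiAffineHom f ↔ ∀ (V : Y.Opens), IsAffineOpen V →
    ∀ U : X.Opens, U ≤ f ⁻¹ᵁ V → IsCompact (U : Set X) → (U : Scheme.{u}).IsQuasiAffine := by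
  constructor
  · intro h V hV U hUV hU
    let j := (f ⁻¹ᵁ V).ι
    have hc : IsCompact (j ⁻¹' (U : Set X)) :=
      j.isOpenEmbedding.isEmbedding.isInducing.isCompact_preimage' hU (by
        rw [Scheme.Opens.range_ι]; exact hUV)
    haveI : ((j ⁻¹ᵁ U : (f ⁻¹ᵁ V).toScheme.Opens) : Scheme.{u}).IsQuasiAffine := h V hV _ hc
    exact QAffLib.preimage_qa (f := j) U (by rw [Scheme.Opens.opensRange_ι]; exact hUV)
  · intro h V hV U₀ hU₀
    let j := (f ⁻¹ᵁ V).ι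
    haveI := h V hV (j ''ᵁ U₀) (by rintro _ ⟨z, -, rfl⟩; exact z.2) (hU₀.image j.continuous)
    exact QAffLib.of_iso (j.isoImage U₀).hom

theorem quasiCompact_resLE (f : X ⟶ Y) {V : Y.Opens} {U : X.Opens} (hUV : U ≤ f ⁻¹ᵁ V)
    (hV : IsQuasiSeparated (V : Set Y)) (hU : IsCompact (U : Set X)) : QuasiCompact (f.resLE V U hUV) := by
  haveI : CompactSpace U.toScheme := isCompact_iff_compactSpace.mp hU
  haveI : QuasiSeparatedSpace V.toScheme := (isQuasiSeparated_iff_quasiSeparatedSpace _ V.2).1 hV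
  exact quasiCompact_of_compactSpace _

theorem qa_resLE {f : X ⟶ Y} (h : MoreMor.IsIndQuasiAffineHom f) {V : Y.Opens}
    (hV : IsQuasiSeparated (V : Set Y)) {U : X.Opens} (hUV : U ≤ f ⁻¹ᵁ V) (hU : IsCompact (U : Set X)) :
    Mor2.IsQuasiAffine (f.resLE V U hUV) := by
  haveI := quasiCompact_resLE f hUV hV hU
  refine ⟨inferInstance, fun W hW => ?_⟩
  have hc : IsCompact ((f.resLE V U hUV) ⁻¹' (W : Set V.toScheme)) := QAffLib.qc_preimage (f.resLE V U hUV) hW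
  haveI := (iff_forall f).1 h (V.ι ''ᵁ W) (hW.image_of_isOpenImmersion V.ι)
    (U.ι ''ᵁ ((f.resLE V U hUV) ⁻¹ᵁ W)) (by
      rintro _ ⟨z, hz, rfl⟩
      refine ⟨f.resLE V U hUV z, hz, ?_⟩
      exact congr($(Scheme.Hom.resLE_comp_ι f hUV) z)) (hc.image U.ι.continuous)
  exact QAffLib.of_iso (U.ι.isoImage _).hom

theorem of_isQuasiAffine {f : X ⟶ Y} (h : Mor2.IsQuasiAffine f) : MoreMor.IsIndQuasiAffineHom f :=
  (iff_forall f).2 fun V hV U hUV hU => by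
    haveI := h.2 V hV
    exact QAffLib.open_of_le U (f ⁻¹ᵁ V) hUV hU

theorem of_isImmersion (f : X ⟶ Y) [IsImmersion f] : MoreMor.IsIndQuasiAffineHom f :=
  (iff_forall f).2 fun V hV U hUV hU => by
    haveI : IsAffine V.toScheme := hV
    haveI : CompactSpace U.toScheme := isCompact_iff_compactSpace.mp hU
    haveI : IsImmersion (f.resLE V U hUV) := by delta Scheme.Hom.resLE; infer_instance
    exact Scheme.IsQuasiAffine.of_isImmersion (f.resLE V U hUV)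

theorem comp {f : X ⟶ Y} {g : Y ⟶ Z} (hf : MoreMor.IsIndQuasiAffineHom f) (hg : MoreMor.IsIndQuasiAffineHom g) :
    MoreMor.IsIndQuasiAffineHom (f ≫ g) :=
  (iff_forall _).2 fun W hW U hUW hU => by
    obtain ⟨V, hUV, hVW, hV⟩ : ∃ V : Y.Opens, U ≤ f ⁻¹ᵁ V ∧ V ≤ g ⁻¹ᵁ W ∧ IsCompact (V : Set Y) := by
      have hex : ∀ x : U, ∃ A : Y.Opens, IsAffineOpen A ∧ f x.1 ∈ A ∧ A ≤ g ⁻¹ᵁ W := fun x => by
        obtain ⟨_, ⟨A, hA, rfl⟩, hxA, hle⟩ := Y.isBasis_affineOpens.exists_subset_of_mem_open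
          (show f x.1 ∈ g ⁻¹ᵁ W from hUW x.2) (g ⁻¹ᵁ W).2
        exact ⟨A, hA, hxA, hle⟩
      choose A hA hxA hle using hex
      obtain ⟨t, ht⟩ := hU.elim_finite_subcover (fun x : U => (f ⁻¹ᵁ A x : Set X)) (fun x => (f ⁻¹ᵁ A x).2)
        fun x hx => Set.mem_iUnion.2 ⟨⟨x, hx⟩, hxA ⟨x, hx⟩⟩
      refine ⟨⨆ x ∈ t, A x, fun x hx => ?_, iSup₂_le fun x _ => hle x, ?_⟩
      · obtain ⟨y, hy, hxy⟩ := Set.mem_iUnion₂.1 (ht hx)
        exact (le_iSup₂ (f := fun x _ => A x) y hy : A y ≤ _) hxy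
      · simp only [Opens.coe_iSup]
        exact t.finite_toSet.isCompact_biUnion fun x _ => (hA x).isCompact
    haveI : V.toScheme.IsQuasiAffine := (iff_forall g).1 hg W hW V hVW hV
    have hqs : IsQuasiSeparated (V : Set Y) :=
      (isQuasiSeparated_iff_quasiSeparatedSpace _ V.2).2 (inferInstanceAs (QuasiSeparatedSpace V.toScheme))
    exact QAffLib.qa_source _ (qa_resLE hf hqs hUV hU)

theorem of_cover {f : X ⟶ Y} {V : Y.Opens} (hV : IsAffineOpen V) {U : X.Opens} (hUV : U ≤ f ⁻¹ᵁ V)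
    (hU : IsCompact (U : Set X))
    (h : ∀ y ∈ V, ∃ D : Y.Opens, IsAffineOpen D ∧ D ≤ V ∧ y ∈ D ∧
      ∀ U₁ : X.Opens, U₁ ≤ f ⁻¹ᵁ D → U₁ ≤ U → IsCompact (U₁ : Set X) → (U₁ : Scheme.{u}).IsQuasiAffine) :
    (U : Scheme.{u}).IsQuasiAffine := by
  haveI : IsAffine V.toScheme := hV
  haveI := quasiCompact_resLE f hUV hV.isQuasiSeparated hU
  refine QAffLib.qa_source _ (QAffLib.isQuasiAffine_of_cover (f.resLE V U hUV) fun y => ?_)
  obtain ⟨D, hD, hDV, hyD, hD'⟩ := h y.1 y.2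
  have hD₁ : IsAffineOpen (V.ι ⁻¹ᵁ D) := by
    rw [← V.ι.isAffineOpen_iff_of_isOpenImmersion, Scheme.Hom.image_preimage_eq_opensRange_inf,
      Scheme.Opens.opensRange_ι, inf_eq_right.2 hDV]
    exact hD
  refine ⟨V.ι ⁻¹ᵁ D, hD₁, hyD, ?_⟩
  haveI := hD' (U.ι ''ᵁ ((f.resLE V U hUV) ⁻¹ᵁ (V.ι ⁻¹ᵁ D))) (by
      rintro _ ⟨z, hz, rfl⟩
      have : f (U.ι z) = V.ι (f.resLE V U hUV z) := by
        rw [← Scheme.Hom.comp_apply, ← Scheme.Hom.comp_apply, Scheme.Hom.resLE_comp_ι]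
      show f (U.ι z) ∈ D
      rw [this]
      exact hz) (by rintro _ ⟨z, -, rfl⟩; exact z.2)
    ((QAffLib.qc_preimage _ hD₁).image U.ι.continuous)
  exact QAffLib.of_iso (U.ι.isoImage _).hom

theorem of_comp {f : X ⟶ Y} {g : Y ⟶ Z} (h : MoreMor.IsIndQuasiAffineHom (f ≫ g)) :
    MoreMor.IsIndQuasiAffineHom f :=
  (iff_forall f).2 fun V hV U hUV hU => of_cover hV hUV hU fun y hy => by
    obtain ⟨_, ⟨W, hW, rfl⟩, hyW, -⟩ := Z.isBasis_affineOpens.exists_subset_of_mem_open (Set.mem_univ (g y)) isOpen_univ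
    obtain ⟨_, ⟨D, hD, rfl⟩, hyD, hle⟩ := Y.isBasis_affineOpens.exists_subset_of_mem_open
      (show y ∈ V ⊓ g ⁻¹ᵁ W from ⟨hy, hyW⟩) (V ⊓ g ⁻¹ᵁ W).2
    exact ⟨D, hD, le_trans hle inf_le_left, hyD, fun U₁ h₁ _ hc =>
      (iff_forall _).1 h W hW U₁ (fun x hx => (hle (h₁ hx)).2) hc⟩

theorem baseChange {S X' S' : Scheme.{u}} {f : X ⟶ S} {f' : X' ⟶ S'} {g' : X' ⟶ X} {g : S' ⟶ S}
    (hc : IsPullback g' f' f g) (hf : MoreMor.IsIndQuasiAffineHom f) : MoreMor.IsIndQuasiAffineHom f' :=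
  (iff_forall f').2 fun V' hV' U hUV hU => of_cover hV' hUV hU fun y hy => by
    obtain ⟨_, ⟨(V : S.Opens), hV, rfl⟩, hyV, -⟩ := S.isBasis_affineOpens.exists_subset_of_mem_open (Set.mem_univ (g y)) isOpen_univ
    obtain ⟨_, ⟨(D : S'.Opens), hD, rfl⟩, hyD, hle⟩ := S'.isBasis_affineOpens.exists_subset_of_mem_open
      (show y ∈ V' ⊓ g ⁻¹ᵁ V from ⟨hy, hyV⟩) (V' ⊓ g ⁻¹ᵁ V).2
    refine ⟨D, hD, le_trans hle inf_le_left, hyD, fun U₁ h₁ _ hU₁ => ?_⟩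
    have hmem : ∀ z : U₁, g' z.1 ∈ f ⁻¹ᵁ V := fun z => by
      show (g' ≫ f) z.1 ∈ V
      rw [hc.w]
      exact (hle (h₁ z.2)).2
    obtain ⟨U₀, hU₁U₀, hU₀V, hU₀c⟩ : ∃ U₀ : X.Opens, U₁ ≤ g' ⁻¹ᵁ U₀ ∧ U₀ ≤ f ⁻¹ᵁ V ∧ IsCompact (U₀ : Set X) := by
      have hex : ∀ z : U₁, ∃ A : X.Opens, IsAffineOpen A ∧ g' z.1 ∈ A ∧ A ≤ f ⁻¹ᵁ V := fun z => by
        obtain ⟨_, ⟨A, hA, rfl⟩, hxA, hle'⟩ := X.isBasis_affineOpens.exists_subset_of_mem_open (hmem z) (f ⁻¹ᵁ V).2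
        exact ⟨A, hA, hxA, hle'⟩
      choose A hA hxA hle' using hex
      obtain ⟨t, ht⟩ := hU₁.elim_finite_subcover (fun z : U₁ => (g' ⁻¹ᵁ A z : Set X')) (fun z => (g' ⁻¹ᵁ A z).2)
        fun z hz => Set.mem_iUnion.2 ⟨⟨z, hz⟩, hxA ⟨z, hz⟩⟩
      refine ⟨⨆ z ∈ t, A z, fun z hz => ?_, iSup₂_le fun z _ => hle' z, ?_⟩
      · obtain ⟨w, hw, hzw⟩ := Set.mem_iUnion₂.1 (ht hz)
        exact (le_iSup₂ (f := fun z _ => A z) w hw : A w ≤ _) hzw
      · simp only [Opens.coe_iSup]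
        exact t.finite_toSet.isCompact_biUnion fun z _ => (hA z).isCompact
    haveI : U₀.toScheme.IsQuasiAffine := (iff_forall f).1 hf V hV U₀ hU₀V hU₀c
    haveI : IsAffine V.toScheme := hV
    haveI : IsAffine D.toScheme := hD
    let gD := g.resLE V D (fun z hz => (hle hz).2)
    let fU := f.resLE V U₀ hU₀V
    let m : pullback fU gD ⟶ X' := hc.lift (pullback.fst fU gD ≫ U₀.ι) (pullback.snd fU gD ≫ D.ι) (by
      simp only [Category.assoc, fU, gD]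
      rw [← Scheme.Hom.resLE_comp_ι f hU₀V, ← Scheme.Hom.resLE_comp_ι g (fun z hz => (hle hz).2),
        pullback.condition_assoc])
    let κ := pullback.map fU gD f g U₀.ι D.ι V.ι (Scheme.Hom.resLE_comp_ι _ _) (Scheme.Hom.resLE_comp_ι _ _)
    have hm : m = κ ≫ hc.isoPullback.inv := hc.hom_ext
      (by simp only [m, κ, Category.assoc, pullback.map, hc.isoPullback_inv_fst, hc.lift_fst, pullback.lift_fst])
      (by simp only [m, κ, Category.assoc, pullback.map, hc.isoPullback_inv_snd, hc.lift_snd, pullback.lift_snd])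
    haveI : IsOpenImmersion m := by rw [hm]; infer_instance
    haveI : IsAffineHom (pullback.fst fU gD) := MorphismProperty.pullback_fst _ _ inferInstance
    haveI : (pullback fU gD).IsQuasiAffine := Scheme.IsQuasiAffine.of_isAffineHom (pullback.fst fU gD)
    have hsub : U₁ ≤ m.opensRange := by
      intro z hz
      obtain ⟨p, hp⟩ : hc.isoPullback.hom z ∈ Set.range κ := by
        rw [Scheme.Pullback.range_map]
        refine ⟨?_, ?_⟩
        · rw [Scheme.Opens.range_ι]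
          show (hc.isoPullback.hom ≫ pullback.fst f g) z ∈ U₀
          rw [hc.isoPullback_hom_fst]
          exact hU₁U₀ hz
        · rw [Scheme.Opens.range_ι]
          show (hc.isoPullback.hom ≫ pullback.snd f g) z ∈ D
          rw [hc.isoPullback_hom_snd]
          exact h₁ hz
      refine ⟨p, ?_⟩
      rw [hm, Scheme.Hom.comp_apply, hp, ← Scheme.Hom.comp_apply, Iso.hom_inv_id]
      rfl
    have hc' : IsCompact (m ⁻¹' (U₁ : Set X')) :=
      m.isOpenEmbedding.isEmbedding.isInducing.isCompact_preimage' hU₁ hsub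
    haveI : ((m ⁻¹ᵁ U₁ : (pullback fU gD).Opens) : Scheme.{u}).IsQuasiAffine := by
      haveI : CompactSpace (m ⁻¹ᵁ U₁).toScheme := isCompact_iff_compactSpace.mp hc'
      exact Scheme.IsQuasiAffine.of_isImmersion (m ⁻¹ᵁ U₁).ι
    exact QAffLib.preimage_qa (f := m) U₁ hsub

end Groth.Agent.AmpleLib.IndQA
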