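import Groth.Agent.AmpleLib.Pullback

/-! Restriction of ample modules and relative ampleness. -/

set_option autoImplicit false
universe u

open CategoryTheory CategoryTheory.Limits AlgebraicGeometry TopologicalSpace
open Groth.Agent.ParaFLib

noncomputable section

namespace Groth.Agent.AmpleLib

variable {X Y : Scheme.{u}}

/-- Restriction as a pullback. -/
def restrictIso {U : Scheme.{u}} (j : U ⟶ X) [IsOpenImmersion j] (L : X.Modules) :
    L.restrict j ≅ (Scheme.Modules.pullback j).obj L :=
  (Scheme.Modules.restrictFunctorIsoPullback j).app L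

/-- Restriction of tensor powers. -/
def restrictPow {U : Scheme.{u}} (j : U ⟶ X) [IsOpenImmersion j] (L : X.Modules) (n : ℕ) :
    (CohB1.tensorPow L n).restrict j ≅ CohB1.tensorPow (L.restrict j) n :=
  restrictIso j _ ≪≫ pullPow j L n ≪≫ powCongr (restrictIso j L).symm n

/-- Restriction of a tensor product. -/
def restrictTensor {U : Scheme.{u}} (j : U ⟶ X) [IsOpenImmersion j] (L M : X.Modules) :
    (CohB1.tensorMod L M).restrict j ≅ CohB1.tensorMod (L.restrict j) (M.restrict j) :=
  restrictIso j _ ≪≫ pullTensor j L M ≪≫ tIso (restrictIso j L).symm (restrictIso j M).symm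

theorem isAmple_restrict_of_isAffineHom {U : Scheme.{u}} (j : U ⟶ X) [IsOpenImmersion j] [IsAffineHom j]
    {L : X.Modules} (h : CohB1.IsAmple L) : CohB1.IsAmple (L.restrict j) :=
  isAmple_of_iso (restrictIso j L).symm (isAmple_pullback j h)

theorem isInvertible_of_isRelAmple {f : X ⟶ Y} {L : X.Modules} (h : RelAmple.IsRelAmple f L) :
    PicF.IsInvertible L := isInvertible_of_locally fun x => by
  obtain ⟨_, ⟨V, hV, rfl⟩, hx, -⟩ :=
    Y.isBasis_affineOpens.exists_subset_of_mem_open (Set.mem_univ (f x)) isOpen_univ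
  exact ⟨f ⁻¹ᵁ V, hx, (h.2 ⟨V, hV⟩).1⟩

theorem isRelAmple_pow_iff {f : X ⟶ Y} {L : X.Modules} (hL : PicF.IsInvertible L) {n : ℕ} (hn : 0 < n) :
    RelAmple.IsRelAmple f (CohB1.tensorPow L n) ↔ RelAmple.IsRelAmple f L := by
  refine and_congr Iff.rfl (forall_congr' fun V => ?_)
  have hU := isInvertible_restrict (f ⁻¹ᵁ V.1).ι hL
  rw [← isAmple_pow_iff hU hn]
  exact ⟨isAmple_of_iso (restrictPow _ L n), isAmple_of_iso (restrictPow _ L n).symm⟩

end Groth.Agent.AmpleLib
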