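import Groth.Agent.AmpleLib.SpanBC
import Groth.Agent.AmpleLib.Separated
import Groth.Agent.QAffLib.Basic
import Groth.Agent.SchDesc.QADescends
import Groth.Agent.FpqcDesc.Basic

/-! Descent of ampleness along faithfully flat quasi-compact morphisms. -/

set_option autoImplicit false
set_option linter.style.haveILetI false
universe u

open CategoryTheory CategoryTheory.Limits AlgebraicGeometry TopologicalSpace Opposite
open Groth.Agent.ParaFLib Groth.Agent.PullbackMod Groth.Agent.DCohLib

noncomputable section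

namespace Groth.Agent.AmpleLib

variable {X Y Y' : Scheme.{u}}

/-- The locus of any section of a power of an ample module is quasi-affine. -/
theorem isQuasiAffine_genLocus {L : X.Modules} (h : CohB1.IsAmple L) {m : ℕ}
    (s : Coh.structureModule X ⟶ CohB1.tensorPow L (m + 1)) :
    (CohB1.genLocus _ s).toScheme.IsQuasiAffine := by
  haveI := h.2.1
  have hM := isInvertible_tensorPow h.1 (m + 1)
  set W := CohB1.genLocus _ s
  haveI : IsAffineHom W.ι := isAffineHom_genLocus_ι hM s
  haveI : CompactSpace W.toScheme := QuasiCompact.compactSpace_of_compactSpace W.ι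
  haveI := (isIso_restrict_iff s W).2 (gen_genLocus hM s)
  exact isQuasiAffine_iff.2 (isAmple_of_iso
    ((asIso ((Scheme.Modules.restrictFunctor W.ι).map s)).symm ≪≫ DCohLib.restrictUnit _)
    (isAmple_restrict W.ι ((isAmple_pow_iff h.1 (Nat.succ_pos m)).2 h)))

/-- Descent of ampleness along a faithfully flat morphism of affine schemes. -/
theorem isAmple_of_pullback [IsAffine Y] [IsAffine Y'] (f : X ⟶ Y) (g : Y' ⟶ Y) [QuasiCompact f] [Flat g]
    [Surjective g] {L : X.Modules} (hL : PicF.IsInvertible L)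
    (h : CohB1.IsAmple ((Scheme.Modules.pullback (pullback.fst f g)).obj L)) : CohB1.IsAmple L := by
  haveI : CompactSpace X := QuasiCompact.compactSpace_of_compactSpace f
  have hpb : IsPullback (pullback.fst f g) (pullback.snd f g) f g := IsPullback.of_hasPullback f g
  haveI : QuasiCompact g := inferInstance
  have hsep : IsSeparated f := by
    haveI : (pullback f g).IsSeparated := isSeparated_of_affine_genLocus h.1 fun x => h.2.2 x
    haveI : IsSeparated (pullback.snd f g) := by
      haveI : IsSeparated (pullback.snd f g ≫ terminal.from Y') := by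
        rw [terminal.comp_from]; infer_instance
      exact IsSeparated.of_comp (pullback.snd f g) (terminal.from Y')
    haveI := @Groth.Agent.FpqcDesc.isSeparated_descends.{u}
    exact MorphismProperty.of_isPullback_of_descendsAlong (P := @IsSeparated)
      (Q := @Surjective ⊓ @Flat ⊓ @QuasiCompact) hpb.flip ⟨⟨‹_›, ‹_›⟩, ‹_›⟩ inferInstance
  haveI : X.IsSeparated := ⟨by rw [← terminal.comp_from f]; infer_instance⟩
  haveI : QuasiSeparatedSpace X := inferInstanceAs (QuasiSeparatedSpace X)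
  refine ⟨hL, inferInstance, fun x => ?_⟩
  haveI : Surjective (pullback.fst f g) := MorphismProperty.pullback_fst (P := @Surjective) _ _ inferInstance
  obtain ⟨x', rfl⟩ := (pullback.fst f g).surjective x
  set g' := pullback.fst f g
  obtain ⟨n, s', hx', -⟩ := h.2.2 x'
  let G := CohB1.tensorPow L (n + 1)
  have hG : PicF.IsInvertible G := isInvertible_tensorPow hL _
  haveI := Groth.Agent.InvExt.isQCoh_of_isInvertible hG
  let s'' := s' ≫ (pullPow g' L (n + 1)).symm.hom
  have hx'' : x' ∈ CohB1.genLocus _ s'' := by rw [genLocus_comp_iso]; exact hx'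
  -- some section of the power does not vanish at the point
  obtain ⟨σ, hσ⟩ : ∃ σ : Γ(G, ⊤), g' x' ∈ CohB1.genLocus G (secHom G σ) := by
    obtain ⟨e, he⟩ := exists_stalk_gen hG (g' x')
    have he' := bijective_pullStalk g' x' he
    let f₁ : X ⟶ Spec Γ(Y, ⊤) := f ≫ Y.isoSpec.hom
    let f₁' : pullback f g ⟶ Spec Γ(Y', ⊤) := pullback.snd f g ≫ Y'.isoSpec.hom
    have hc : IsPullback g' f₁' f₁ (Spec.map g.appTop) :=
      hpb.of_iso (Iso.refl _) (Iso.refl _) Y'.isoSpec Y.isoSpec (by simp) (by simp [f₁'])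
        (by simp [f₁]) (Scheme.isoSpec_hom_naturality g).symm
    have hflat : g.appTop.hom.Flat := by
      have : Flat (Spec.map g.appTop) := by
        rw [show Spec.map g.appTop = Y'.isoSpec.inv ≫ g ≫ Y.isoSpec.hom by rw [← Scheme.isoSpec_hom_naturality, Iso.inv_hom_id_assoc]]
        infer_instance
      exact HasRingHomProperty.Spec_iff.1 this
    haveI : IsSeparated f₁ := inferInstanceAs (IsSeparated (f ≫ Y.isoSpec.hom))
    haveI : QuasiCompact f₁ := inferInstanceAs (QuasiCompact (f ≫ Y.isoSpec.hom))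
    have hspan := germ_mem_span_pullStalk G g' g.appTop f₁ f₁' hc hflat (sec s'') x'
    by_contra hne
    push Not at hne
    have hle : Submodule.span ((pullback f g).presheaf.stalk x')
        (Set.range fun σ : Γ(G, ⊤) => pullStalk g' G x' (G.presheaf.germ ⊤ (g' x') (Opens.mem_top _) σ)) ≤
        Submodule.map (LinearMap.toSpanSingleton _ _ (pullStalk g' G x' e))
          (IsLocalRing.maximalIdeal ((pullback f g).presheaf.stalk x')) := by
      rw [Submodule.span_le]
      rintro _ ⟨σ, rfl⟩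
      obtain ⟨c, hc'⟩ := he.2 (G.presheaf.germ ⊤ (g' x') (Opens.mem_top _) σ)
      refine ⟨g'.stalkMap x' c, fun hu => hne σ ?_, ?_⟩
      · rw [mem_genLocus_iff hG, sec_secHom, ← hc', bijective_smul_iff he]
        exact isUnit_of_map_unit (g'.stalkMap x').hom c hu
      · show g'.stalkMap x' c • pullStalk g' G x' e = _
        rw [← pullStalk_smul]
        exact congrArg _ hc'
    obtain ⟨r, hr, hre⟩ := hle hspan
    rw [mem_genLocus_iff (isInvertible_pullback g' hG)] at hx''
    rw [← hre] at hx''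
    exact hr ((bijective_smul_iff he' r).1 hx'')
  let t := secHom G σ
  set W := CohB1.genLocus G t
  have hW'qa : (g' ⁻¹ᵁ W).toScheme.IsQuasiAffine := by
    have := isQuasiAffine_genLocus h (pullS g' t ≫ (pullPow g' L (n + 1)).hom)
    rwa [genLocus_comp_iso, genLocus_pullS g' hG] at this
  haveI : IsAffineHom W.ι := isAffineHom_genLocus_ι hG t
  haveI : CompactSpace W.toScheme := QuasiCompact.compactSpace_of_compactSpace W.ι
  haveI hWqa : W.toScheme.IsQuasiAffine := by
    let fW : W.toScheme ⟶ Y := W.ι ≫ f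
    let fW' : (g' ⁻¹ᵁ W).toScheme ⟶ Y' := (g' ⁻¹ᵁ W).ι ≫ pullback.snd f g
    have hsq : IsPullback (g' ∣_ W) fW' fW g := (isPullback_morphismRestrict g' W).paste_vert hpb
    haveI := hW'qa
    haveI : QuasiCompact fW' := by
      haveI : QuasiCompact fW := inferInstanceAs (QuasiCompact (W.ι ≫ f))
      exact MorphismProperty.of_isPullback hsq inferInstance
    have hqa' : Mor2.IsQuasiAffine fW' :=
      ⟨inferInstance, fun D hD => (haveI : CompactSpace (fW' ⁻¹ᵁ D).toScheme := isCompact_iff_compactSpace.mp (QAffLib.qc_preimage fW' hD); Scheme.IsQuasiAffine.of_isImmersion (fW' ⁻¹ᵁ D).ι)⟩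
    haveI := @Groth.Agent.SchDesc.isQuasiAffine_descends.{u}
    have hqa : Mor2.IsQuasiAffine fW := MorphismProperty.of_isPullback_of_descendsAlong
      (P := (fun _ _ f => Mor2.IsQuasiAffine f : MorphismProperty Scheme.{u}))
      (Q := @Surjective ⊓ @Flat ⊓ @QuasiCompact) hsq.flip ⟨⟨‹_›, ‹_›⟩, ‹_›⟩ hqa'
    exact QAffLib.qa_source fW hqa
  have hxW : g' x' ∈ W := hσ
  obtain ⟨_, ⟨_, ⟨r, hr, rfl⟩, rfl⟩, hxr, -⟩ := (Scheme.IsQuasiAffine.isBasis_basicOpen W.toScheme).exists_subset_of_mem_open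
    (Set.mem_univ (⟨g' x', hxW⟩ : W)) isOpen_univ
  obtain ⟨q, u, hu⟩ := exists_genLocus_eq_basicOpen hL t (W.topIso.hom r)
  refine ⟨q, u, ?_⟩
  have himg : W.ι ''ᵁ W.toScheme.basicOpen r = X.basicOpen (W.topIso.hom r) := by
    rw [Scheme.image_basicOpen, Scheme.Opens.ι_appIso]
    simp [Scheme.Opens.topIso_hom]
    exact (X.basicOpen_res_eq r (eqToHom (congrArg op W.ι_image_top))).symm
  rw [hu, ← himg]
  exact ⟨⟨⟨g' x', hxW⟩, hxr, rfl⟩, hr.image_of_isOpenImmersion _⟩

/-- Descent of relative ampleness along faithfully flat quasi-compact base change. -/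
theorem isRelAmple_of_baseChange {S S' : Scheme.{u}} (f : X ⟶ S) {L : X.Modules} (hL : PicF.IsInvertible L)
    (g : S' ⟶ S) [QuasiCompact g] [Flat g] [Surjective g]
    (h : RelAmple.IsRelAmple (pullback.snd f g) ((Scheme.Modules.pullback (pullback.fst f g)).obj L)) :
    RelAmple.IsRelAmple f L := by
  haveI := h.1
  haveI : QuasiCompact f := by
    haveI := @Groth.Agent.FpqcDesc.quasiCompact_descends.{u}
    exact MorphismProperty.of_isPullback_of_descendsAlong (P := @QuasiCompact)
      (Q := @Surjective ⊓ @Flat ⊓ @QuasiCompact) (IsPullback.of_hasPullback f g).flip ⟨⟨‹_›, ‹_›⟩, ‹_›⟩ inferInstance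
  refine ⟨inferInstance, fun V => ?_⟩
  haveI : IsAffine V.1.toScheme := V.2
  haveI : CompactSpace (g ⁻¹ᵁ V.1).toScheme :=
    isCompact_iff_compactSpace.1 (g.isCompact_preimage V.2.isCompact)
  let 𝒰 := (g ⁻¹ᵁ V.1).toScheme.affineCover.finiteSubcover
  haveI : ∀ i, IsAffine (𝒰.X i) := fun i => inferInstanceAs (IsAffine ((g ⁻¹ᵁ V.1).toScheme.affineCover.X _))
  let j₀ : (∐ 𝒰.X) ⟶ (g ⁻¹ᵁ V.1).toScheme := Sigma.desc 𝒰.f
  haveI : IsAffine (∐ 𝒰.X) := inferInstance
  haveI : Flat j₀ := IsZariskiLocalAtSource.sigmaDesc fun i => inferInstance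
  haveI : Surjective j₀ := ⟨fun z => by
    obtain ⟨i, w, hw⟩ := 𝒰.exists_eq z
    exact ⟨Sigma.ι 𝒰.X i w, by rw [← Scheme.Hom.comp_apply, Sigma.ι_desc]; exact hw⟩⟩
  haveI : Flat (g ∣_ V.1) := IsZariskiLocalAtTarget.restrict (P := @Flat) inferInstance _
  haveI : Surjective (g ∣_ V.1) := IsZariskiLocalAtTarget.restrict (P := @Surjective) inferInstance _
  let g₀ : (∐ 𝒰.X) ⟶ V.1.toScheme := j₀ ≫ g ∣_ V.1
  let j : (∐ 𝒰.X) ⟶ S' := j₀ ≫ (g ⁻¹ᵁ V.1).ι
  have hw : g₀ ≫ V.1.ι = j ≫ g := by simp only [g₀, j, Category.assoc, morphismRestrict_ι]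
  have hbc : CohB1.IsAmple ((Scheme.Modules.pullback (pullback.fst (pullback.snd f g) j)).obj
      ((Scheme.Modules.pullback (pullback.fst f g)).obj L)) :=
    (isRelAmple_iff_isAmple (pullback.snd (pullback.snd f g) j)).1 (isRelAmple_baseChange (pullback.snd f g) j h)
  let U := f ⁻¹ᵁ V.1
  have h1 : IsPullback (pullback.fst (f ∣_ V.1) g₀ ≫ U.ι) (pullback.snd (f ∣_ V.1) g₀) f (j ≫ g) := by
    rw [← hw]
    exact (IsPullback.of_hasPullback (f ∣_ V.1) g₀).paste_horiz (isPullback_morphismRestrict f V.1).flip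
  have h2 : IsPullback (pullback.fst (pullback.snd f g) j ≫ pullback.fst f g) (pullback.snd (pullback.snd f g) j) f
      (j ≫ g) :=
    (IsPullback.of_hasPullback (pullback.snd f g) j).paste_horiz (IsPullback.of_hasPullback f g)
  let e := h1.isoIsPullback _ _ h2
  have he : e.hom ≫ pullback.fst (pullback.snd f g) j ≫ pullback.fst f g = pullback.fst (f ∣_ V.1) g₀ ≫ U.ι :=
    h1.isoIsPullback_hom_fst _ _ h2
  refine isAmple_of_pullback (f ∣_ V.1) g₀ (isInvertible_restrict U.ι hL) ?_
  refine isAmple_of_iso ?_ (isAmple_pullback e.hom hbc)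
  refine (Scheme.Modules.pullback e.hom).mapIso ((Scheme.Modules.pullbackComp _ _).app L) ≪≫
    (Scheme.Modules.pullbackComp _ _).app L ≪≫ (Scheme.Modules.pullbackCongr he).app L ≪≫
    ((Scheme.Modules.pullbackComp _ _).app L).symm ≪≫ (Scheme.Modules.pullback _).mapIso (restrictIso U.ι L).symm

end Groth.Agent.AmpleLib
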