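import Mathlib
import Groth.Agent.Thicken.Affine

/-! Topological properties of morphisms along thickenings. -/

set_option autoImplicit false
set_option linter.style.haveILetI false
universe u

open CategoryTheory CategoryTheory.Limits AlgebraicGeometry TopologicalSpace
set_option linter.unusedSectionVars false

namespace Groth.Agent.AmpleLib.ThickMor

variable {X X' S S' : Scheme.{u}} (iX : X ⟶ X') (iS : S ⟶ S') (f : X ⟶ S) (f' : X' ⟶ S')
  [IsClosedImmersion iX] [IsClosedImmersion iS] [Surjective iX] [Surjective iS] (w : iX ≫ f' = f ≫ iS)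

theorem universallyInjective_of_comp {X Y Z : Scheme.{u}} (f : X ⟶ Y) (g : Y ⟶ Z)
    [UniversallyInjective (f ≫ g)] : UniversallyInjective f := by
  let l : X ⟶ pullback (f ≫ g) g := pullback.lift (𝟙 X) f (by simp)
  haveI : IsSplitMono l := ⟨⟨⟨pullback.fst _ _, pullback.lift_fst _ _ _⟩⟩⟩
  haveI : UniversallyInjective (pullback.snd (f ≫ g) g) := MorphismProperty.pullback_snd _ _ inferInstance
  rw [show f = l ≫ pullback.snd (f ≫ g) g from (pullback.lift_snd _ _ _).symm]
  exact MorphismProperty.comp_mem _ _ _ inferInstance inferInstance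

theorem universallyOpen_of_surjective_closedImmersion {X Y : Scheme.{u}} (i : X ⟶ Y) [IsClosedImmersion i]
    [Surjective i] : UniversallyOpen i := by
  constructor
  intro X₁ Y₁ a b i₁ h
  haveI : IsClosedImmersion i₁ := MorphismProperty.of_isPullback h.flip inferInstance
  haveI : Surjective i₁ := MorphismProperty.of_isPullback h.flip inferInstance
  exact (isHomeomorph_iff_isEmbedding_surjective.2 ⟨i₁.isClosedEmbedding.isEmbedding, i₁.surjective⟩).isOpenMap

include w

theorem universallyClosed : UniversallyClosed f ↔ UniversallyClosed f' := by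
  constructor
  · intro h
    haveI : UniversallyClosed (iX ≫ f') := by rw [w]; infer_instance
    exact UniversallyClosed.of_comp_surjective iX f'
  · intro h
    haveI : UniversallyClosed (f ≫ iS) := by rw [← w]; infer_instance
    exact UniversallyClosed.of_comp_of_isSeparated f iS

theorem quasiCompact : QuasiCompact f ↔ QuasiCompact f' := by
  constructor
  · intro h
    haveI : QuasiCompact (iX ≫ f') := by rw [w]; infer_instance
    rw [quasiCompact_iff]
    intro U hU hUc
    have h1 := ((iX ≫ f').isCompact_preimage (U := ⟨U, hU⟩) hUc).image iX.continuous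
    change IsCompact (iX '' (iX ⁻¹' (f' ⁻¹' U))) at h1
    rwa [Set.image_preimage_eq _ iX.surjective] at h1
  · intro h
    haveI : QuasiCompact (f ≫ iS) := by rw [← w]; infer_instance
    exact QuasiCompact.of_comp f iS

theorem quasiSeparated : QuasiSeparated f ↔ QuasiSeparated f' := by
  constructor
  · intro h
    rw [HasAffineProperty.eq_targetAffineLocally @QuasiSeparated]
    intro V
    haveI : QuasiSeparated (iX ≫ f') := by rw [w]; infer_instance
    haveI : IsClosedImmersion (iX ∣_ (f' ⁻¹ᵁ V.1)) :=
      IsZariskiLocalAtTarget.restrict (P := @IsClosedImmersion) inferInstance _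
    haveI : Surjective (iX ∣_ (f' ⁻¹ᵁ V.1)) := IsZariskiLocalAtTarget.restrict (P := @Surjective) inferInstance _
    haveI : QuasiSeparatedSpace (iX ⁻¹ᵁ (f' ⁻¹ᵁ V.1)).toScheme :=
      (isQuasiSeparated_iff_quasiSeparatedSpace _ (iX ⁻¹ᵁ (f' ⁻¹ᵁ V.1)).2).1
        ((iX ≫ f').isQuasiSeparated_preimage V.2.isQuasiSeparated)
    exact Thicken.quasiSeparatedSpace (iX ∣_ (f' ⁻¹ᵁ V.1)) (iX ∣_ (f' ⁻¹ᵁ V.1)).surjective
  · intro h
    haveI : QuasiSeparated (f ≫ iS) := by rw [← w]; infer_instance
    exact MorphismProperty.of_postcomp (W := @QuasiSeparated) (W' := ⊤) f iS trivial ‹_›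

theorem universallyInjective : UniversallyInjective f ↔ UniversallyInjective f' := by
  constructor
  · intro h
    haveI : UniversallyInjective (iX ≫ f') := by rw [w]; exact MorphismProperty.comp_mem _ _ _ inferInstance inferInstance
    constructor
    intro X₁ Y₁ a b f₁ hf₁
    let c := pullback.fst a iX
    have hc : IsPullback (pullback.snd a iX) (c ≫ f₁) (iX ≫ f') b :=
      (IsPullback.of_hasPullback a iX).flip.paste_vert hf₁.flip
    haveI : UniversallyInjective (c ≫ f₁) := MorphismProperty.of_isPullback hc inferInstance
    haveI : Surjective c := MorphismProperty.pullback_fst (P := @Surjective) _ _ inferInstance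
    intro p q hpq
    obtain ⟨p', rfl⟩ := c.surjective p
    obtain ⟨q', rfl⟩ := c.surjective q
    exact congrArg c ((c ≫ f₁).injective hpq)
  · intro h
    haveI : UniversallyInjective (f ≫ iS) := by rw [← w]; exact MorphismProperty.comp_mem _ _ _ inferInstance inferInstance
    exact universallyInjective_of_comp f iS

theorem universallyOpen : UniversallyOpen f ↔ UniversallyOpen f' := by
  constructor
  · intro h
    haveI := universallyOpen_of_surjective_closedImmersion iS
    haveI : UniversallyOpen (iX ≫ f') := by rw [w]; infer_instance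
    constructor
    intro X₁ Y₁ a b f₁ hf₁
    let c := pullback.fst a iX
    have hc : IsPullback (pullback.snd a iX) (c ≫ f₁) (iX ≫ f') b :=
      (IsPullback.of_hasPullback a iX).flip.paste_vert hf₁.flip
    haveI : UniversallyOpen (c ≫ f₁) := MorphismProperty.of_isPullback hc inferInstance
    haveI : Surjective c := MorphismProperty.pullback_fst (P := @Surjective) _ _ inferInstance
    intro U hU
    have h1 := (c ≫ f₁).isOpenMap _ (hU.preimage c.continuous)
    change IsOpen ((f₁ ∘ c) '' (c ⁻¹' U)) at h1
    rwa [Set.image_comp, Set.image_preimage_eq _ c.surjective] at h1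
  · intro h
    let l : X ⟶ pullback f' iS := pullback.lift iX f w
    haveI : IsClosedImmersion (l ≫ pullback.fst f' iS) := by rw [pullback.lift_fst]; infer_instance
    haveI : IsClosedImmersion l := IsClosedImmersion.of_comp l (pullback.fst f' iS)
    haveI : Surjective l := ⟨fun p => by
      obtain ⟨x, hx⟩ := iX.surjective (pullback.fst f' iS p)
      refine ⟨x, (pullback.fst f' iS).isClosedEmbedding.injective ?_⟩
      rw [← Scheme.Hom.comp_apply, pullback.lift_fst, hx]⟩
    haveI := universallyOpen_of_surjective_closedImmersion l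
    rw [show f = l ≫ pullback.snd f' iS from (pullback.lift_snd _ _ _).symm]
    infer_instance

end Groth.Agent.AmpleLib.ThickMor
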