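import Groth.Agent.AmpleLib.Separated
import Mathlib.AlgebraicGeometry.Morphisms.ClosedImmersion
import Mathlib.AlgebraicGeometry.Morphisms.UniversallyClosed

/-! For a universally closed morphism, the loci `X_s` of a relatively ample module are affine over the base. -/

set_option autoImplicit false
set_option linter.style.haveILetI false
universe u

open CategoryTheory CategoryTheory.Limits AlgebraicGeometry TopologicalSpace Opposite
open Groth.Agent.ParaFLib Groth.Agent.PullbackMod Groth.Agent.DCohLib

noncomputable section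

namespace Groth.Agent.AmpleLib

variable {X S : Scheme.{u}} {L : X.Modules}

/-- On the base a universally closed scheme, the non-vanishing loci of an ample module are affine. -/
theorem isAffineOpen_genLocus_of_universallyClosed [IsAffine S] (f : X ⟶ S) [UniversallyClosed f]
    (h : CohB1.IsAmple L) (s : Coh.structureModule X ⟶ L) : IsAffineOpen (CohB1.genLocus L s) := by
  haveI := h.2.1
  haveI := quasiSeparatedSpace_of_isAmple h
  set W := CohB1.genLocus L s with hW
  haveI : IsAffineHom W.ι := isAffineHom_genLocus_ι h.1 s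
  haveI : CompactSpace W.toScheme := QuasiCompact.compactSpace_of_compactSpace W.ι
  haveI : W.toScheme.IsQuasiAffine := by
    haveI := (isIso_restrict_iff s W).2 (gen_genLocus h.1 s)
    exact isQuasiAffine_iff.2 (isAmple_of_iso
      ((asIso ((Scheme.Modules.restrictFunctor W.ι).map s)).symm ≪≫ DCohLib.restrictUnit _)
      (isAmple_restrict W.ι h))
  let q : Spec Γ(W.toScheme, ⊤) ⟶ S := Spec.map (W.ι ≫ f).appTop ≫ S.isoSpec.inv
  have hq : W.toScheme.toSpecΓ ≫ q = W.ι ≫ f := by
    simp only [q]
    rw [← Scheme.toSpecΓ_naturality_assoc, ← Scheme.isoSpec_hom, Iso.hom_inv_id, Category.comp_id]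
  let g : W.toScheme ⟶ pullback f q := pullback.lift W.ι W.toScheme.toSpecΓ hq.symm
  have hcl : closure (Set.range g) ⊆ pullback.fst f q ⁻¹' (W : Set X) := by
    intro p hp
    by_contra hpW
    obtain ⟨n, t, hxt, -⟩ := h.2.2 (pullback.fst f q p)
    have hM := isInvertible_tensorPow h.1 (n + 1)
    let s' := powS s (n + 1)
    have hs'W : CohB1.genLocus _ s' = W := genLocus_powS h.1 s n
    set U := CohB1.genLocus _ t with hU
    have hsg : Gen W (resT (sec s') W) := by
      have := gen_genLocus hM s'
      rwa [hs'W] at this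
    have htg : Gen U (resT (sec t) U) := gen_genLocus hM t
    obtain ⟨a, ha⟩ := (hsg W le_rfl).2 (resT (sec t) W)
    obtain ⟨b, hb⟩ := (htg U le_rfl).2 (resT (sec s') U)
    simp only [res_self] at ha hb
    have hab : X.presheaf.map (homOfLE (inf_le_left : W ⊓ U ≤ W)).op a *
        X.presheaf.map (homOfLE (inf_le_right : W ⊓ U ≤ U)).op b = 1 := by
      apply (hsg (W ⊓ U) inf_le_left).1
      show _ • (CohB1.tensorPow L (n + 1)).presheaf.map (homOfLE inf_le_left).op (resT (sec s') W) =
        (1 : Γ(X, W ⊓ U)) • _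
      have e1 := congrArg ((CohB1.tensorPow L (n + 1)).presheaf.map (homOfLE (inf_le_left : W ⊓ U ≤ W)).op) ha
      have e2 := congrArg ((CohB1.tensorPow L (n + 1)).presheaf.map (homOfLE (inf_le_right : W ⊓ U ≤ U)).op) hb
      rw [Scheme.Modules.map_smul, resT, resT, res_res, res_res] at e1 e2
      rw [one_smul, resT, res_res, mul_comm, mul_smul, e1, e2]
    have hxb : pullback.fst f q p ∉ X.basicOpen b := fun hx => hpW (by
      have := ((genLocus_inf_eq_basicOpen s' htg hb).ge hx).1
      rwa [hs'W] at this)
    let Pu : (pullback f q).Opens := pullback.fst f q ⁻¹ᵁ U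
    let B : Γ(pullback f q, Pu) := (pullback.fst f q).appLE U Pu le_rfl b
    let a' : Γ(Spec Γ(W.toScheme, ⊤), ⊤) := (Scheme.ΓSpecIso Γ(W.toScheme, ⊤)).inv (W.topIso.inv a)
    let A : Γ(pullback f q, Pu) := (pullback.snd f q).appLE ⊤ Pu (fun _ _ => trivial) a'
    have hBp : ¬ IsUnit ((pullback f q).presheaf.germ Pu p hxt B) := by
      intro hu
      have hmem : p ∈ (pullback f q).basicOpen B := ((pullback f q).mem_basicOpen B p hxt).2 hu
      rw [show B = (pullback.fst f q).appLE U Pu le_rfl b from rfl, Scheme.basicOpen_appLE] at hmem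
      exact hxb hmem.2
    have hpu : p ∈ (pullback f q).basicOpen (1 - B * A) := by
      rw [(pullback f q).mem_basicOpen _ p hxt, map_sub, map_one, map_mul]
      exact IsLocalRing.isUnit_one_sub_self_of_mem_nonunits _ (fun hu => hBp (isUnit_of_mul_isUnit_left hu))
    obtain ⟨_, hw, ⟨w, rfl⟩⟩ := mem_closure_iff.1 hp _ ((pullback f q).basicOpen (1 - B * A)).isOpen hpu
    let V' : W.toScheme.Opens := W.ι ⁻¹ᵁ U
    have hV' : V' ≤ g ⁻¹ᵁ Pu := by
      intro v hv
      show (g ≫ pullback.fst f q) v ∈ U
      simpa only [g, pullback.lift_fst] using (show W.ι v ∈ U from hv)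
    have hwV : w ∈ V' := by
      show W.ι w ∈ U
      have : (g ≫ pullback.fst f q) w ∈ U := (pullback f q).basicOpen_le _ hw
      simpa only [g, pullback.lift_fst] using this
    have hΦA : g.appLE Pu V' hV' A = W.toScheme.presheaf.map (homOfLE le_top).op (W.topIso.inv a) := by
      show ((pullback.snd f q).appLE ⊤ Pu _ ≫ g.appLE Pu V' hV') a' = _
      rw [Scheme.Hom.appLE_comp_appLE]
      simp only [g, pullback.lift_snd]
      show (W.toScheme.toSpecΓ.appTop ≫ W.toScheme.presheaf.map (homOfLE le_top).op) a' = _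
      rw [Scheme.toSpecΓ_appTop, CommRingCat.comp_apply]
      simp [a']
    have hΦB : g.appLE Pu V' hV' B = W.ι.appLE U V' le_rfl b := by
      show ((pullback.fst f q).appLE U Pu _ ≫ g.appLE Pu V' hV') b = _
      rw [Scheme.Hom.appLE_comp_appLE]
      simp only [g, pullback.lift_fst]
    have hΦ : g.appLE Pu V' hV' (1 - B * A) = 0 := by
      rw [map_sub, map_one, map_mul, hΦA, hΦB, sub_eq_zero]
      have hle : W.ι ''ᵁ V' ≤ W ⊓ U := by
        rintro _ ⟨v, hv, rfl⟩
        exact ⟨v.2, hv⟩
      have := congrArg (X.presheaf.map (homOfLE hle).op) hab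
      rw [map_mul, map_one, rres, rres, mul_comm] at this
      refine this.symm.trans (congrArg₂ (· * ·) ?_ ?_)
      · rw [Scheme.Opens.ι_appLE]
        rfl
      · rw [Scheme.Opens.topIso_inv]
        erw [← CommRingCat.comp_apply, ← Functor.map_comp]
        rfl
    have hb0 : w ∈ W.toScheme.basicOpen (g.appLE Pu V' hV' (1 - B * A)) := by
      rw [Scheme.basicOpen_appLE]
      exact ⟨hwV, hw⟩
    rw [hΦ, Scheme.basicOpen_zero] at hb0
    exact hb0
  have hclosed : IsClosed (Set.range g) := by
    let g' : W.toScheme ⟶ pullback (W.ι ≫ f) q :=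
      pullback.lift (𝟙 _) W.toScheme.toSpecΓ (by rw [Category.id_comp, hq])
    haveI : IsClosedImmersion g' := by
      haveI : IsClosedImmersion (g' ≫ pullback.fst (W.ι ≫ f) q) := by
        rw [pullback.lift_fst]; infer_instance
      exact IsClosedImmersion.of_comp g' (pullback.fst (W.ι ≫ f) q)
    let κ := pullback.map (W.ι ≫ f) q f q W.ι (𝟙 _) (𝟙 _) (Category.comp_id _) (by simp)
    have hκ : g' ≫ κ = g := pullback.hom_ext
      (by simp only [g', κ, g, pullback.map, Category.assoc, pullback.lift_fst, pullback.lift_fst_assoc,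
        Category.id_comp])
      (by simp only [g', κ, g, pullback.map, Category.assoc, pullback.lift_snd, pullback.lift_snd_assoc,
        Category.comp_id])
    have hr : Set.range κ = pullback.fst f q ⁻¹' (W : Set X) := by
      simp [κ, Scheme.Pullback.range_map]
    have hκe : Topology.IsEmbedding κ := κ.isOpenEmbedding.isEmbedding
    have hg : Set.range g = κ '' Set.range g' := by
      rw [← hκ, Scheme.Hom.comp_base, TopCat.coe_comp, Set.range_comp]
    refine closure_subset_iff_isClosed.1 fun y hy => ?_
    obtain ⟨z, rfl⟩ : y ∈ Set.range κ := hr ▸ hcl hy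
    rw [hg] at hy ⊢
    have hz : z ∈ closure (Set.range g') := by
      rw [hκe.closure_eq_preimage_closure_image]
      exact hy
    rw [g'.isClosedEmbedding.isClosed_range.closure_eq] at hz
    exact Set.mem_image_of_mem _ hz
  haveI : IsClosedImmersion W.toScheme.toSpecΓ := by
    refine IsClosedImmersion.of_isPreimmersion _ ?_
    have : Set.range W.toScheme.toSpecΓ = pullback.snd f q '' Set.range g := by
      rw [← Set.range_comp, ← TopCat.coe_comp, ← Scheme.Hom.comp_base, pullback.lift_snd]
    rw [this]
    exact (pullback.snd f q).isClosedMap _ hclosed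
  exact (isAffine_of_isAffineHom W.toScheme.toSpecΓ :)

/-- `X_s → S` is affine for `f` universally closed and `L` ample relative to `f`. -/
theorem isAffineHom_genLocus_of_universallyClosed (f : X ⟶ S) [UniversallyClosed f]
    (hL : RelAmple.IsRelAmple f L) (s : Coh.structureModule X ⟶ L) :
    IsAffineHom ((CohB1.genLocus L s).ι ≫ f) := by
  refine ⟨fun V hV => ?_⟩
  haveI : IsAffine V.toScheme := hV
  haveI : UniversallyClosed (f ∣_ V) := IsZariskiLocalAtTarget.restrict (P := @UniversallyClosed) inferInstance V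
  set U := f ⁻¹ᵁ V
  have h := isAffineOpen_genLocus_of_universallyClosed (f ∣_ V) (hL.2 ⟨V, hV⟩)
    (pullS U.ι s ≫ (restrictIso U.ι L).symm.hom)
  rw [genLocus_comp_iso, genLocus_pullS U.ι (isInvertible_of_isRelAmple hL),
    ← U.ι.isAffineOpen_iff_of_isOpenImmersion, Scheme.Hom.image_preimage_eq_opensRange_inf,
    Scheme.Opens.opensRange_ι, inf_comm] at h
  rw [← (CohB1.genLocus L s).ι.isAffineOpen_iff_of_isOpenImmersion, Scheme.Hom.comp_preimage,
    Scheme.Hom.image_preimage_eq_opensRange_inf, Scheme.Opens.opensRange_ι]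
  exact h

end Groth.Agent.AmpleLib
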