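import Groth.Agent.AmpleLib.RelLocal
import Groth.Prelude.Def_Curv2

/-! Ample modules on fibre products; quasi-affine schemes: modules are globally generated. -/

set_option autoImplicit false
set_option linter.style.haveILetI false
universe u

open CategoryTheory CategoryTheory.Limits AlgebraicGeometry TopologicalSpace Opposite
open Groth.Agent.ParaFLib Groth.Agent.PullbackMod Groth.Agent.DCohLib

noncomputable section

namespace Groth.Agent.AmpleLib

variable {X Y S : Scheme.{u}}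

theorem isAmple_prod [QuasiSeparatedSpace S] (f : X ⟶ S) (g : Y ⟶ S) {L : X.Modules} {N : Y.Modules}
    (hL : CohB1.IsAmple L) (hN : CohB1.IsAmple N) :
    CohB1.IsAmple (CohB1.tensorMod ((Scheme.Modules.pullback (pullback.fst f g)).obj L)
      ((Scheme.Modules.pullback (pullback.snd f g)).obj N)) := by
  haveI := hL.2.1
  haveI := hN.2.1
  haveI : QuasiCompact g := QuasiCompact.of_comp g (terminal.from S)
  haveI : CompactSpace (pullback f g : Scheme.{u}) :=
    QuasiCompact.compactSpace_of_compactSpace (pullback.fst f g)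
  refine ⟨isInvertible_tensor (isInvertible_pullback _ hL.1) (isInvertible_pullback _ hN.1), inferInstance,
    fun z => ?_⟩
  let p := pullback.fst f g
  let q := pullback.snd f g
  obtain ⟨_, ⟨W, hW, rfl⟩, hzW, -⟩ :=
    S.isBasis_affineOpens.exists_subset_of_mem_open (Set.mem_univ (f (p z))) isOpen_univ
  have hzW' : g (q z) ∈ W := by
    rw [← Scheme.Hom.comp_apply, ← pullback.condition, Scheme.Hom.comp_apply]
    exact hzW
  obtain ⟨n, s, hx, hle, ha⟩ := exists_small_genLocus hL (U := f ⁻¹ᵁ W) hzW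
  obtain ⟨m, t, hy, hle', ha'⟩ := exists_small_genLocus hN (U := g ⁻¹ᵁ W) hzW'
  obtain ⟨k, hk⟩ : ∃ k, (n + 1) * (m + 1) = k + 1 :=
    ⟨(n + 1) * (m + 1) - 1, (Nat.succ_pred_eq_of_pos (Nat.mul_pos (Nat.succ_pos n) (Nat.succ_pos m))).symm⟩
  have hk' : (m + 1) * (n + 1) = k + 1 := by rw [mul_comm, hk]
  refine ⟨k, tensorS
    (pullS p (powS s (m + 1) ≫ (powMul L (n + 1) (m + 1) ≪≫ eqToIso (congrArg (CohB1.tensorPow L) hk)).hom) ≫
      (pullPow p L (k + 1)).hom)
    (pullS q (powS t (n + 1) ≫ (powMul N (m + 1) (n + 1) ≪≫ eqToIso (congrArg (CohB1.tensorPow N) hk')).hom) ≫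
      (pullPow q N (k + 1)).hom) ≫ (powTensor _ _ (k + 1)).symm.hom, ?_⟩
  rw [genLocus_comp_iso, genLocus_tensorS (isInvertible_tensorPow (isInvertible_pullback _ hL.1) _)
      (isInvertible_tensorPow (isInvertible_pullback _ hN.1) _),
    genLocus_comp_iso, genLocus_comp_iso, genLocus_pullS _ (isInvertible_tensorPow hL.1 _),
    genLocus_pullS _ (isInvertible_tensorPow hN.1 _), genLocus_comp_iso, genLocus_comp_iso,
    genLocus_powS (isInvertible_tensorPow hL.1 _), genLocus_powS (isInvertible_tensorPow hN.1 _)]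
  refine ⟨⟨hx, hy⟩, ?_⟩
  set U := CohB1.genLocus _ s
  set V := CohB1.genLocus _ t
  haveI : IsAffine U := ha
  haveI : IsAffine V := ha'
  haveI : IsAffine W := hW
  let i := pullback.map (f.resLE W U hle) (g.resLE W V hle') f g U.ι V.ι (Scheme.Opens.ι W)
    (Scheme.Hom.resLE_comp_ι f hle) (Scheme.Hom.resLE_comp_ι g hle')
  have hi : p ⁻¹ᵁ U ⊓ q ⁻¹ᵁ V = i.opensRange := by
    apply SetLike.coe_injective
    rw [Scheme.Hom.coe_opensRange, Scheme.Pullback.range_map]
    simp [p, q]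
  rw [hi]
  exact isAffineOpen_opensRange i

theorem isGloballyGenerated_of_isQuasiAffine [X.IsQuasiAffine] (F : X.Modules) [Coh.IsQCoh F] :
    Curv2.IsGloballyGenerated F := by
  haveI : CompactSpace X := Scheme.IsQuasiAffine.toCompactSpace
  refine ⟨Γ(F, ⊤), Sigma.desc fun σ => secHom F σ, (epi_iff_stalk _).2 fun x z => ?_⟩
  obtain ⟨U, hxU, m, rfl⟩ := TopCat.Presheaf.exists_germ_eq F.presheaf z
  obtain ⟨_, ⟨r, -, rfl⟩, hxr, hle⟩ :=
    Opens.isBasis_iff_nbhd.1 (Scheme.IsQuasiAffine.isBasis_basicOpen X) hxU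
  obtain ⟨n, σ, hσ⟩ := exists_extend_qcoh F r (F.presheaf.map (homOfLE hle).op m)
  have hu : IsUnit (X.presheaf.germ (X.basicOpen r) x hxr
      (X.presheaf.map (homOfLE (X.basicOpen_le r)).op (r ^ n))) := by
    refine IsUnit.map _ ?_
    rw [map_pow]
    exact (RingedSpace.isUnit_res_basicOpen _ r).pow n
  obtain ⟨u, hu⟩ := hu
  refine ⟨(↑u⁻¹ : X.presheaf.stalk x) • stalkLin (Sigma.ι (fun _ : Γ(F, ⊤) => Coh.structureModule X) σ) x (oneG x), ?_⟩
  refine (LinearMap.map_smul _ _ _).trans ?_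
  have e1 : stalkLin (Sigma.desc fun σ => secHom F σ) x
      (stalkLin (Sigma.ι (fun _ : Γ(F, ⊤) => Coh.structureModule X) σ) x (oneG x)) =
      F.presheaf.germ ⊤ x (Opens.mem_top x) σ := by
    refine (LinearMap.congr_fun (stalkLin_comp _ _ x) (oneG x)).symm.trans ?_
    rw [Sigma.ι_desc]
    exact (stalkLin_germ (secHom F σ) (U := ⊤) x (Opens.mem_top x) _).trans
      (congrArg _ (sec_secHom σ))
  have e2 := congrArg (F.presheaf.germ (X.basicOpen r) x hxr) hσ
  rw [germ_smul', ← hu, TopCat.Presheaf.germ_res_apply, TopCat.Presheaf.germ_res_apply] at e2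
  refine (congrArg ((↑u⁻¹ : X.presheaf.stalk x) • ·) (e1.trans e2)).trans ?_
  show (↑u⁻¹ : X.presheaf.stalk x) • (↑u : X.presheaf.stalk x) • _ = _
  rw [smul_smul, Units.inv_mul, one_smul]

end Groth.Agent.AmpleLib
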