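import Groth.Agent.AmpleLib.RelLocal
import Groth.Agent.PullbackMod.SkyStalk
import Groth.Agent.AmpleEmb.Misc

/-! Modules generated by their sections relative to a morphism. -/

set_option autoImplicit false
set_option linter.style.haveILetI false
universe u

open CategoryTheory CategoryTheory.Limits AlgebraicGeometry TopologicalSpace Opposite
open Groth.Agent.ParaFLib Groth.Agent.PullbackMod Groth.Agent.DCohLib

noncomputable section

namespace Groth.Agent.AmpleLib

variable {X Y : Scheme.{u}}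

/-- An epi counit: sections over preimages of opens generate every stalk. -/
theorem span_germ_preimage_of_epi_counit (f : X ⟶ Y) (M : X.Modules)
    (h : Epi ((Scheme.Modules.pullbackPushforwardAdjunction f).counit.app M)) (x : X) :
    Submodule.span (X.presheaf.stalk x) {z : M.presheaf.stalk x | ∃ (W : Y.Opens) (hx : x ∈ f ⁻¹ᵁ W)
      (σ : Γ(M, f ⁻¹ᵁ W)), M.presheaf.germ (f ⁻¹ᵁ W) x hx σ = z} = ⊤ := by
  set S := Submodule.span (X.presheaf.stalk x) {z : M.presheaf.stalk x | ∃ (W : Y.Opens) (hx : x ∈ f ⁻¹ᵁ W)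
      (σ : Γ(M, f ⁻¹ᵁ W)), M.presheaf.germ (f ⁻¹ᵁ W) x hx σ = z}
  let ψ : M ⟶ sky x (M.presheaf.stalk x ⧸ S) := toSky S.mkQ
  have hG : (Scheme.Modules.pushforward f).map ψ = 0 := by
    refine Scheme.Modules.hom_ext _ _ fun W => AddCommGrpCat.hom_ext (AddMonoidHom.ext fun σ => funext fun hx => ?_)
    show S.mkQ (M.presheaf.germ (f ⁻¹ᵁ W) x hx.down σ) = 0
    rw [Submodule.mkQ_apply, Submodule.Quotient.mk_eq_zero]
    exact Submodule.subset_span ⟨W, hx.down, σ, rfl⟩
  have hψ : ψ = 0 := by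
    rw [← cancel_epi ((Scheme.Modules.pullbackPushforwardAdjunction f).counit.app M), comp_zero]
    refine ((Scheme.Modules.pullbackPushforwardAdjunction f).counit.naturality ψ).symm.trans ?_
    haveI : (Scheme.Modules.pullback f).IsLeftAdjoint :=
      (Scheme.Modules.pullbackPushforwardAdjunction f).isLeftAdjoint
    simp [hG]
  refine eq_top_iff.2 fun z _ => ?_
  obtain ⟨U, hxU, m, rfl⟩ := TopCat.Presheaf.exists_germ_eq M.presheaf z
  rw [← Submodule.Quotient.mk_eq_zero, ← Submodule.mkQ_apply, ← toSky_app S.mkQ U m ⟨hxU⟩]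
  have h0 : (toSky S.mkQ).app U m = 0 := by
    show ψ.app U m = 0
    rw [hψ]
    rfl
  exact congrFun h0 ⟨hxU⟩

/-- With an invertible module and epi counit, some section over a preimage generates at the point. -/
theorem exists_gen_preimage_of_epi_counit (f : X ⟶ Y) {M : X.Modules} (hM : PicF.IsInvertible M)
    (h : Epi ((Scheme.Modules.pullbackPushforwardAdjunction f).counit.app M)) (x : X) :
    ∃ (W : Y.Opens) (hx : x ∈ f ⁻¹ᵁ W) (σ : Γ(M, f ⁻¹ᵁ W)), Function.Bijective fun r : X.presheaf.stalk x =>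
      r • M.presheaf.germ (f ⁻¹ᵁ W) x hx σ := by
  obtain ⟨e, he⟩ := exists_stalk_gen hM x
  by_contra hne
  push Not at hne
  have hle : Submodule.span (X.presheaf.stalk x) {z : M.presheaf.stalk x | ∃ (W : Y.Opens) (hx : x ∈ f ⁻¹ᵁ W)
      (σ : Γ(M, f ⁻¹ᵁ W)), M.presheaf.germ (f ⁻¹ᵁ W) x hx σ = z} ≤
      Submodule.map (LinearMap.toSpanSingleton (X.presheaf.stalk x) _ e) (IsLocalRing.maximalIdeal (X.presheaf.stalk x)) := by
    rw [Submodule.span_le]
    rintro _ ⟨W, hx, σ, rfl⟩
    obtain ⟨c, hc⟩ := he.2 (M.presheaf.germ (f ⁻¹ᵁ W) x hx σ)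
    refine ⟨c, fun hu => hne W hx σ ?_, hc⟩
    rw [← hc, bijective_smul_iff he]
    exact hu
  rw [span_germ_preimage_of_epi_counit f M h x] at hle
  obtain ⟨r, hr, hre⟩ := hle (Submodule.mem_top (x := e))
  have : r = 1 := he.1 (hre.trans (one_smul _ e).symm)
  exact hr (this ▸ isUnit_one)

/-- A section generating at a point generates nearby. -/
theorem exists_gen_of_bijective {M : X.Modules} (hM : PicF.IsInvertible M) {x : X} {U : X.Opens} (hx : x ∈ U)
    (σ : Γ(M, U)) (h : Function.Bijective fun r : X.presheaf.stalk x => r • M.presheaf.germ U x hx σ) :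
    ∃ O : X.Opens, x ∈ O ∧ ∃ hO : O ≤ U, Gen O (M.presheaf.map (homOfLE hO).op σ) := by
  obtain ⟨W, e, hxW, he⟩ := exists_gen_nhd hM x
  let A := U ⊓ W
  have hxA : x ∈ A := ⟨hx, hxW⟩
  obtain ⟨a, ha⟩ := (he A inf_le_right).2 (M.presheaf.map (homOfLE (inf_le_left : A ≤ U)).op σ)
  change a • M.presheaf.map (homOfLE (inf_le_right : A ≤ W)).op e = _ at ha
  refine ⟨X.basicOpen a, ?_, (X.basicOpen_le a).trans inf_le_left, ?_⟩
  · rw [X.mem_basicOpen a x hxA, ← bijective_smul_iff ((he.res (inf_le_right : A ≤ W)).bijective_germ x hxA),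
      ← germ_smul', ha, TopCat.Presheaf.germ_res_apply]
    exact h
  · have e1 := congrArg (M.presheaf.map (homOfLE (X.basicOpen_le a)).op) ha
    rw [M.map_smul, res_res, res_res] at e1
    rw [← e1]
    exact (he.res _).smul (RingedSpace.isUnit_res_basicOpen _ a)

/-- `L ⊗ L'` is relatively ample if `L` is and a positive power of `L'` is generated relative to `f`. -/
theorem isRelAmple_tensor_of_epi_counit (f : X ⟶ Y) [QuasiCompact f] {L L' : X.Modules}
    (hL : RelAmple.IsRelAmple f L) (hL' : PicF.IsInvertible L') (n : ℕ)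
    (h : Epi ((Scheme.Modules.pullbackPushforwardAdjunction f).counit.app (CohB1.tensorPow L' (n + 1)))) :
    RelAmple.IsRelAmple f (CohB1.tensorMod L L') := by
  refine ⟨hL.1, fun V => isAmple_of_iso (restrictTensor _ L L').symm ?_⟩
  set U := f ⁻¹ᵁ V.1
  have hU := hL.2 V
  haveI := hU.2.1
  haveI := quasiSeparatedSpace_of_isAmple hU
  refine AmpleEmb.isAmple_tensor_of_semiAmple hU (isInvertible_restrict U.ι hL') fun w => ?_
  have hM := isInvertible_tensorPow hL' (n + 1)
  haveI := Groth.Agent.InvExt.isQCoh_of_isInvertible hM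
  obtain ⟨W, hwW, σ, hσ⟩ := exists_gen_preimage_of_epi_counit f hM h (U.ι w)
  obtain ⟨r, hrle, hwr⟩ := V.2.exists_basicOpen_le (V := W ⊓ V.1) ⟨f (U.ι w), hwW, w.2⟩ w.2
  let M := CohB1.tensorPow L' (n + 1)
  let g : Γ(U.toScheme, ⊤) := U.topIso.inv ((f.app V.1) r)
  have hg : U.toScheme.basicOpen g = U.ι ⁻¹ᵁ (f ⁻¹ᵁ Y.basicOpen r) := by
    rw [Scheme.preimage_basicOpen f r]
    refine U.ι.image_injective ?_
    show U.ι ''ᵁ _ = U.ι ''ᵁ _
    rw [Scheme.image_basicOpen, Scheme.Hom.image_preimage_eq_opensRange_inf, Scheme.Opens.opensRange_ι,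
      inf_eq_right.2 (X.basicOpen_le _)]
    simp [g, Scheme.Opens.topIso_inv, Scheme.Opens.ι_appIso]
    exact X.basicOpen_res_eq _ _
  have hle : U.ι ''ᵁ U.toScheme.basicOpen g ≤ f ⁻¹ᵁ W := by
    rintro _ ⟨v, hv, rfl⟩
    rw [hg] at hv
    exact (hrle hv).1
  haveI : Coh.IsQCoh (M.restrict U.ι) :=
    Groth.Agent.InvExt.isQCoh_of_isInvertible (isInvertible_restrict U.ι hM)
  obtain ⟨k, τ, hτ⟩ := exists_extend_qcoh (M.restrict U.ι) g
    (show Γ(M.restrict U.ι, U.toScheme.basicOpen g) from M.presheaf.map (homOfLE hle).op σ)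
  have hwg : w ∈ U.toScheme.basicOpen g := by rw [hg]; exact hwr
  refine ⟨n, secHom _ τ ≫ (restrictPow U.ι L' (n + 1)).hom, ?_⟩
  rw [genLocus_comp_iso, mem_genLocus_iff (isInvertible_restrict U.ι hM), sec_secHom]
  have e1 : (M.restrict U.ι).presheaf.germ ⊤ w (Opens.mem_top w) τ =
      U.toScheme.presheaf.germ (U.toScheme.basicOpen g) w hwg
        (U.toScheme.presheaf.map (homOfLE (U.toScheme.basicOpen_le g)).op (g ^ k)) •
      (M.restrict U.ι).presheaf.germ (U.toScheme.basicOpen g) w hwg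
        (show Γ(M.restrict U.ι, U.toScheme.basicOpen g) from M.presheaf.map (homOfLE hle).op σ) := by
    rw [← germ_smul', ← hτ, TopCat.Presheaf.germ_res_apply]
  have hunit : IsUnit (U.toScheme.presheaf.germ (U.toScheme.basicOpen g) w hwg
      (U.toScheme.presheaf.map (homOfLE (U.toScheme.basicOpen_le g)).op (g ^ k))) := by
    rw [map_pow, map_pow]
    exact ((RingedSpace.isUnit_res_basicOpen _ g).map _).pow k
  obtain ⟨O, hwO, hO⟩ : ∃ O : X.Opens, U.ι w ∈ O ∧ ∃ hO : O ≤ f ⁻¹ᵁ W, Gen O (M.presheaf.map (homOfLE hO).op σ) :=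
    exists_gen_of_bijective hM hwW σ hσ
  obtain ⟨hOW, hgenO⟩ := hO
  let b : U.toScheme.Opens := U.ι ⁻¹ᵁ O ⊓ U.toScheme.basicOpen g
  have hwb : w ∈ b := ⟨hwO, hwg⟩
  have hbO : U.ι ''ᵁ b ≤ O := by
    rintro _ ⟨v, hv, rfl⟩
    exact hv.1
  have hgen : Gen (L := M.restrict U.ι) b
      ((M.restrict U.ι).presheaf.map (homOfLE (inf_le_right : b ≤ U.toScheme.basicOpen g)).op
        (show Γ(M.restrict U.ι, U.toScheme.basicOpen g) from M.presheaf.map (homOfLE hle).op σ)) := by
    refine (gen_restrict_iff U.ι M b _).2 ?_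
    have := hgenO.res hbO
    rw [res_res] at this
    show Gen _ (M.presheaf.map (homOfLE (U.ι.image_mono inf_le_right)).op (M.presheaf.map (homOfLE hle).op σ))
    rw [res_res]
    exact this
  have hb' := hgen.bijective_germ w hwb
  rw [TopCat.Presheaf.germ_res_apply] at hb'
  rw [e1]
  obtain ⟨u, hu⟩ := hunit
  rw [← hu]
  have e2 : (fun r : U.toScheme.presheaf.stalk w => r • (u : U.toScheme.presheaf.stalk w) •
      (M.restrict U.ι).presheaf.germ (U.toScheme.basicOpen g) w hwg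
        (show Γ(M.restrict U.ι, U.toScheme.basicOpen g) from M.presheaf.map (homOfLE hle).op σ)) =
      (fun r => r • (M.restrict U.ι).presheaf.germ (U.toScheme.basicOpen g) w hwg
        (show Γ(M.restrict U.ι, U.toScheme.basicOpen g) from M.presheaf.map (homOfLE hle).op σ)) ∘
        (fun r => r * (u : U.toScheme.presheaf.stalk w)) := funext fun r => smul_smul r _ _
  rw [e2]
  exact hb'.comp (Units.mulRight_bijective u)

end Groth.Agent.AmpleLib
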