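import Groth.Agent.BCLib.BaseChange
import Groth.Agent.AmpleLib.GenLocus
import Mathlib.RingTheory.Flat.Basic

/-! Global sections after a flat base change of an affine base are spanned by inverse images. -/

set_option autoImplicit false
set_option backward.isDefEq.respectTransparency false
set_option backward.defeqAttrib.useBackward true
set_option linter.style.haveILetI false
universe u

open CategoryTheory CategoryTheory.Limits AlgebraicGeometry TopologicalSpace Opposite TensorProduct
open Groth.Agent.CohBase Groth.Agent.ProjCoh Groth.Agent.FormalLib Groth.Agent.PullbackMod Groth.Agent.BCLib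

noncomputable section

namespace Groth.Agent.AmpleLib

variable {X : Scheme.{u}} (G : X.Modules)

theorem res_congr_tuple {ι : Type u} (V : ι → X.Opens) {O : X.Opens} (c : ∀ i : Fin (0 + 1) → ι, Γ(G, inter V i))
    {i i' : Fin (0 + 1) → ι} (e : i = i') (h : O ≤ inter V i) (h' : O ≤ inter V i') :
    G.presheaf.map (homOfLE h).op (c i) = G.presheaf.map (homOfLE h').op (c i') := by
  subst e; rfl

theorem exists_glue_cocycle {R : CommRingCat.{u}} (f : X ⟶ Spec R) {ι : Type u} (V : ι → X.Opens)
    (hcov : (⊤ : X.Opens) ≤ iSup V) (c : Coch f G V 0) (hc : dL f G V 0 c = 0) :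
    ∃ σ : Γ(G, ⊤), ∀ i, G.presheaf.map (homOfLE (le_top : inter V i ≤ ⊤)).op σ = c i := by
  let c' : ∀ i : Fin (0 + 1) → ι, Γ(G, inter V i) := c
  let W : ι → X.Opens := fun a => inter V (fun _ : Fin (0 + 1) => a)
  let F : TopCat.Sheaf Ab.{u} X.carrier := ⟨G.presheaf, G.isSheaf⟩
  obtain ⟨σ, hσ, -⟩ := F.existsUnique_gluing' W ⊤ (fun a => homOfLE le_top) (fun x hx => by
      obtain ⟨a, ha⟩ := Opens.mem_iSup.1 (hcov hx)
      exact Opens.mem_iSup.2 ⟨a, (mem_inter_iff V).2 fun _ => ha⟩) (fun a => c' fun _ => a) (by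
      intro a b
      let i2 : Fin (0 + 2) → ι := ![a, b]
      have h := congrFun hc i2
      rw [dL_eq, cdiff_apply, Fin.sum_univ_two] at h
      simp only [Fin.val_zero, Fin.val_one, pow_zero, pow_one, one_smul, neg_smul] at h
      have hle : W a ⊓ W b ≤ inter V i2 := fun x hx => (mem_inter_iff V).2 fun k => by
        fin_cases k
        · exact inter_le V (fun _ : Fin (0 + 1) => a) 0 hx.1
        · exact inter_le V (fun _ : Fin (0 + 1) => b) 0 hx.2
      have h1 := congrArg (G.presheaf.map (homOfLE hle).op) (add_neg_eq_zero.1 h)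
      change G.presheaf.map (homOfLE hle).op (G.presheaf.map (homOfLE _).op (c' _)) =
        G.presheaf.map (homOfLE hle).op (G.presheaf.map (homOfLE _).op (c' _)) at h1
      rw [ParaFLib.res_res, ParaFLib.res_res] at h1
      show G.presheaf.map (homOfLE inf_le_left).op (c' fun _ => a) = G.presheaf.map (homOfLE inf_le_right).op (c' fun _ => b)
      refine (res_congr_tuple G V c' (i' := i2 ∘ Fin.succAbove 1) ?_ _ _).trans
        (h1.symm.trans (res_congr_tuple G V c' (i := i2 ∘ Fin.succAbove 0) ?_ _ _))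
      · funext k; fin_cases k; rfl
      · funext k; fin_cases k; rfl)
  refine ⟨σ, fun i => ?_⟩
  have hi : i = fun _ => i 0 := funext fun k => by fin_cases k; rfl
  rw [hi]
  exact hσ (i 0)

variable {R R' : CommRingCat.{u}} {X' : Scheme.{u}} (g' : X' ⟶ X) (φ : R ⟶ R')

/-- Germs of global sections of a flat base change lie in the span of the germs of inverse images. -/
theorem germ_mem_span_pullStalk (f : X ⟶ Spec R) (f' : X' ⟶ Spec R') (hc : IsPullback g' f' f (Spec.map φ))
    (hφ : φ.hom.Flat) [IsSeparated f] [QuasiCompact f] [Coh.IsQCoh G]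
    (s' : Γ((Scheme.Modules.pullback g').obj G, ⊤)) (x' : X') :
    ((Scheme.Modules.pullback g').obj G).presheaf.germ ⊤ x' (Opens.mem_top x') s' ∈
      Submodule.span (X'.presheaf.stalk x')
        (Set.range fun σ : Γ(G, ⊤) => pullStalk g' G x' (G.presheaf.germ ⊤ (g' x') (Opens.mem_top _) σ)) := by
  letI : X.Over (Spec (CommRingCat.of R)) := ⟨f⟩
  letI : X'.Over (Spec (CommRingCat.of R')) := ⟨f'⟩
  let gG := (Scheme.Modules.pullback g').obj G
  obtain ⟨ι, hι, V, hcov, haff⟩ := FormalLib.exists_affine_cover (A := R) f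
  haveI := hι
  let V' := ProperFin.preCov g' V
  letI := φ.hom.toAlgebra
  haveI : Module.Flat R R' := hφ
  letI := Module.compHom (Coch (str R' X') gG V' 0) φ.hom
  haveI : IsScalarTower R R' (Coch (str R' X') gG V' 0) := .of_algebraMap_smul fun _ _ => rfl
  letI := Module.compHom (Coch (str R' X') gG V' (0 + 1)) φ.hom
  haveI : IsScalarTower R R' (Coch (str R' X') gG V' (0 + 1)) := .of_algebraMap_smul fun _ _ => rfl
  let e₀ := (isBaseChange_pullCoch g' φ hc V G haff 0).equiv
  let e₁ := (isBaseChange_pullCoch g' φ hc V G haff (0 + 1)).equiv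
  let d := dL (str R X) G V 0
  have hΘ : ∀ z, dL (str R' X') gG V' 0 (e₀ z) = e₁ (d.baseChange R' z) := fun z => by
    induction z using TensorProduct.induction_on with
    | zero => simp only [map_zero]
    | tmul b x =>
      rw [LinearMap.baseChange_tmul]
      refine (congrArg _ (IsBaseChange.equiv_tmul (isBaseChange_pullCoch g' φ hc V G haff 0) b x)).trans ?_
      refine Eq.trans ?_ (IsBaseChange.equiv_tmul (isBaseChange_pullCoch g' φ hc V G haff (0 + 1)) b _).symm
      exact (map_smul (dL (str R' X') gG V' 0) b _).trans (congrArg (b • ·) (dL_pullCoch g' φ hc V G 0 x))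
    | add u v hu hv => simp only [map_add, hu, hv]
  let c : Coch (str R' X') gG V' 0 := fun i =>
    (gG.presheaf.map (homOfLE (le_top : inter V' i ≤ ⊤)).op s' :)
  have hcz : dL (str R' X') gG V' 0 c = 0 := by
    rw [dL_eq]
    funext i
    rw [cdiff_apply, Fin.sum_univ_two]
    simp only [Fin.val_zero, Fin.val_one, pow_zero, pow_one, one_smul, neg_smul]
    refine add_neg_eq_zero.2 ?_
    show gG.presheaf.map _ (gG.presheaf.map _ s') = gG.presheaf.map _ (gG.presheaf.map _ s')
    rw [ParaFLib.res_res, ParaFLib.res_res]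
  obtain ⟨z, hz⟩ := e₀.surjective c
  have hdz : d.baseChange R' z = 0 := e₁.injective (by rw [← hΘ, hz, hcz, map_zero])
  obtain ⟨w, hw⟩ : ∃ w : R' ⊗[R] LinearMap.ker d, (LinearMap.ker d).subtype.lTensor R' w = z :=
    ((Module.Flat.lTensor_exact R' (f := (LinearMap.ker d).subtype) (g := d)
      (LinearMap.exact_subtype_ker_map d)) z).1 hdz
  obtain ⟨i, hxi⟩ : ∃ i : Fin (0 + 1) → ι, x' ∈ inter V' i := by
    obtain ⟨a, ha⟩ := Opens.mem_iSup.1 (hcov (Opens.mem_top (g' x')))
    exact ⟨fun _ => a, (mem_inter_iff V').2 fun _ => ha⟩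
  suffices key : ∀ w : R' ⊗[R] LinearMap.ker d,
      gG.presheaf.germ (inter V' i) x' hxi (e₀ ((LinearMap.ker d).subtype.lTensor R' w) i) ∈
        Submodule.span (X'.presheaf.stalk x')
          (Set.range fun σ : Γ(G, ⊤) => pullStalk g' G x' (G.presheaf.germ ⊤ (g' x') (Opens.mem_top _) σ)) by
    have h := key w
    rw [hw, hz] at h
    show gG.presheaf.germ ⊤ x' (Opens.mem_top x') s' ∈ _
    rwa [show c i = gG.presheaf.map (homOfLE (le_top : inter V' i ≤ ⊤)).op s' from rfl,
      TopCat.Presheaf.germ_res_apply] at h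
  intro w
  induction w using TensorProduct.induction_on with
  | zero =>
    rw [map_zero, map_zero]
    exact (map_zero (gG.presheaf.germ (inter V' i) x' hxi).hom).symm ▸ zero_mem _
  | add u v hu hv =>
    rw [map_add, map_add]
    exact (map_add (gG.presheaf.germ (inter V' i) x' hxi).hom _ _).symm ▸ add_mem hu hv
  | tmul b k =>
    obtain ⟨σ, hσ⟩ := exists_glue_cocycle G f V hcov k.1 k.2
    rw [LinearMap.lTensor_tmul, IsBaseChange.equiv_tmul]
    show gG.presheaf.germ (inter V' i) x' hxi
      ((φV (Coh.toGlobal (str R' X')) (inter V' i) b) • pullMap g' G (ProperFin.inter_preCov g' V i).ge (k.1 i)) ∈ _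
    rw [ParaFLib.germ_smul']
    refine Submodule.smul_mem _ _ (Submodule.subset_span ⟨σ, ?_⟩)
    show pullStalk g' G x' _ = _
    rw [← hσ i, ← pullStalk_germ' g' G x' (W := inter V i)
      (show g' x' ∈ inter V i from (ProperFin.inter_preCov g' V i).ge hxi) hxi,
      TopCat.Presheaf.germ_res_apply]

end Groth.Agent.AmpleLib
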