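import Groth.Agent.AmpleLib.RelLocal
import Groth.Agent.Thicken.Affine

/-! Ampleness along thickenings. -/

set_option autoImplicit false
set_option linter.style.haveILetI false
universe u

open CategoryTheory CategoryTheory.Limits AlgebraicGeometry TopologicalSpace Opposite
open Groth.Agent.ParaFLib Groth.Agent.PullbackMod Groth.Agent.DCohLib

noncomputable section

namespace Groth.Agent.AmpleLib

variable {X Z : Scheme.{u}}


theorem res_res' {a b c : X.Opens} (h₁ : b ≤ a) (h₂ : c ≤ b) (r : Γ(X, a)) :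
    X.presheaf.map (homOfLE h₂).op (X.presheaf.map (homOfLE h₁).op r) =
      X.presheaf.map (homOfLE (h₂.trans h₁)).op r :=
  Thicken.res_res h₁ h₂ r

/-- A power of a section over `D` which is infinitesimally given by global data extends, with locus `D`. -/
theorem exists_genLocus_eq_of_nilpotent [CompactSpace X] [QuasiSeparatedSpace X] {M : X.Modules}
    (D : X.Opens) (g : Γ(M, D)) {ι : Type u} [Fintype ι] (W : ι → X.Opens)
    (hW : ∀ j, IsAffineOpen (W j)) (hcov : ∀ x, ∃ j, x ∈ W j) (e : ∀ j, Γ(M, W j)) (he : ∀ j, Gen (W j) (e j))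
    (s : ∀ j, Γ(X, W j)) (hs : ∀ j, X.basicOpen (s j) = W j ⊓ D)
    (hnil : ∀ j, ∃ u : Γ(X, X.basicOpen (s j)),
      u • M.presheaf.map (homOfLE (X.basicOpen_le (s j))).op (e j) =
        M.presheaf.map (homOfLE ((hs j).le.trans inf_le_right)).op g ∧
      IsNilpotent (u - X.presheaf.map (homOfLE (X.basicOpen_le (s j))).op (s j))) :
    ∃ (n K : ℕ) (t : Coh.structureModule X ⟶ CohB1.tensorPow (CohB1.tensorPow M (n + 1)) (K + 1)),
      CohB1.genLocus _ t = D := by
  classical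
  choose v hv hvn using hnil
  have hk : ∀ j, ∃ k : ℕ, ∀ n, k ≤ n → ∃ a : Γ(X, W j),
      X.presheaf.map (homOfLE (X.basicOpen_le (s j))).op (s j * a) = v j ^ (n + 1) := fun j => by
    letI := (X.presheaf.map (homOfLE (X.basicOpen_le (s j))).op).hom.toAlgebra
    haveI := (hW j).isLocalization_basicOpen (s j)
    exact Thicken.exists_bound (A := Γ(X, W j)) (B := Γ(X, X.basicOpen (s j))) (s j) _ (hvn j)
  choose k hk using hk
  let n := Finset.univ.sup k
  choose a ha using fun j => hk j n (Finset.le_sup (Finset.mem_univ j))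
  let c : ∀ j, Γ(X, W j) := fun j => s j * a j
  have hc : ∀ j, X.basicOpen (c j) = W j ⊓ D := fun j => by
    refine le_antisymm (((X.basicOpen_mul _ _).le.trans inf_le_left).trans (hs j).le) ?_
    intro z hz
    have hz' : z ∈ X.basicOpen (s j) := (hs j).ge hz
    have hu : IsUnit (v j) := by
      have := (hvn j).isUnit_add_left_of_commute (RingedSpace.isUnit_res_basicOpen _ (s j)) (Commute.all _ _)
      convert this using 1
      exact (eq_sub_iff_add_eq'.1 rfl).symm
    have hz2 : z ∈ X.basicOpen (X.presheaf.map (homOfLE (X.basicOpen_le (s j))).op (c j)) := by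
      rw [ha j]
      exact (Scheme.basicOpen_of_isUnit X (hu.pow (n + 1))).ge hz'
    rw [Scheme.basicOpen_res] at hz2
    exact hz2.2
  let M' := CohB1.tensorPow M (n + 1)
  let E : ∀ j, Γ(M', W j) := fun j => powLoc (e j) (n + 1)
  have hE : ∀ j, Gen (W j) (E j) := fun j => gen_powLoc (he j) (n + 1)
  let b : ∀ j, Γ(M', W j) := fun j => c j • E j
  have hbD : ∀ j (O : X.Opens) (hO : O ≤ W j) (hOD : O ≤ D),
      M'.presheaf.map (homOfLE hO).op (b j) = powLoc (M.presheaf.map (homOfLE hOD).op g) (n + 1) := by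
    intro j O hO hOD
    have hOs : O ≤ X.basicOpen (s j) := fun z hz => (hs j).ge ⟨hO hz, hOD hz⟩
    have h1 := congrArg (X.presheaf.map (homOfLE hOs).op) (ha j)
    rw [map_pow, res_res'] at h1
    have h2 := congrArg (M.presheaf.map (homOfLE hOs).op) (hv j)
    rw [M.map_smul, res_res, res_res] at h2
    rw [M'.map_smul, powLoc_res, ← h2, powLoc_smul, h1]
  have hov : ∀ i j : ι, ∃ (x y : Γ(X, W i ⊓ W j)) (m m' : ℕ),
      x • M'.presheaf.map (homOfLE (inf_le_left : W i ⊓ W j ≤ W i)).op (E i) =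
        M'.presheaf.map (homOfLE (inf_le_left : W i ⊓ W j ≤ W i)).op (b i) ∧
      y • M'.presheaf.map (homOfLE (inf_le_left : W i ⊓ W j ≤ W i)).op (E i) =
        M'.presheaf.map (homOfLE (inf_le_right : W i ⊓ W j ≤ W j)).op (b j) ∧
      x ^ m * (x - y) = 0 ∧ y ^ m' * (y - x) = 0 := by
    intro i j
    obtain ⟨y, hy⟩ := (hE i (W i ⊓ W j) inf_le_left).2
      (M'.presheaf.map (homOfLE (inf_le_right : W i ⊓ W j ≤ W j)).op (b j))
    change y • M'.presheaf.map (homOfLE (inf_le_left : W i ⊓ W j ≤ W i)).op (E i) = _ at hy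
    let x : Γ(X, W i ⊓ W j) := X.presheaf.map (homOfLE inf_le_left).op (c i)
    have hx : x • M'.presheaf.map (homOfLE (inf_le_left : W i ⊓ W j ≤ W i)).op (E i) =
        M'.presheaf.map (homOfLE (inf_le_left : W i ⊓ W j ≤ W i)).op (b i) := (M'.map_smul _ _ _).symm
    have hzero : ∀ (O : X.Opens) (hle : O ≤ W i ⊓ W j), O ≤ D →
        X.presheaf.map (homOfLE hle).op (x - y) = 0 := by
      intro O hle hOD
      apply (hE i O (hle.trans inf_le_left)).1
      show X.presheaf.map (homOfLE hle).op (x - y) • M'.presheaf.map (homOfLE (hle.trans inf_le_left)).op (E i) =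
        (0 : Γ(X, O)) • M'.presheaf.map (homOfLE (hle.trans inf_le_left)).op (E i)
      rw [zero_smul, map_sub, sub_smul]
      have h1 := congrArg (M'.presheaf.map (homOfLE hle).op) hx
      have h2 := congrArg (M'.presheaf.map (homOfLE hle).op) hy
      rw [M'.map_smul, res_res, res_res] at h1 h2
      rw [h1, h2, hbD i O _ hOD, hbD j O _ hOD, sub_self]
    have hxD : X.basicOpen x ≤ D := by
      rw [Scheme.basicOpen_res, hc]
      exact inf_le_right.trans inf_le_right
    have hyD : X.basicOpen y ≤ D := by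
      intro z hz
      have hzW : z ∈ W i ⊓ W j := X.basicOpen_le y hz
      let y' : Γ(X, W i ⊓ W j) := X.presheaf.map (homOfLE inf_le_right).op (c j)
      obtain ⟨w, hwu, hw⟩ := ((hE j).res (inf_le_right : W i ⊓ W j ≤ W j)).exists_unit
        ((hE i).res (inf_le_left : W i ⊓ W j ≤ W i))
      have hyy : y = y' * w := by
        apply (hE i (W i ⊓ W j) inf_le_left).1
        show y • _ = (y' * w) • _
        rw [mul_smul, hw, hy]
        exact M'.map_smul _ _ _
      have hz' : z ∈ X.basicOpen (y' * w) := hyy ▸ hz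
      rw [Scheme.basicOpen_mul] at hz'
      have hz'' := hz'.1
      rw [Scheme.basicOpen_res, hc] at hz''
      exact hz''.2.2
    have hcpt : IsCompact ((W i ⊓ W j : X.Opens) : Set X) :=
      QuasiSeparatedSpace.inter_isCompact _ _ (W i).2 (hW i).isCompact (W j).2 (hW j).isCompact
    obtain ⟨m, hm⟩ := exists_pow_mul_eq_zero_of_res_basicOpen_eq_zero_of_isCompact X hcpt (x - y) x
      (hzero _ (X.basicOpen_le x) hxD)
    obtain ⟨m', hm'⟩ := exists_pow_mul_eq_zero_of_res_basicOpen_eq_zero_of_isCompact X hcpt (y - x) y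
      (by rw [← neg_sub x y]; show X.presheaf.map _ (-(x - y)) = 0
          rw [map_neg, hzero _ (X.basicOpen_le y) hyD, neg_zero])
    exact ⟨x, y, m, m', hx, hy, hm, hm'⟩
  choose x y m m' hx hy hm hm' using hov
  let K := Finset.univ.sup fun p : ι × ι => max (m p.1 p.2) (m' p.1 p.2)
  let P := CohB1.tensorPow M' (2 * K + 1)
  let F : TopCat.Sheaf Ab.{u} X.carrier := ⟨P.presheaf, P.isSheaf⟩
  obtain ⟨G, hG, -⟩ := F.existsUnique_gluing' W ⊤ (fun j => homOfLE le_top)
    (fun z _ => Opens.mem_iSup.2 (hcov z)) (fun j => powLoc (b j) (2 * K + 1)) (by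
      intro i j
      show P.presheaf.map (homOfLE (inf_le_left : W i ⊓ W j ≤ W i)).op _ =
        P.presheaf.map (homOfLE (inf_le_right : W i ⊓ W j ≤ W j)).op _
      rw [powLoc_res, powLoc_res, ← hx i j, ← hy i j, powLoc_smul, powLoc_smul]
      have hK : max (m i j) (m' i j) ≤ K :=
        Finset.le_sup (f := fun p : ι × ι => max (m p.1 p.2) (m' p.1 p.2)) (Finset.mem_univ (i, j))
      rw [Thicken.pow_eq_pow ((le_max_left _ _).trans hK) ((le_max_right _ _).trans hK) (hm i j) (hm' i j)])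
  refine ⟨n, 2 * K, secHom P G, ?_⟩
  have hloc : ∀ j, CohB1.genLocus P (secHom P G) ⊓ W j = W j ⊓ D := fun j => by
    have hres : (c j ^ (2 * K + 1)) • powLoc (E j) (2 * K + 1) = resT (sec (secHom P G)) (W j) := by
      rw [sec_secHom, ← powLoc_smul]
      exact (hG j).symm
    rw [genLocus_inf_eq_basicOpen (secHom P G) (gen_powLoc (hE j) _) hres,
      Scheme.basicOpen_pow _ _ (Nat.succ_pos _), hc]
  ext z
  obtain ⟨j, hj⟩ := hcov z
  exact ⟨fun h => ((hloc j).le ⟨h, hj⟩).2, fun h => ((hloc j).ge ⟨hj, h⟩).1⟩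

/-- Ampleness can be checked on a thickened closed subscheme. -/
theorem isAmple_of_surjective_closedImmersion (i : Z ⟶ X) [IsClosedImmersion i] (hi : Function.Surjective i)
    {L : X.Modules} (hL : PicF.IsInvertible L) (h : CohB1.IsAmple ((Scheme.Modules.pullback i).obj L)) :
    CohB1.IsAmple L := by
  classical
  haveI := h.2.1
  haveI := quasiSeparatedSpace_of_isAmple h
  haveI := Thicken.compactSpace i hi
  haveI := Thicken.quasiSeparatedSpace i hi
  refine ⟨hL, inferInstance, fun x => ?_⟩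
  obtain ⟨z, rfl⟩ := hi x
  obtain ⟨t₀, W₀, e₀, hWe₀, hcov₀⟩ := exists_affine_gen_cover hL (O := (⊤ : X.Opens)) isCompact_univ
  obtain ⟨x₀, hx₀, hzx₀⟩ := Set.mem_iUnion₂.1 (hcov₀ (Opens.mem_top (i z)))
  obtain ⟨n, σ, hzσ, hσle, hσa⟩ := exists_small_genLocus h (U := i ⁻¹ᵁ W₀ x₀) (x := z) hzx₀
  let M := CohB1.tensorPow L (n + 1)
  have hM : PicF.IsInvertible M := isInvertible_tensorPow hL _
  haveI := Groth.Agent.InvExt.isQCoh_of_isInvertible hM
  let σ' : Coh.structureModule Z ⟶ (Scheme.Modules.pullback i).obj M := σ ≫ (pullPow i L (n + 1)).symm.hom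
  set S := CohB1.genLocus _ σ' with hS
  have hSeq : S = CohB1.genLocus _ σ := genLocus_comp_iso _ _
  have hzS : z ∈ S := hSeq.ge hzσ
  have hSle : S ≤ i ⁻¹ᵁ W₀ x₀ := hSeq.le.trans hσle
  have hSa : IsAffineOpen S := hSeq ▸ hσa
  let D : X.Opens := ⟨i '' (S : Set Z), (isHomeomorph_iff_isEmbedding_surjective.2 ⟨i.isClosedEmbedding.isEmbedding, hi⟩).isOpenMap _ S.2⟩
  have hD : i ⁻¹ᵁ D = S := Opens.ext (i.isClosedEmbedding.injective.preimage_image _)
  have hDW : D ≤ W₀ x₀ := by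
    rintro _ ⟨w, hw, rfl⟩
    exact hSle hw
  have hDa : IsAffineOpen D := by
    haveI : IsAffine (i ⁻¹ᵁ D).toScheme := by rw [hD]; exact hSa
    haveI : IsClosedImmersion (i ∣_ D) := IsZariskiLocalAtTarget.restrict (P := @IsClosedImmersion) inferInstance D
    haveI : Surjective i := ⟨hi⟩
    haveI : Surjective (i ∣_ D) := IsZariskiLocalAtTarget.restrict (P := @Surjective) inferInstance D
    exact Thicken.isAffine (i ∣_ D) (i ∣_ D).surjective
  let E : ∀ j : {x // x ∈ t₀}, Γ(M, W₀ j.1) := fun j => powLoc (e₀ j.1) (n + 1)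
  have hE : ∀ j, Gen (W₀ j.1) (E j) := fun j => gen_powLoc (hWe₀ j.1 j.2).2.2 _
  let E' : ∀ j : {x // x ∈ t₀}, Γ((Scheme.Modules.pullback i).obj M, i ⁻¹ᵁ W₀ j.1) := fun j => pullMap i M le_rfl (E j)
  have hE' : ∀ j, Gen (i ⁻¹ᵁ W₀ j.1) (E' j) := fun j => gen_of_germ fun w hw => by
    rw [← pullStalk_germ' i M w (show i w ∈ W₀ j.1 from hw) hw le_rfl]
    exact bijective_pullStalk i w ((hE j).bijective_germ _ _)
  have hlift : ∀ j : {x // x ∈ t₀}, ∃ sj : Γ(X, W₀ j.1),
      (i.app (W₀ j.1) sj) • E' j = resT (sec σ') (i ⁻¹ᵁ W₀ j.1) := fun j => by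
    obtain ⟨c, hc⟩ := (hE' j _ le_rfl).2 (resT (sec σ') (i ⁻¹ᵁ W₀ j.1))
    simp only [ParaFLib.res_self] at hc
    obtain ⟨sj, rfl⟩ := i.app_surjective (W₀ j.1) (hWe₀ j.1 j.2).1 c
    exact ⟨sj, hc⟩
  choose s hs' using hlift
  have hs : ∀ j, X.basicOpen (s j) = W₀ j.1 ⊓ D := fun j => by
    refine Opens.ext (Set.ext fun y => ?_)
    obtain ⟨w, rfl⟩ := hi y
    have h1 : i ⁻¹ᵁ X.basicOpen (s j) = S ⊓ i ⁻¹ᵁ W₀ j.1 := by
      rw [Scheme.preimage_basicOpen, hS, genLocus_inf_eq_basicOpen σ' (hE' j) (hs' j)]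
    constructor
    · intro hw
      have := h1.le (show w ∈ i ⁻¹ᵁ X.basicOpen (s j) from hw)
      exact ⟨this.2, Set.mem_image_of_mem _ this.1⟩
    · intro hw
      exact h1.ge ⟨hD.le (show w ∈ i ⁻¹ᵁ D from hw.2), hw.1⟩
  let j₀ : {x // x ∈ t₀} := ⟨x₀, hx₀⟩
  let g : Γ(M, D) := M.presheaf.map (homOfLE hDW).op (s j₀ • E j₀)
  have hsec : ∀ j (O : X.Opens) (hO : O ≤ W₀ j.1),
      pullMap i M (le_refl (i ⁻¹ᵁ O)) (M.presheaf.map (homOfLE hO).op (s j • E j)) = resT (sec σ') (i ⁻¹ᵁ O) := by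
    intro j O hO
    rw [← pullMap_res i M (le_refl (i ⁻¹ᵁ W₀ j.1)) hO (i.preimage_mono hO) le_rfl, pullMap_smul]
    have := hs' j
    rw [Scheme.Hom.app_eq_appLE] at this
    refine (congrArg _ this).trans ?_
    rw [resT, resT, ParaFLib.res_res]
  obtain ⟨N, K, t, ht⟩ := exists_genLocus_eq_of_nilpotent (M := M) D g (fun j : {x // x ∈ t₀} => W₀ j.1)
    (fun j => (hWe₀ j.1 j.2).1) (fun y => by
      obtain ⟨j, hj, hy⟩ := Set.mem_iUnion₂.1 (hcov₀ (Opens.mem_top y))
      exact ⟨⟨j, hj⟩, hy⟩) E hE s hs fun j => by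
    obtain ⟨u, hu⟩ := (hE j (X.basicOpen (s j)) (X.basicOpen_le _)).2
      (M.presheaf.map (homOfLE ((hs j).le.trans inf_le_right)).op g)
    refine ⟨u, hu, Thicken.isNilpotent_of_app_eq_zero i hi _
      ((hWe₀ j.1 j.2).1.basicOpen (s j)).isCompact _ ?_⟩
    change u • M.presheaf.map (homOfLE (X.basicOpen_le (s j))).op (E j) = _ at hu
    set B := X.basicOpen (s j)
    have hgen := (hE' j).res (i.preimage_mono (X.basicOpen_le (s j)))
    apply (hgen (i ⁻¹ᵁ B) le_rfl).1
    show i.app B _ • _ = (0 : Γ(Z, i ⁻¹ᵁ B)) • _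
    rw [zero_smul, map_sub, sub_smul, sub_eq_zero, ParaFLib.res_self]
    have e1 := congrArg (pullMap i M (le_refl (i ⁻¹ᵁ B))) hu
    rw [pullMap_smul, res_res, hsec j₀ B, ← hsec j B (X.basicOpen_le _), M.map_smul, pullMap_smul,
      ← pullMap_res i M (le_refl (i ⁻¹ᵁ W₀ j.1)) (X.basicOpen_le (s j))
        (i.preimage_mono (X.basicOpen_le (s j))) le_rfl] at e1
    simpa only [Scheme.Hom.app_eq_appLE] using e1
  obtain ⟨q, hq⟩ : ∃ q, (n + 1) * ((N + 1) * (K + 1)) = q + 1 :=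
    ⟨(n + 1) * ((N + 1) * (K + 1)) - 1,
      (Nat.succ_pred_eq_of_pos (Nat.mul_pos (Nat.succ_pos n) (Nat.mul_pos (Nat.succ_pos N) (Nat.succ_pos K)))).symm⟩
  refine ⟨q, t ≫ (powMul M (N + 1) (K + 1) ≪≫ powMul L (n + 1) ((N + 1) * (K + 1)) ≪≫
    eqToIso (congrArg (CohB1.tensorPow L) hq)).hom, ?_⟩
  rw [genLocus_comp_iso, ht]
  exact ⟨⟨z, hzS, rfl⟩, hDa⟩

/-- `L` is ample iff its restriction to a thickened closed subscheme is. -/
theorem isAmple_iff_of_surjective_closedImmersion (i : Z ⟶ X) [IsClosedImmersion i]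
    (hi : Function.Surjective i) {L : X.Modules} (hL : PicF.IsInvertible L) :
    CohB1.IsAmple ((Scheme.Modules.pullback i).obj L) ↔ CohB1.IsAmple L :=
  ⟨isAmple_of_surjective_closedImmersion i hi hL, isAmple_pullback i⟩

/-- Relative ampleness along a morphism of thickenings. -/
theorem isRelAmple_iff_of_thickening {S S' X' : Scheme.{u}} (iX : X ⟶ X') (iS : S ⟶ S') (f : X ⟶ S) (f' : X' ⟶ S')
    [IsClosedImmersion iX] [IsClosedImmersion iS] (hX : Function.Surjective iX) (hS : Function.Surjective iS)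
    (w : iX ≫ f' = f ≫ iS) {L' : X'.Modules} (hL' : PicF.IsInvertible L') :
    RelAmple.IsRelAmple f' L' ↔ RelAmple.IsRelAmple f ((Scheme.Modules.pullback iX).obj L') := by
  have key : ∀ V' : S'.Opens, AmpleOn L' (f' ⁻¹ᵁ V') ↔
      AmpleOn ((Scheme.Modules.pullback iX).obj L') (f ⁻¹ᵁ (iS ⁻¹ᵁ V')) := by
    intro V'
    rw [← Scheme.Hom.comp_preimage, ← w, Scheme.Hom.comp_preimage]
    set U := f' ⁻¹ᵁ V'
    haveI : IsClosedImmersion (iX ∣_ U) := IsZariskiLocalAtTarget.restrict (P := @IsClosedImmersion) inferInstance U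
    haveI : Surjective iX := ⟨hX⟩
    haveI : Surjective (iX ∣_ U) := IsZariskiLocalAtTarget.restrict (P := @Surjective) inferInstance U
    let e := pullRestr iX (iX ⁻¹ᵁ U).ι U.ι (iX ∣_ U) (morphismRestrict_ι iX U).symm L'
    rw [AmpleOn, AmpleOn, ← isAmple_iff_of_surjective_closedImmersion (iX ∣_ U) (iX ∣_ U).surjective
      (isInvertible_restrict U.ι hL')]
    exact ⟨isAmple_of_iso e.symm, isAmple_of_iso e⟩
  have hqc : QuasiCompact f ↔ QuasiCompact f' := by
    haveI : Surjective iX := ⟨hX⟩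
    constructor
    · intro h
      rw [quasiCompact_iff]
      intro U hU hUc
      have h1 := (f.isCompact_preimage (U := iS ⁻¹ᵁ ⟨U, hU⟩)
        (iS.isClosedEmbedding.isCompact_preimage hUc)).image iX.continuous
      rw [← Scheme.Hom.comp_preimage, ← w, Scheme.Hom.comp_preimage] at h1
      change IsCompact (iX '' (iX ⁻¹' (f' ⁻¹' U))) at h1
      rwa [Set.image_preimage_eq _ hX] at h1
    · intro h
      haveI : QuasiCompact (f ≫ iS) := by rw [← w]; infer_instance
      exact QuasiCompact.of_comp f iS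
  constructor
  · intro h
    haveI := hqc.2 h.1
    refine ⟨inferInstance, fun V => ?_⟩
    let V' : S'.Opens := ⟨iS '' (V.1 : Set S),
      (isHomeomorph_iff_isEmbedding_surjective.2 ⟨iS.isClosedEmbedding.isEmbedding, hS⟩).isOpenMap _ V.1.2⟩
    have hV : iS ⁻¹ᵁ V' = V.1 := Opens.ext (iS.isClosedEmbedding.injective.preimage_image _)
    have hV'a : IsAffineOpen V' := by
      haveI : IsAffine (iS ⁻¹ᵁ V').toScheme := by rw [hV]; exact V.2
      haveI : IsClosedImmersion (iS ∣_ V') :=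
        IsZariskiLocalAtTarget.restrict (P := @IsClosedImmersion) inferInstance V'
      haveI : Surjective iS := ⟨hS⟩
      haveI : Surjective (iS ∣_ V') := IsZariskiLocalAtTarget.restrict (P := @Surjective) inferInstance V'
      exact Thicken.isAffine (iS ∣_ V') (iS ∣_ V').surjective
    have h1 := (key V').1 (h.2 ⟨V', hV'a⟩)
    rwa [hV] at h1
  · intro h
    haveI := hqc.1 h.1
    exact ⟨inferInstance, fun V' => (key V'.1).2 (h.2 ⟨iS ⁻¹ᵁ V'.1, V'.2.preimage iS⟩)⟩

end Groth.Agent.AmpleLib
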