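import Groth.Agent.DVRCrit.Centre

/-! The valuative criterion of properness through arbitrary valuation rings of the function field. -/

set_option autoImplicit false
set_option linter.style.haveILetI false
universe u

open CategoryTheory CategoryTheory.Limits AlgebraicGeometry TopologicalSpace IsLocalRing Opposite

namespace Groth.Agent.DVRCrit

variable {X Y : Scheme.{u}} [IsIntegral X] (f : X ⟶ Y)

/-- A dominated valuation ring over `V` has a centre over `V`. -/
theorem exists_centre_of_dominates [Y.IsSeparated] {V : Y.Opens} (hV : IsAffineOpen V)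
    (h : f (genericPoint X) ∈ V) (R : ValuationSubring X.functionField) (hC : ∀ c, toFF f V h c ∈ R)
    (hf : ∀ (y : Y) (hy : f (genericPoint X) ⤳ y),
        ((∀ a, (Y.presheaf.stalkSpecializes hy ≫ f.stalkMap (genericPoint X)) a ∈ R) ∧
          ∀ a ∈ maximalIdeal (Y.presheaf.stalk y),
            R.valuation ((Y.presheaf.stalkSpecializes hy ≫ f.stalkMap (genericPoint X)) a) < 1) →
        ∃ x : X, (∀ a : X.presheaf.stalk x, algebraMap (X.presheaf.stalk x) X.functionField a ∈ R) ∧
          ∀ a ∈ maximalIdeal (X.presheaf.stalk x),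
            R.valuation (algebraMap (X.presheaf.stalk x) X.functionField a) < 1) :
    ∃ x : X, f x ∈ V ∧ ∀ a : X.presheaf.stalk x, algebraMap (X.presheaf.stalk x) X.functionField a ∈ R := by
  obtain ⟨y, hy, φ, hyV, hφ, hφe⟩ := exists_centre_base f hV h R hC
  obtain ⟨x, hx1, hx2⟩ := hf y hy ⟨fun a => hφe a ▸ (φ a).2, fun a ha => by
    rw [← hφe, ← ValuationSubring.mem_nonunits_iff]
    exact ValuationSubring.coe_mem_nonunits_iff.mpr (fun hu => ha (hφ.map_nonunit a hu))⟩
  refine ⟨x, ?_, hx1⟩
  let ψ : X.presheaf.stalk x →+* R := (algebraMap (X.presheaf.stalk x) X.functionField).codRestrict R.toSubring hx1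
  have : IsLocalHom ψ := ⟨fun a ha => by
    by_contra hu
    exact (ValuationSubring.coe_mem_nonunits_iff.mp (R.mem_nonunits_iff.mpr (hx2 a hu))) ha⟩
  let j := Spec.map (CommRingCat.ofHom R.subtype)
  let g₁ := Spec.map (CommRingCat.ofHom ψ) ≫ X.fromSpecStalk x
  let g₂ := Spec.map (CommRingCat.ofHom φ) ≫ Y.fromSpecStalk y
  have h1 : j ≫ g₁ ≫ f = X.fromSpecStalk (genericPoint X) ≫ f := by
    simp only [j, g₁, Category.assoc, ← Spec.map_comp_assoc]
    rw [← Scheme.SpecMap_stalkSpecializes_fromSpecStalk (genericPoint_specializes x)]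
    rfl
  have h2 : j ≫ g₂ = X.fromSpecStalk (genericPoint X) ≫ f := by
    rw [← Scheme.SpecMap_stalkMap_fromSpecStalk, ← Scheme.SpecMap_stalkSpecializes_fromSpecStalk hy]
    simp only [j, g₂, ← Spec.map_comp_assoc]
    congr 2
    exact CommRingCat.hom_ext (RingHom.ext hφe)
  have : IsDominant j := by
    rw [isDominant_iff]
    exact PrimeSpectrum.denseRange_comap_iff_ker_le_nilRadical _ |>.mpr
      (((RingHom.injective_iff_ker_eq_bot _).mp Subtype.val_injective).le.trans bot_le)
  have he : g₁ ≫ f = g₂ := ext_of_isDominant (ι := j) (h1.trans h2.symm)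
  have h3 : (g₁ ≫ f) (closedPoint R) = f x := by
    simp only [g₁, Scheme.Hom.comp_apply]
    exact congrArg f ((congrArg _ (comap_closedPoint (S := R) ψ)).trans X.fromSpecStalk_closedPoint)
  have h4 : g₂ (closedPoint R) = y := by
    simp only [g₂, Scheme.Hom.comp_apply]
    exact (congrArg _ (comap_closedPoint (S := R) φ)).trans Y.fromSpecStalk_closedPoint
  rw [← h3, he, h4]
  exact hyV


/-- Universal closedness from centres of all valuation rings of the function field. -/
theorem universallyClosed_of_dominates_all [Y.IsSeparated] [LocallyOfFiniteType f] [QuasiCompact f] [IsSeparated f]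
    (hf : ∀ (R : ValuationSubring X.functionField), R ≠ ⊤ → ∀ (y : Y) (hy : f (genericPoint X) ⤳ y),
        ((∀ a, (Y.presheaf.stalkSpecializes hy ≫ f.stalkMap (genericPoint X)) a ∈ R) ∧
          ∀ a ∈ maximalIdeal (Y.presheaf.stalk y),
            R.valuation ((Y.presheaf.stalkSpecializes hy ≫ f.stalkMap (genericPoint X)) a) < 1) →
        ∃ x : X, (∀ a : X.presheaf.stalk x, algebraMap (X.presheaf.stalk x) X.functionField a ∈ R) ∧
          ∀ a ∈ maximalIdeal (X.presheaf.stalk x),
            R.valuation (algebraMap (X.presheaf.stalk x) X.functionField a) < 1) :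
    UniversallyClosed f := by
  refine UniversallyClosed.of_valuativeCriterion f fun S => ?_
  obtain ⟨_, ⟨V, hV, rfl⟩, hyV, -⟩ :=
    Y.isBasis_affineOpens.exists_subset_of_mem_open (Set.mem_univ (S.i₂ (closedPoint S.R))) isOpen_univ
  refine exists_lift_of_centre f S hV hyV fun hξV W hW => ?_
  by_cases hW' : W = ⊤
  · obtain ⟨_, ⟨U, hU, rfl⟩, hξU, hle⟩ :=
      X.isBasis_affineOpens.exists_subset_of_mem_open hξV (f ⁻¹ᵁ V).2
    exact ⟨U, hU, hle, hξU, fun b => hW' ▸ ValuationSubring.mem_top _⟩
  · obtain ⟨x, hxV, hx⟩ := exists_centre_of_dominates f hV hξV W hW (hf W hW')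
    obtain ⟨_, ⟨U, hU, rfl⟩, hxU, hle⟩ :=
      X.isBasis_affineOpens.exists_subset_of_mem_open (show x ∈ f ⁻¹ᵁ V from hxV) (f ⁻¹ᵁ V).2
    refine ⟨U, hU, hle, gen_mem hxU, fun b => ?_⟩
    have h1 := hx (X.presheaf.germ U x hxU b)
    have h2 : algebraMap (X.presheaf.stalk x) X.functionField (X.presheaf.germ U x hxU b) =
        X.presheaf.germ U _ (gen_mem hxU) b :=
      congrFun (congrArg (fun φ : Γ(X, U) ⟶ X.functionField => (φ : Γ(X, U) → X.functionField))
        (X.presheaf.germ_stalkSpecializes hxU (genericPoint_specializes x))) b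
    exact h2 ▸ h1

end Groth.Agent.DVRCrit
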